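import Cfsg.Agent.Lib.CharTools.Basic
import Cfsg.Agent.Lib.Char.Integral
import Cfsg.Agent.Lib.CharExt.FeitDegrees
import Cfsg.Agent.Lib.Blk83.ItoMichler
import Mathlib.GroupTheory.CommutingProbability

/-!
# The irreducible characters of a Borel subgroup of Suzuki type on its unipotent radical
-/

set_option autoImplicit false
set_option linter.style.haveILetI false
set_option linter.unusedSectionVars false

open scoped ComplexConjugate commutatorElement

namespace CfsgLib.SzChar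

open Cfsg CfsgLib

universe u

theorem sq_add_sq_two_pow : ∀ (m a b : ℕ), 0 < a → 0 < b → a ^ 2 + b ^ 2 = 2 * (2 ^ m) ^ 2 →
    a = 2 ^ m ∧ b = 2 ^ m := by
  intro m
  induction m with
  | zero =>
    intro a b ha hb h
    norm_num at h
    constructor <;> nlinarith
  | succ m ih =>
    intro a b ha hb h
    have h' : a ^ 2 + b ^ 2 = 4 * (2 * (2 ^ m) ^ 2) := by rw [h, pow_succ]; ring
    rcases Nat.even_or_odd a with ⟨a', rfl⟩ | ⟨a', rfl⟩ <;>
      rcases Nat.even_or_odd b with ⟨b', rfl⟩ | ⟨b', rfl⟩ <;> ring_nf at h'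
    · obtain ⟨h1, h2⟩ := ih a' b' (by omega) (by omega) (by ring_nf; omega)
      constructor <;> rw [pow_succ] <;> omega
    all_goals omega

variable {B : Type u} [Group B]

/-- The data of a Borel subgroup of Suzuki type. -/
structure BorelData (q h₀ : ℕ) (U Z : Subgroup B) (u : B) : Prop where
  q_eq : q = 2 * h₀ ^ 2
  h₀_eq : ∃ m : ℕ, 0 < m ∧ h₀ = 2 ^ m
  normU : U.Normal
  normZ : Z.Normal
  le : Z ≤ U
  cardB : Nat.card B = q ^ 2 * (q - 1)
  cardU : Nat.card U = q ^ 2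
  cardZ : Nat.card Z = q
  comm : commutator B = U
  centZ : ∀ x ∈ Z, x ≠ 1 → Nat.card (Subgroup.centralizer ({x} : Set B)) = q ^ 2
  centU : ∀ x ∈ U, x ∉ Z → Nat.card (Subgroup.centralizer ({x} : Set B)) = 2 * q
  centOut : ∀ x ∉ U, Nat.card (Subgroup.centralizer ({x} : Set B)) = q - 1
  memU : u ∈ U
  notMemZ : u ∉ Z
  notReal : ¬ IsConj u u⁻¹
  sqZ : u * u ∈ Z

variable {q h₀ : ℕ} {U Z : Subgroup B} {u : B}

namespace BorelData

theorem two_le (d : BorelData q h₀ U Z u) : 8 ≤ q := by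
  obtain ⟨m, hm, hh⟩ := d.h₀_eq
  have : 2 ≤ h₀ := by rw [hh]; exact Nat.le_self_pow hm.ne' 2
  rw [d.q_eq]; nlinarith

variable [Finite B]

theorem index_centralizer_mul (d : BorelData q h₀ U Z u) (x : B) :
    Nat.card {y : B // IsConj x y} * Nat.card (Subgroup.centralizer ({x} : Set B)) =
      q ^ 2 * (q - 1) := by
  rw [Char.card_isConj_mul_card_centralizer, d.cardB]

/-- The nontrivial elements of `Z` form one class. -/
theorem isConj_Z (d : BorelData q h₀ U Z u) {x y : B} (hx : x ∈ Z) (hx1 : x ≠ 1) (hy : y ∈ Z)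
    (hy1 : y ≠ 1) : IsConj x y := by
  classical
  cases nonempty_fintype B
  let S := Finset.univ.filter fun y : B => IsConj x y
  let T := Finset.univ.filter fun y : B => y ∈ Z ∧ y ≠ 1
  have hsub : S ⊆ T := by
    intro z hz
    obtain ⟨c, rfl⟩ := isConj_iff.1 (Finset.mem_filter.1 hz).2
    exact Finset.mem_filter.2 ⟨Finset.mem_univ _, d.normZ.conj_mem x hx c,
      fun h => hx1 (conj_eq_one_iff.1 h)⟩
  have hS : S.card = q - 1 := by
    have h := d.index_centralizer_mul x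
    rw [d.centZ x hx hx1, Nat.card_eq_fintype_card, Fintype.card_subtype, mul_comm] at h
    exact Nat.eq_of_mul_eq_mul_left (pow_pos (by have := d.two_le; omega) 2) h
  have hT : T.card = q - 1 := by
    have h1 : T = (Finset.univ.filter fun y : B => y ∈ Z).erase 1 := by
      ext z; simp [T, and_comm]
    rw [h1, Finset.card_erase_of_mem (by simp), ← Fintype.card_subtype,
      ← Nat.card_eq_fintype_card]
    exact congrArg (· - 1) d.cardZ
  have : y ∈ S := (Finset.eq_of_subset_of_card_le hsub (by rw [hS, hT])).symm ▸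
    Finset.mem_filter.2 ⟨Finset.mem_univ _, hy, hy1⟩
  exact (Finset.mem_filter.1 this).2

theorem class_card_u (d : BorelData q h₀ U Z u) [Fintype B] [DecidableEq B]
    [DecidableRel (IsConj (α := B))] {x : B} (hx : x ∈ U) (hxZ : x ∉ Z) :
    2 * (Finset.univ.filter fun y : B => IsConj x y).card = q * (q - 1) := by
  have h := d.index_centralizer_mul x
  rw [d.centU x hx hxZ, Nat.card_eq_fintype_card, Fintype.card_subtype] at h
  refine Nat.eq_of_mul_eq_mul_left (show 0 < q by have := d.two_le; omega) ?_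
  linarith [h]

theorem inv_notMem (d : BorelData q h₀ U Z u) : u⁻¹ ∈ U ∧ u⁻¹ ∉ Z :=
  ⟨U.inv_mem d.memU, fun h => d.notMemZ (by simpa using Z.inv_mem h)⟩

theorem card_U_diff (d : BorelData q h₀ U Z u) [Fintype B] [DecidablePred (· ∈ U)]
    [DecidablePred (· ∈ Z)] :
    (Finset.univ.filter fun y : B => y ∈ U ∧ y ∉ Z).card = q * (q - 1) := by
  classical
  have h1 : (Finset.univ.filter fun y : B => y ∈ U ∧ y ∉ Z) =
      (Finset.univ.filter fun y : B => y ∈ U) \ (Finset.univ.filter fun y : B => y ∈ Z) := by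
    ext y; simp
  rw [h1, Finset.card_sdiff_of_subset (fun y hy => by
      simp only [Finset.mem_filter, Finset.mem_univ, true_and] at hy ⊢; exact d.le hy),
    ← Fintype.card_subtype, ← Fintype.card_subtype, ← Nat.card_eq_fintype_card,
    ← Nat.card_eq_fintype_card]
  show Nat.card U - Nat.card Z = _
  rw [d.cardU, d.cardZ, Nat.mul_sub_one, sq]

theorem isConj_u (d : BorelData q h₀ U Z u) {x : B} (hx : x ∈ U) (hxZ : x ∉ Z) :
    IsConj u x ∨ IsConj u⁻¹ x := by
  classical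
  cases nonempty_fintype B
  let S := fun v : B => Finset.univ.filter fun y : B => IsConj v y
  have hsub : ∀ v, v ∈ U → v ∉ Z → S v ⊆ Finset.univ.filter fun y : B => y ∈ U ∧ y ∉ Z := by
    intro v hv hvZ z hz
    obtain ⟨c, rfl⟩ := isConj_iff.1 (Finset.mem_filter.1 hz).2
    refine Finset.mem_filter.2 ⟨Finset.mem_univ _, d.normU.conj_mem v hv c, fun h => hvZ ?_⟩
    simpa [mul_assoc] using d.normZ.conj_mem _ h c⁻¹
  have hdisj : Disjoint (S u) (S u⁻¹) := Finset.disjoint_left.2 fun z h1 h2 =>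
    d.notReal ((Finset.mem_filter.1 h1).2.trans (Finset.mem_filter.1 h2).2.symm)
  have hU := d.inv_notMem
  have heq := Finset.eq_of_subset_of_card_le
    (Finset.union_subset (hsub u d.memU d.notMemZ) (hsub u⁻¹ hU.1 hU.2)) (by
      rw [Finset.card_union_of_disjoint hdisj, d.card_U_diff]
      have e1 := d.class_card_u d.memU d.notMemZ
      have e2 := d.class_card_u hU.1 hU.2
      simp only [S]
      omega)
  have hmem : x ∈ S u ∪ S u⁻¹ := heq.symm ▸ Finset.mem_filter.2 ⟨Finset.mem_univ _, hx, hxZ⟩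
  rcases Finset.mem_union.1 hmem with h | h
  · exact Or.inl (Finset.mem_filter.1 h).2
  · exact Or.inr (Finset.mem_filter.1 h).2

/-- Summation of a class function over `U`. -/
theorem sum_U (d : BorelData q h₀ U Z u) [Fintype B] [DecidablePred (· ∈ U)] {z : B} (hz : z ∈ Z)
    (hz1 : z ≠ 1) (f : B → ℂ) (hf : ∀ x y, IsConj x y → f x = f y) :
    2 * ∑ x ∈ Finset.univ.filter (fun x : B => x ∈ U), f x =
      2 * f 1 + 2 * ((q : ℂ) - 1) * f z + (q : ℂ) * ((q : ℂ) - 1) * (f u + f u⁻¹) := by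
  classical
  have hq : (1 : ℕ) ≤ q := by have := d.two_le; omega
  rw [← Finset.sum_filter_add_sum_filter_not (Finset.univ.filter (fun x : B => x ∈ U))
    (fun x => x ∈ Z)]
  have h1 : (Finset.univ.filter (fun x : B => x ∈ U)).filter (fun x => x ∈ Z) =
      insert 1 ((Finset.univ.filter fun y : B => y ∈ Z).erase 1) := by
    rw [Finset.insert_erase (by simp)]
    ext y
    simp only [Finset.mem_filter, Finset.mem_univ, true_and]
    exact ⟨fun h => h.2, fun h => ⟨d.le h, h⟩⟩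
  have h2 : (Finset.univ.filter (fun x : B => x ∈ U)).filter (fun x => x ∉ Z) =
      Finset.univ.filter fun y : B => y ∈ U ∧ y ∉ Z := Finset.filter_filter _ _ _
  have hcu : ∀ v, v ∈ U → v ∉ Z →
      2 * ∑ x ∈ Finset.univ.filter (fun y : B => IsConj v y), f x = (q : ℂ) * ((q : ℂ) - 1) * f v := by
    intro v hv hvZ
    rw [Finset.sum_congr rfl (g := fun _ => f v) fun x hx => (hf v x (Finset.mem_filter.1 hx).2).symm,
      Finset.sum_const, nsmul_eq_mul, ← mul_assoc]
    congr 1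
    have := d.class_card_u hv hvZ
    rw [← Nat.cast_ofNat (R := ℂ) (n := 2), ← Nat.cast_mul, this, Nat.cast_mul, Nat.cast_sub hq,
      Nat.cast_one]
  have hsplit : (Finset.univ.filter fun y : B => y ∈ U ∧ y ∉ Z) =
      (Finset.univ.filter fun y : B => IsConj u y) ∪ Finset.univ.filter fun y : B => IsConj u⁻¹ y := by
    ext y
    simp only [Finset.mem_filter, Finset.mem_univ, true_and, Finset.mem_union]
    refine ⟨fun h => d.isConj_u h.1 h.2, ?_⟩
    have key : ∀ v, v ∈ U → v ∉ Z → IsConj v y → y ∈ U ∧ y ∉ Z := by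
      intro v hv hvZ hc
      obtain ⟨c, rfl⟩ := isConj_iff.1 hc
      refine ⟨d.normU.conj_mem v hv c, fun h => hvZ ?_⟩
      simpa [mul_assoc] using d.normZ.conj_mem _ h c⁻¹
    rintro (h | h)
    · exact key u d.memU d.notMemZ h
    · exact key u⁻¹ d.inv_notMem.1 d.inv_notMem.2 h
  rw [h1, Finset.sum_insert (by simp), h2, hsplit, Finset.sum_union
      (Finset.disjoint_left.2 fun y h1 h2 =>
        d.notReal ((Finset.mem_filter.1 h1).2.trans (Finset.mem_filter.1 h2).2.symm)),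
    Finset.sum_congr rfl (g := fun _ => f z) (fun x hx => by
      obtain ⟨hx1, hxZ⟩ := Finset.mem_erase.1 hx
      exact hf x z (d.isConj_Z (Finset.mem_filter.1 hxZ).2 hx1 hz hz1)),
    Finset.sum_const, nsmul_eq_mul, Finset.card_erase_of_mem (by simp), ← Fintype.card_subtype,
    ← Nat.card_eq_fintype_card]
  rw [show Nat.card {x : B // x ∈ Z} = q from d.cardZ, Nat.cast_sub hq, Nat.cast_one]
  linear_combination hcu u d.memU d.notMemZ + hcu u⁻¹ d.inv_notMem.1 d.inv_notMem.2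

/-- Linear characters are trivial on `U`. -/
theorem linear_apply (d : BorelData q h₀ U Z u) {χ : IrrCharacter B}
    (h1 : (χ : B → ℂ) 1 = 1) {x : B} (hx : x ∈ U) : (χ : B → ℂ) x = 1 := by
  obtain ⟨f, hf⟩ := Char.IsCharacter.exists_linear (Char.IsIrrCharacter.isCharacter χ.2) h1
  rw [hf, show f x = 1 from MonoidHom.mem_ker.1 (Abelianization.commutator_subset_ker f
    (d.comm.symm ▸ hx)), Units.val_one]

theorem commutator_index (d : BorelData q h₀ U Z u) : (commutator B).index = q - 1 := by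
  have h := Subgroup.card_mul_index (commutator B)
  rw [d.comm, d.cardU, d.cardB] at h
  rw [d.comm]
  exact Nat.eq_of_mul_eq_mul_left (pow_pos (by have := d.two_le; omega) 2) h

open Classical in
theorem card_linear' (d : BorelData q h₀ U Z u) [Fintype B] :
    (Finset.univ.filter fun χ : IrrCharacter B => (χ : B → ℂ) 1 = 1).card = q - 1 := by
  rw [← d.commutator_index, ← FeitDeg.card_linear]
  congr 1
  ext χ
  simp only [Finset.mem_filter, Finset.mem_univ, true_and]
  rw [← Char.IsCharacter.degree_cast (Char.IsIrrCharacter.isCharacter χ.2)]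
  exact Nat.cast_eq_one

/-- Nonlinear characters vanish outside `U`. -/
theorem apply_eq_zero (d : BorelData q h₀ U Z u) {χ : IrrCharacter B}
    (hχ : (χ : B → ℂ) 1 ≠ 1) {x : B} (hx : x ∉ U) : (χ : B → ℂ) x = 0 := by
  classical
  cases nonempty_fintype B
  have h := Char.sum_mul_conj x x
  rw [if_pos (IsConj.refl x), d.centOut x hx, ← Finset.sum_filter_add_sum_filter_not Finset.univ
    (fun ψ : IrrCharacter B => (ψ : B → ℂ) 1 = 1),
    Finset.sum_congr rfl (g := fun _ => (1 : ℂ)) (fun ψ hψ => ?_), Finset.sum_const, nsmul_one,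
    d.card_linear', add_eq_left] at h
  · have hre : ∑ ψ ∈ Finset.univ.filter (fun ψ : IrrCharacter B => ¬ (ψ : B → ℂ) 1 = 1),
        Complex.normSq ((ψ : B → ℂ) x) = 0 := by
      have := congrArg Complex.re h
      simp only [Complex.re_sum, Complex.zero_re, Complex.mul_conj, Complex.ofReal_re] at this
      exact this
    exact Complex.normSq_eq_zero.1 ((Finset.sum_eq_zero_iff_of_nonneg
      (fun _ _ => Complex.normSq_nonneg _)).1 hre χ (Finset.mem_filter.2 ⟨Finset.mem_univ _, hχ⟩))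
  · obtain ⟨f, hf⟩ := Char.IsCharacter.exists_linear (Char.IsIrrCharacter.isCharacter ψ.2)
      (Finset.mem_filter.1 hψ).2
    have h3 : ‖(f x : ℂ)‖ = 1 := by
      refine Complex.norm_eq_one_of_pow_eq_one (n := orderOf x) ?_ (orderOf_pos x).ne'
      rw [← Units.val_pow_eq_pow_val, ← map_pow, pow_orderOf_eq_one, map_one, Units.val_one]
    rw [hf, Complex.mul_conj', h3]
    simp

theorem card_conjClasses (d : BorelData q h₀ U Z u) : Nat.card (ConjClasses B) = q + 2 := by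
  classical
  cases nonempty_fintype B
  have hq : 8 ≤ q := d.two_le
  let e : {p : B × B // Commute p.1 p.2} ≃ Σ x : B, Subgroup.centralizer ({x} : Set B) :=
    { toFun := fun p => ⟨p.1.1, ⟨p.1.2, Subgroup.mem_centralizer_singleton_iff.2 p.2.symm.eq⟩⟩
      invFun := fun p => ⟨(p.1, p.2.1), (Subgroup.mem_centralizer_singleton_iff.1 p.2.2).symm⟩
      left_inv := fun p => rfl
      right_inv := fun p => rfl }
  have h := card_comm_eq_card_conjClasses_mul_card B
  rw [Nat.card_congr e, Nat.card_sigma, d.cardB,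
    ← Finset.sum_filter_add_sum_filter_not Finset.univ (fun x : B => x ∈ U),
    ← Finset.sum_filter_add_sum_filter_not (Finset.univ.filter (fun x : B => x ∈ U))
      (fun x => x ∈ Z)] at h
  have h1 : (Finset.univ.filter (fun x : B => x ∈ U)).filter (fun x => x ∈ Z) =
      insert 1 ((Finset.univ.filter fun y : B => y ∈ Z).erase 1) := by
    rw [Finset.insert_erase (by simp)]
    ext y
    simp only [Finset.mem_filter, Finset.mem_univ, true_and]
    exact ⟨fun h => h.2, fun h => ⟨d.le h, h⟩⟩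
  have hc1 : Nat.card (Subgroup.centralizer ({(1 : B)} : Set B)) = q ^ 2 * (q - 1) := by
    rw [show Subgroup.centralizer ({(1 : B)} : Set B) = ⊤ by
      ext x; simp [Subgroup.mem_centralizer_singleton_iff], Subgroup.card_top, d.cardB]
  have hz : ((Finset.univ.filter fun y : B => y ∈ Z).erase 1).card = q - 1 := by
    rw [Finset.card_erase_of_mem (by simp), ← Fintype.card_subtype, ← Nat.card_eq_fintype_card]
    exact congrArg (· - 1) d.cardZ
  have hout : (Finset.univ.filter fun x : B => ¬ x ∈ U).card = q ^ 2 * (q - 1) - q ^ 2 := by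
    rw [Finset.filter_not, Finset.card_sdiff_of_subset (Finset.subset_univ _), Finset.card_univ,
      ← Fintype.card_subtype, ← Nat.card_eq_fintype_card, ← Nat.card_eq_fintype_card, d.cardB]
    exact congrArg (_ - ·) d.cardU
  rw [h1, Finset.sum_insert (by simp), hc1,
    Finset.sum_congr rfl (g := fun _ => q ^ 2) (fun x hx => by
      obtain ⟨hx1, hxZ⟩ := Finset.mem_erase.1 hx
      exact d.centZ x (Finset.mem_filter.1 hxZ).2 hx1), Finset.sum_const, hz,
    Finset.sum_congr rfl (g := fun _ => 2 * q) (fun x hx => by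
      obtain ⟨hx', hxZ⟩ := Finset.mem_filter.1 hx
      exact d.centU x (Finset.mem_filter.1 hx').2 hxZ), Finset.sum_const, Finset.filter_filter,
    d.card_U_diff,
    Finset.sum_congr rfl (g := fun _ => q - 1) (fun x hx => d.centOut x (Finset.mem_filter.1 hx).2),
    Finset.sum_const, hout, smul_eq_mul, smul_eq_mul, smul_eq_mul] at h
  refine Nat.eq_of_mul_eq_mul_right (show 0 < q ^ 2 * (q - 1) by
    exact Nat.mul_pos (pow_pos (by omega) 2) (by omega)) (h.symm.trans ?_)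
  obtain ⟨t, rfl⟩ : ∃ t, q = t + 2 := ⟨q - 2, by omega⟩
  have e2 : (t + 2) ^ 2 * (t + 2 - 1) - (t + 2) ^ 2 = (t + 2) ^ 2 * t := by
    rw [show t + 2 - 1 = t + 1 by omega, mul_add, mul_one, Nat.add_sub_cancel]
  rw [e2, show t + 2 - 1 = t + 1 by omega]
  ring

/-- The value table of the nonlinear characters. -/
theorem nonlinear_table (d : BorelData q h₀ U Z u) {z : B} (hz : z ∈ Z) (hz1 : z ≠ 1)
    (χ : IrrCharacter B) (hχ : (χ : B → ℂ) 1 ≠ 1) :
    ((χ : B → ℂ) 1 = (q : ℂ) - 1 ∧ (χ : B → ℂ) z = (q : ℂ) - 1 ∧ (χ : B → ℂ) u = -1 ∧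
        (χ : B → ℂ) u⁻¹ = -1) ∨
      ((χ : B → ℂ) 1 = (h₀ : ℂ) * ((q : ℂ) - 1) ∧ (χ : B → ℂ) z = -(h₀ : ℂ) ∧
        ∃ ε : ℤ, (ε = 1 ∨ ε = -1) ∧ (χ : B → ℂ) u = (ε : ℂ) * (h₀ : ℂ) * Complex.I ∧
          (χ : B → ℂ) u⁻¹ = -((ε : ℂ) * (h₀ : ℂ) * Complex.I)) := by
  classical
  cases nonempty_fintype B
  haveI := d.normZ
  have hq : 8 ≤ q := d.two_le
  have hq0 : (q : ℂ) ≠ 0 := Nat.cast_ne_zero.2 (by omega)
  have hq1 : (q : ℂ) - 1 ≠ 0 := by
    rw [sub_ne_zero]
    exact fun h => by have := Nat.cast_eq_one.1 h; omega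
  have hB : (Nat.card B : ℂ) = (q : ℂ) ^ 2 * ((q : ℂ) - 1) := by
    rw [d.cardB, Nat.cast_mul, Nat.cast_pow, Nat.cast_sub (by omega), Nat.cast_one]
  -- summation of products of nonlinear characters
  have hsum : ∀ (ψ : IrrCharacter B), (ψ : B → ℂ) 1 ≠ 1 → ∀ g : B → ℂ,
      (∀ x y, IsConj x y → g x = g y) →
      2 * ∑ x : B, (ψ : B → ℂ) x * g x = 2 * ((ψ : B → ℂ) 1 * g 1) +
        2 * ((q : ℂ) - 1) * ((ψ : B → ℂ) z * g z) +
        (q : ℂ) * ((q : ℂ) - 1) * ((ψ : B → ℂ) u * g u + (ψ : B → ℂ) u⁻¹ * g u⁻¹) := by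
    intro ψ hψ g hg
    rw [← Finset.sum_filter_of_ne (p := fun x => x ∈ U) fun x _ hne => by
      by_contra hx; exact hne (by rw [d.apply_eq_zero hψ hx, zero_mul])]
    exact d.sum_U hz hz1 (fun x => (ψ : B → ℂ) x * g x) fun x y hxy => by
      rw [Char.IsClassFunction.eq_of_isConj (Char.IsIrrCharacter.isClassFunction ψ.2) hxy,
        hg x y hxy]
  have hconj : ∀ (ψ : IrrCharacter B) (x y : B), IsConj x y →
      conj ((ψ : B → ℂ) x) = conj ((ψ : B → ℂ) y) := fun ψ x y hxy => by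
    rw [Char.IsClassFunction.eq_of_isConj (Char.IsIrrCharacter.isClassFunction ψ.2) hxy]
  have hinner : ∀ ψ φ : IrrCharacter B, (ψ : B → ℂ) 1 ≠ 1 →
      2 * (Nat.card B : ℂ) * (if ψ = φ then 1 else 0) =
        2 * ((ψ : B → ℂ) 1 * conj ((φ : B → ℂ) 1)) +
        2 * ((q : ℂ) - 1) * ((ψ : B → ℂ) z * conj ((φ : B → ℂ) z)) +
        (q : ℂ) * ((q : ℂ) - 1) * ((ψ : B → ℂ) u * conj ((φ : B → ℂ) u) +
          (ψ : B → ℂ) u⁻¹ * conj ((φ : B → ℂ) u⁻¹)) := by
    intro ψ φ hψ
    rw [← hsum ψ hψ (fun x => conj ((φ : B → ℂ) x)) (hconj φ), ← Char.classInner_irrCharacter ψ φ,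
      Cfsg.classInner, ← mul_assoc, mul_assoc (2 : ℂ),
      mul_inv_cancel₀ (by rw [hB]; exact mul_ne_zero (pow_ne_zero 2 hq0) hq1), mul_one]
  -- orthogonality with the principal character
  have hprin : ∀ ψ : IrrCharacter B, (ψ : B → ℂ) 1 ≠ 1 → 2 * (ψ : B → ℂ) 1 +
      2 * ((q : ℂ) - 1) * (ψ : B → ℂ) z +
      (q : ℂ) * ((q : ℂ) - 1) * ((ψ : B → ℂ) u + (ψ : B → ℂ) u⁻¹) = 0 := by
    intro ψ hψ
    have h := hinner ψ Char.principalIrr hψ
    rw [if_neg (fun he => hψ (by rw [he]; rfl)), mul_zero] at h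
    simp only [Char.principalIrr_apply, map_one, mul_one] at h
    exact h.symm
  -- characters trivial on `Z`
  have hker : ∀ ψ : IrrCharacter B, (ψ : B → ℂ) 1 ≠ 1 → (ψ : B → ℂ) z = (ψ : B → ℂ) 1 →
      (ψ : B → ℂ) 1 = (q : ℂ) - 1 ∧ (ψ : B → ℂ) z = (q : ℂ) - 1 ∧ (ψ : B → ℂ) u = -1 ∧
        (ψ : B → ℂ) u⁻¹ = -1 := by
    intro ψ hψ hψz
    have hsq : (ψ : B → ℂ) (u⁻¹ * u⁻¹) = (ψ : B → ℂ) 1 := by
      have hmem : u⁻¹ * u⁻¹ ∈ Z := by rw [← mul_inv_rev]; exact Z.inv_mem d.sqZ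
      by_cases h1 : u⁻¹ * u⁻¹ = 1
      · rw [h1]
      · rw [← hψz]
        exact Char.IsClassFunction.eq_of_isConj (Char.IsIrrCharacter.isClassFunction ψ.2)
          (d.isConj_Z hmem h1 hz hz1)
    have hu : (ψ : B → ℂ) u⁻¹ = (ψ : B → ℂ) u := by
      have := CharTools.mul_ker (Char.IsIrrCharacter.isCharacter ψ.2) hsq u
      rwa [← mul_assoc, mul_inv_cancel, one_mul] at this
    have h1 := hprin ψ hψ
    rw [hψz, hu] at h1
    have hv : (ψ : B → ℂ) u * ((q : ℂ) - 1) = -(ψ : B → ℂ) 1 := by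
      apply mul_left_cancel₀ (mul_ne_zero two_ne_zero hq0)
      linear_combination h1
    have h2 := hinner ψ ψ hψ
    rw [if_pos rfl, hψz, hu, CharTools.conj_apply_one (Char.IsIrrCharacter.isCharacter ψ.2), hB]
      at h2
    have hv' : conj ((ψ : B → ℂ) u) * ((q : ℂ) - 1) = -(ψ : B → ℂ) 1 := by
      have := congrArg conj hv
      simpa [CharTools.conj_apply_one (Char.IsIrrCharacter.isCharacter ψ.2)] using this
    have h3 : (ψ : B → ℂ) 1 ^ 2 = ((q : ℂ) - 1) ^ 2 := by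
      apply mul_left_cancel₀ (mul_ne_zero two_ne_zero (pow_ne_zero 2 hq0))
      linear_combination (-((q : ℂ) - 1)) * h2 -
        (2 * (q : ℂ) * conj ((ψ : B → ℂ) u) * ((q : ℂ) - 1)) * hv +
        (2 * (q : ℂ) * (ψ : B → ℂ) 1) * hv'
    have hd : (ψ : B → ℂ) 1 = (q : ℂ) - 1 := by
      rcases sq_eq_sq_iff_eq_or_eq_neg.1 h3 with h | h
      · exact h
      · exfalso
        obtain ⟨k, hk⟩ := Char.IsIrrCharacter.exists_degree ψ.2
        have := congrArg Complex.re h
        rw [hk.2] at this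
        simp at this
        have h8 : (8 : ℝ) ≤ q := by exact_mod_cast hq
        linarith [(Nat.cast_nonneg k : (0 : ℝ) ≤ k)]
    have hvu : (ψ : B → ℂ) u = -1 := mul_right_cancel₀ hq1 (by rw [hv, hd]; ring)
    exact ⟨hd, hψz.trans hd, hvu, hu.trans hvu⟩
  by_cases hχz : (χ : B → ℂ) z = (χ : B → ℂ) 1
  · exact Or.inl (hker χ hχ hχz)
  refine Or.inr ?_
  -- a nonlinear character trivial on `Z`
  obtain ⟨ξ, hξ1, hξz⟩ : ∃ ξ : IrrCharacter B, (ξ : B → ℂ) 1 ≠ 1 ∧
      (ξ : B → ℂ) z = (ξ : B → ℂ) 1 := by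
    by_contra hc
    push Not at hc
    have hlin : ∀ φ : IrrCharacter (B ⧸ Z), charDegree (φ : B ⧸ Z → ℂ) = 1 := by
      intro φ
      let ψ : IrrCharacter B := ⟨_, CharTwist.isIrrCharacter_comp φ.2 (QuotientGroup.mk' Z)
        (QuotientGroup.mk'_surjective Z)⟩
      have hψz : (ψ : B → ℂ) z = (ψ : B → ℂ) 1 := by
        show (φ : B ⧸ Z → ℂ) (QuotientGroup.mk' Z z) = (φ : B ⧸ Z → ℂ) (QuotientGroup.mk' Z 1)
        rw [map_one, QuotientGroup.mk'_apply, (QuotientGroup.eq_one_iff z).2 hz]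
      have h1 : (ψ : B → ℂ) 1 = 1 := by
        by_contra h; exact hc ψ h hψz
      refine Nat.cast_injective (R := ℂ) ?_
      rw [CharTools.irr_degree_cast, Nat.cast_one, ← h1]
      show _ = (φ : B ⧸ Z → ℂ) (QuotientGroup.mk' Z 1)
      rw [map_one]
    have hle : commutator B ≤ Z := by
      rw [commutator_def, Subgroup.commutator_le]
      intro a _ b _
      rw [← QuotientGroup.eq_one_iff, ← QuotientGroup.mk'_apply, map_commutatorElement]
      exact commutatorElement_eq_one_iff_mul_comm.2 (Blk83.commute_of_forall_linear hlin _ _)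
    exact d.notMemZ (hle (d.comm.symm ▸ d.memU))
  obtain ⟨hξd, hξz', hξu, hξu'⟩ := hker ξ hξ1 hξz
  have e1 := hprin χ hχ
  have e2 := hinner χ ξ hχ
  rw [if_neg (fun (he : χ = ξ) => hχz (by rw [he]; exact hξz)), mul_zero, hξd, hξz', hξu, hξu'] at e2
  simp only [map_sub, map_one, map_neg, Complex.conj_natCast] at e2
  have hS : (χ : B → ℂ) u + (χ : B → ℂ) u⁻¹ = 0 := by
    refine mul_left_cancel₀ (mul_ne_zero (pow_ne_zero 2 hq0) hq1) ?_
    rw [mul_zero]
    linear_combination ((q : ℂ) - 1) * e1 + e2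
  have hzv : ((q : ℂ) - 1) * (χ : B → ℂ) z = -(χ : B → ℂ) 1 := by
    apply mul_left_cancel₀ (two_ne_zero (α := ℂ))
    linear_combination e1 - (q : ℂ) * ((q : ℂ) - 1) * hS
  have hinv : (χ : B → ℂ) u⁻¹ = conj ((χ : B → ℂ) u) := Char.IsIrrCharacter.apply_inv χ.2 u
  -- all such characters
  let S := Finset.univ.filter fun ψ : IrrCharacter B =>
    (ψ : B → ℂ) 1 ≠ 1 ∧ (ψ : B → ℂ) z ≠ (ψ : B → ℂ) 1
  have hξuniq : ∀ ψ : IrrCharacter B, (ψ : B → ℂ) 1 ≠ 1 → (ψ : B → ℂ) z = (ψ : B → ℂ) 1 →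
      ψ = ξ := by
    intro ψ h1 h2
    obtain ⟨a1, a2, a3, a4⟩ := hker ψ h1 h2
    refine Subtype.ext (funext fun x => ?_)
    by_cases hx : x ∈ U
    · have hc : ∀ φ : IrrCharacter B, ∀ y, IsConj y x → (φ : B → ℂ) x = (φ : B → ℂ) y :=
        fun φ y hy => (Char.IsClassFunction.eq_of_isConj
          (Char.IsIrrCharacter.isClassFunction φ.2) hy).symm
      by_cases hxZ : x ∈ Z
      · by_cases hx1 : x = 1
        · rw [hx1, a1, hξd]
        · rw [hc ψ z (d.isConj_Z hz hz1 hxZ hx1), hc ξ z (d.isConj_Z hz hz1 hxZ hx1), a2, hξz']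
      · rcases d.isConj_u hx hxZ with h | h
        · rw [hc ψ u h, hc ξ u h, a3, hξu]
        · rw [hc ψ u⁻¹ h, hc ξ u⁻¹ h, a4, hξu']
    · rw [d.apply_eq_zero h1 hx, d.apply_eq_zero hξ1 hx]
  have hScard : S.card = 2 := by
    have hk : Fintype.card (IrrCharacter B) = q + 2 := by
      rw [← Nat.card_eq_fintype_card, Char.card_irrCharacter, d.card_conjClasses]
    have hunion : (Finset.univ : Finset (IrrCharacter B)) =
        insert ξ (S ∪ Finset.univ.filter fun ψ : IrrCharacter B => (ψ : B → ℂ) 1 = 1) := by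
      ext ψ
      simp only [Finset.mem_univ, Finset.mem_insert, Finset.mem_union, Finset.mem_filter, S,
        true_and, true_iff]
      by_cases h1 : (ψ : B → ℂ) 1 = 1
      · exact Or.inr (Or.inr h1)
      · by_cases h2 : (ψ : B → ℂ) z = (ψ : B → ℂ) 1
        · exact Or.inl (hξuniq ψ h1 h2)
        · exact Or.inr (Or.inl ⟨h1, h2⟩)
    rw [← Finset.card_univ, hunion, Finset.card_insert_of_notMem (by simp [S, hξ1, hξz]),
      Finset.card_union_of_disjoint (Finset.disjoint_left.2 fun ψ h1 h2 =>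
        (Finset.mem_filter.1 h1).2.1 (Finset.mem_filter.1 h2).2), d.card_linear'] at hk
    omega
  have hint : ∀ ψ ∈ S, ∃ n : ℕ, 0 < n ∧ (ψ : B → ℂ) 1 = (n : ℂ) * ((q : ℂ) - 1) := by
    intro ψ hψ
    obtain ⟨-, hψ1, hψz⟩ := Finset.mem_filter.1 hψ
    have f1 := hprin ψ hψ1
    have f2 := hinner ψ ξ hψ1
    rw [if_neg (fun (he : ψ = ξ) => hψz (by rw [he]; exact hξz)), mul_zero, hξd, hξz', hξu, hξu'] at f2
    simp only [map_sub, map_one, map_neg, Complex.conj_natCast] at f2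
    have fS : (ψ : B → ℂ) u + (ψ : B → ℂ) u⁻¹ = 0 := by
      refine mul_left_cancel₀ (mul_ne_zero (pow_ne_zero 2 hq0) hq1) ?_
      rw [mul_zero]
      linear_combination ((q : ℂ) - 1) * f1 + f2
    have fz : ((q : ℂ) - 1) * (ψ : B → ℂ) z = -(ψ : B → ℂ) 1 := by
      apply mul_left_cancel₀ (two_ne_zero (α := ℂ))
      linear_combination f1 - (q : ℂ) * ((q : ℂ) - 1) * fS
    obtain ⟨k, hk⟩ := Char.IsIrrCharacter.exists_degree ψ.2
    have hpos : 0 < k := Nat.pos_of_ne_zero fun h => Char.IsIrrCharacter.apply_one_ne_zero ψ.2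
      (by rw [hk.2, h, Nat.cast_zero])
    have hval : (ψ : B → ℂ) z = ((-(k : ℚ) / ((q : ℚ) - 1) : ℚ) : ℂ) := by
      push_cast
      rw [eq_div_iff hq1, mul_comm, fz, hk.2]
    obtain ⟨n₀, ρ, _, hρc⟩ := ψ.2
    have hI : IsIntegral ℤ ((ψ : B → ℂ) z) := by rw [← hρc]; exact Char.isIntegral_character ρ z
    rw [hval] at hI
    obtain ⟨i, hi⟩ := Char.exists_int_of_isIntegral_ratCast hI
    have hki : (k : ℤ) = -i * ((q : ℤ) - 1) := by
      have h8 : (q : ℚ) - 1 ≠ 0 := by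
        have : (8 : ℚ) ≤ q := by exact_mod_cast hq
        linarith
      have : (k : ℚ) = -(i : ℚ) * ((q : ℚ) - 1) := by
        rw [eq_div_iff h8] at hi; linarith
      exact_mod_cast this
    have hipos : 0 < -i := by
      by_contra hle
      push Not at hle
      have h9 : (0 : ℤ) < (k : ℤ) := by exact_mod_cast hpos
      rw [hki] at h9
      nlinarith [show (0 : ℤ) < (q : ℤ) - 1 by omega]
    refine ⟨(-i).toNat, by omega, ?_⟩
    rw [hk.2, show (((-i).toNat : ℕ) : ℂ) = (((-i).toNat : ℤ) : ℂ) from (Int.cast_natCast _).symm,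
      Int.toNat_of_nonneg hipos.le, show (k : ℂ) = ((k : ℤ) : ℂ) from (Int.cast_natCast _).symm, hki]
    push_cast
    rfl
  have hχS : χ ∈ S := Finset.mem_filter.2 ⟨Finset.mem_univ _, hχ, hχz⟩
  obtain ⟨n, hn0, hn⟩ := hint χ hχS
  obtain ⟨ψ, hψS, hψne⟩ := Finset.exists_mem_ne (by omega : 1 < S.card) χ
  obtain ⟨n', hn'0, hn'⟩ := hint ψ hψS
  have hSeq : S = {χ, ψ} := (Finset.eq_of_subset_of_card_le
    (Finset.insert_subset hχS (Finset.singleton_subset_iff.2 hψS))
    (by rw [hScard, Finset.card_pair hψne.symm])).symm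
  have hsq : (n : ℂ) ^ 2 + (n' : ℂ) ^ 2 = (q : ℂ) := by
    have h := Char.sum_apply_one_sq (G := B)
    rw [← Finset.sum_filter_add_sum_filter_not Finset.univ
      (fun ψ : IrrCharacter B => (ψ : B → ℂ) 1 = 1), hB] at h
    have hrest : (Finset.univ.filter fun ψ : IrrCharacter B => ¬ (ψ : B → ℂ) 1 = 1) =
        insert ξ {χ, ψ} := by
      rw [← hSeq]
      ext φ
      simp only [Finset.mem_filter, Finset.mem_univ, true_and, Finset.mem_insert, S]
      constructor
      · intro h1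
        by_cases h2 : (φ : B → ℂ) z = (φ : B → ℂ) 1
        · exact Or.inl (hξuniq φ h1 h2)
        · exact Or.inr ⟨h1, h2⟩
      · rintro (rfl | ⟨h1, -⟩)
        exacts [hξ1, h1]
    rw [hrest, Finset.sum_congr rfl (g := fun _ => (1 : ℂ)) (fun φ hφ => by
      rw [(Finset.mem_filter.1 hφ).2, one_pow]), Finset.sum_const, nsmul_one, d.card_linear',
      Finset.sum_insert (by rw [← hSeq]; simp [S, hξz]), Finset.sum_pair hψne.symm, hξd, hn, hn',
      Nat.cast_sub (by omega : 1 ≤ q), Nat.cast_one] at h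
    apply mul_left_cancel₀ (pow_ne_zero 2 hq1)
    linear_combination h
  obtain ⟨m, -, hh₀⟩ := d.h₀_eq
  have hnn : n ^ 2 + n' ^ 2 = 2 * (2 ^ m) ^ 2 := by
    rw [← hh₀, ← d.q_eq]; exact_mod_cast hsq
  have hnh : n = h₀ := hh₀ ▸ (sq_add_sq_two_pow m n n' hn0 hn'0 hnn).1
  subst hnh
  have hzval : (χ : B → ℂ) z = -(n : ℂ) := mul_left_cancel₀ hq1 (by rw [hzv, hn]; ring)
  refine ⟨hn, hzval, ?_⟩
  have hnorm := hinner χ χ hχ
  rw [if_pos rfl, hn, hzval, hB, hinv] at hnorm
  simp only [map_mul, map_sub, map_one, map_neg, Complex.conj_natCast, Complex.conj_conj] at hnorm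
  have hqn : (q : ℂ) = 2 * (n : ℂ) ^ 2 := by
    rw [d.q_eq]; push_cast; rfl
  have hre : ((χ : B → ℂ) u).re = 0 := by
    have := congrArg Complex.re hS
    rw [hinv, Complex.add_re, Complex.conj_re, Complex.zero_re] at this
    linarith
  have hns : (χ : B → ℂ) u * conj ((χ : B → ℂ) u) = (n : ℂ) ^ 2 := by
    refine mul_left_cancel₀ (mul_ne_zero (mul_ne_zero two_ne_zero hq0) hq1) ?_
    linear_combination -hnorm + (2 * (q : ℂ) * ((q : ℂ) - 1)) * hqn
  have him : ((χ : B → ℂ) u).im = n ∨ ((χ : B → ℂ) u).im = -(n : ℝ) := by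
    rw [Complex.mul_conj, ← Complex.ofReal_natCast, ← Complex.ofReal_pow, Complex.ofReal_inj,
      Complex.normSq_apply, hre] at hns
    exact sq_eq_sq_iff_eq_or_eq_neg.1 (by rw [← hns]; ring)
  rcases him with h | h
  · refine ⟨1, Or.inl rfl, Complex.ext ?_ ?_, ?_⟩
    · simp [hre]
    · simp [h]
    · rw [hinv]; exact Complex.ext (by simp [hre]) (by simp [h])
  · refine ⟨-1, Or.inr rfl, Complex.ext ?_ ?_, ?_⟩
    · simp [hre]
    · simp [h]
    · rw [hinv]; exact Complex.ext (by simp [hre]) (by simp [h])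

end BorelData

end CfsgLib.SzChar
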