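import Cfsg.Agent.Lib.Suzuki.Summary
import Cfsg.Agent.Lib.Suzuki.Subgroups
import Cfsg.Agent.Lib.SuzukiChar.BorelTable

/-!
# The Borel subgroup of a Suzuki group has Suzuki type data
-/

set_option autoImplicit false

open scoped commutatorElement

namespace CfsgLib.SzChar

open CfsgLib.Suzuki

variable {F : Type*} [Field F] [Fintype F] {m : ℕ} (h : SzHyp F m)
include h

/-- The central translations. -/
def zGroup : Subgroup (Cfsg.Sz F m) where
  carrier := {g | ∃ b, g = tS h 0 b}
  mul_mem' := by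
    rintro _ _ ⟨b, rfl⟩ ⟨d, rfl⟩
    exact ⟨b + d, by rw [tS_mul, sig_zero, zero_mul, add_zero, add_zero]⟩
  one_mem' := ⟨0, (tS_zero h).symm⟩
  inv_mem' := by
    rintro _ ⟨b, rfl⟩
    exact ⟨b, by rw [tS_inv, sig_zero, zero_mul, add_zero]⟩

theorem tS_mem_zGroup (b : F) : tS h 0 b ∈ zGroup h := ⟨b, rfl⟩

/-- The translations inside the Borel subgroup. -/
abbrev borelU : Subgroup (borel F m) := (tGroup h).subgroupOf (borel F m)

/-- The central translations inside the Borel subgroup. -/
abbrev borelZ : Subgroup (borel F m) := (zGroup h).subgroupOf (borel F m)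

/-- A translation as an element of the Borel subgroup. -/
abbrev bt (a b : F) : borel F m := ⟨tS h a b, tS_mem_borel h a b⟩

theorem zGroup_le_tGroup : zGroup h ≤ tGroup h := by
  rintro _ ⟨b, rfl⟩
  exact tS_mem_tGroup h 0 b

theorem conj_tS_dS (c d : F) (k : Fˣ) (b : F) :
    tS h c d * dS h k * tS h 0 b * (tS h c d * dS h k)⁻¹ =
      tS h 0 ((k : F) * sig m (k : F) * b) := by
  rw [show tS h c d * dS h k * tS h 0 b * (tS h c d * dS h k)⁻¹ =
    tS h c d * (dS h k * tS h 0 b * (dS h k)⁻¹) * (tS h c d)⁻¹ by group, dS_conj, mul_zero,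
    mul_inv_eq_iff_eq_mul, tS_mul, tS_mul]
  congr 1
  · ring
  · rw [mul_zero, sig_zero, zero_mul]; ring

theorem borelU_normal : (borelU h).Normal :=
  Subgroup.normal_subgroupOf_of_le_normalizer (normalizer_tGroup h).ge

theorem borelZ_normal : (borelZ h).Normal := by
  refine ⟨fun n hn g => ?_⟩
  rw [Subgroup.mem_subgroupOf] at hn ⊢
  obtain ⟨b, hb⟩ := hn
  obtain ⟨c, d, k, hk⟩ := exists_tS_dS h (MulAction.mem_stabilizer_iff.1 g.2)
  exact ⟨(k : F) * sig m (k : F) * b, by
    rw [Subgroup.coe_mul, Subgroup.coe_mul, Subgroup.coe_inv, hb, hk, conj_tS_dS]⟩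

theorem commutator_borel : commutator (borel F m) = borelU h := by
  apply le_antisymm
  · refine (Abelianization.commutator_subset_ker (borelChar h).toHomUnits).trans fun g hg => ?_
    exact borelChar_eq_one h (congrArg Units.val (MonoidHom.mem_ker.1 hg))
  obtain ⟨t, ht0, ht1⟩ := h.exists_ne_zero_one
  let k : Fˣ := Units.mk0 t ht0
  have hk : k ≠ 1 := fun e => ht1 (congrArg Units.val e)
  have hbt : ∀ a b c d : F, bt h a b * bt h c d = bt h (a + c) (b + d + sig m a * c) :=
    fun a b c d => Subtype.ext (tS_mul h a b c d)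
  have hmem : ∀ c d : F, ∃ e : F, bt h (((k : F) + 1) * c) e ∈ commutator (borel F m) ∧
      (c = 0 → e = ((k : F) * sig m (k : F) + 1) * d) := by
    intro c d
    refine ⟨(k : F) * sig m (k : F) * d + (d + sig m c * c) + sig m ((k : F) * c) * c, ?_, ?_⟩
    · have hc : ⁅(⟨dS h k, dS_mem_borel h k⟩ : borel F m), bt h c d⁆ =
          bt h (((k : F) + 1) * c)
            ((k : F) * sig m (k : F) * d + (d + sig m c * c) + sig m ((k : F) * c) * c) := by
        apply Subtype.ext
        simp only [commutatorElement_def, Subgroup.coe_mul, Subgroup.coe_inv]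
        rw [dS_conj, tS_inv, tS_mul]
        congr 1
        ring
      rw [← hc]
      exact Subgroup.commutator_mem_commutator (Subgroup.mem_top _) (Subgroup.mem_top _)
    · rintro rfl
      simp only [mul_zero, zero_mul, sig_zero, add_zero]
      ring
  have hk1 : (k : F) + 1 ≠ 0 := fun e => one_add_ne_zero h hk (by rw [add_comm]; exact e)
  have hk2 : (k : F) * sig m (k : F) + 1 ≠ 0 :=
    fun e => one_add_mul_sig_ne_zero h hk (by rw [add_comm]; exact e)
  have hz : ∀ b : F, bt h 0 b ∈ commutator (borel F m) := by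
    intro b
    obtain ⟨e, he, he0⟩ := hmem 0 (b / ((k : F) * sig m (k : F) + 1))
    rwa [he0 rfl, mul_zero, mul_div_cancel₀ _ hk2] at he
  intro g hg
  obtain ⟨a, b, hab⟩ := Subgroup.mem_subgroupOf.1 hg
  obtain ⟨e, he, -⟩ := hmem (a / ((k : F) + 1)) 0
  rw [mul_div_cancel₀ _ hk1] at he
  have : g = bt h a e * bt h 0 (b + e) := by
    rw [hbt]
    apply Subtype.ext
    rw [hab, add_zero, mul_zero, add_zero]
    congr 1
    linear_combination -e * h.two_zero
  rw [this]
  exact mul_mem he (hz _)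

theorem centralizer_le_borelU {x : borel F m} (hx : x ∈ borelU h) (hx1 : x ≠ 1) :
    Subgroup.centralizer ({x} : Set (borel F m)) ≤ borelU h := fun y hy => by
  refine centralizer_tS h (Subgroup.mem_subgroupOf.1 hx) (fun e => hx1 (Subtype.ext e)) ?_
  exact congrArg Subtype.val (Subgroup.mem_centralizer_singleton_iff.1 hy).symm

theorem card_borelU : Nat.card (borelU h) = (2 ^ (2 * m + 1)) ^ 2 := by
  rw [Nat.card_congr (Subgroup.subgroupOfEquivOfLe (tGroup_le_borel h)).toEquiv, card_tGroup h,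
    ← pow_mul, mul_comm]

theorem card_borelZ : Nat.card (borelZ h) = 2 ^ (2 * m + 1) := by
  let f : F → borelZ h := fun b => ⟨bt h 0 b, tS_mem_zGroup h b⟩
  have hf : Function.Bijective f := by
    constructor
    · intro b c e
      exact (tS_injective h (congrArg (fun g : borelZ h => ((g : borel F m) : Cfsg.Sz F m)) e)).2
    · rintro ⟨g, b, hb⟩
      exact ⟨b, Subtype.ext (Subtype.ext hb.symm)⟩
  rw [← Nat.card_congr (Equiv.ofBijective f hf), Nat.card_eq_fintype_card, h.card]

theorem centralizer_borelZ {x : borel F m} (hx : x ∈ borelZ h) (hx1 : x ≠ 1) :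
    Subgroup.centralizer ({x} : Set (borel F m)) = borelU h := by
  refine le_antisymm (centralizer_le_borelU h (zGroup_le_tGroup h hx) hx1) fun y hy => ?_
  obtain ⟨b, hb⟩ := Subgroup.mem_subgroupOf.1 hx
  obtain ⟨c, d, hc⟩ := Subgroup.mem_subgroupOf.1 hy
  rw [Subgroup.mem_centralizer_singleton_iff]
  apply Subtype.ext
  rw [Subgroup.coe_mul, Subgroup.coe_mul, hb, hc, tS_mul, tS_mul]
  congr 1
  · ring
  · rw [mul_zero, sig_zero, zero_mul]; ring

theorem card_centralizer_borelU {x : borel F m} (hx : x ∈ borelU h) (hxZ : x ∉ borelZ h) :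
    Nat.card (Subgroup.centralizer ({x} : Set (borel F m))) = 2 * 2 ^ (2 * m + 1) := by
  obtain ⟨a, b, hab⟩ := Subgroup.mem_subgroupOf.1 hx
  have ha : a ≠ 0 := fun e => hxZ (Subgroup.mem_subgroupOf.2 ⟨b, by rw [hab, e]⟩)
  have hx1 : x ≠ 1 := fun e => hxZ (e ▸ one_mem _)
  let f : Bool × F → Subgroup.centralizer ({x} : Set (borel F m)) := fun p =>
    ⟨bt h (if p.1 then a else 0) p.2, by
      rw [Subgroup.mem_centralizer_singleton_iff]
      apply Subtype.ext
      rw [Subgroup.coe_mul, Subgroup.coe_mul, hab, tS_mul, tS_mul]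
      cases p.1
      · simp [sig_zero, add_comm]
      · simp [add_comm]⟩
  have hf : Function.Bijective f := by
    constructor
    · rintro ⟨i, d⟩ ⟨i', d'⟩ e
      obtain ⟨e1, e2⟩ := tS_injective h
        (congrArg (fun g : Subgroup.centralizer ({x} : Set (borel F m)) =>
          ((g : borel F m) : Cfsg.Sz F m)) e)
      cases i <;> cases i' <;> simp_all
    · rintro ⟨y, hy⟩
      obtain ⟨c, d, hc⟩ := Subgroup.mem_subgroupOf.1 (centralizer_le_borelU h hx hx1 hy)
      have e := congrArg Subtype.val (Subgroup.mem_centralizer_singleton_iff.1 hy)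
      simp only [Subgroup.coe_mul, hab, hc, tS_mul] at e
      have e2 : sig m c * a = sig m a * c := by
        linear_combination (tS_injective h e).2
      have hsa : sig m a ≠ 0 := fun e => ha (sig_eq_zero.1 e)
      have e3 : sig m (c / a) = c / a := by
        rw [sig_div, div_eq_div_iff hsa ha]
        linear_combination e2
      rcases h.sig_fixed e3 with e4 | e4
      · refine ⟨(false, d), Subtype.ext (Subtype.ext ?_)⟩
        show tS h 0 d = y
        rw [hc, (div_eq_zero_iff.1 e4).resolve_right ha]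
      · refine ⟨(true, d), Subtype.ext (Subtype.ext ?_)⟩
        show tS h a d = y
        rw [hc, (div_eq_one_iff_eq ha).1 e4]
  rw [← Nat.card_congr (Equiv.ofBijective f hf), Nat.card_prod, Nat.card_eq_fintype_card,
    Nat.card_eq_fintype_card, Fintype.card_bool, h.card]

/-- An element of the Borel subgroup outside the translations is a conjugate, within the Borel
subgroup, of a torus element. -/
theorem exists_conj_dS {x : borel F m} (hx : x ∉ borelU h) :
    ∃ (y : borel F m) (k : Fˣ), k ≠ 1 ∧ x = y * ⟨dS h k, dS_mem_borel h k⟩ * y⁻¹ := by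
  have hfx : (x : Cfsg.Sz F m) • (pInf : Projectivization F (Fin 4 → F)) = pInf :=
    MulAction.mem_stabilizer_iff.1 x.2
  rcases borel_conj h hfx with hT | ⟨y, k, hk, he⟩
  · exact absurd (Subgroup.mem_subgroupOf.2 hT) hx
  have hfix : dS h k • (y⁻¹ • (pInf : Projectivization F (Fin 4 → F))) = y⁻¹ • pInf := by
    have : dS h k = y⁻¹ * (x : Cfsg.Sz F m) * y := by rw [he]; group
    rw [this, mul_smul, mul_smul, smul_inv_smul, hfx]
  have hpt := dS_fixed' h hk (smul_ovoid (y⁻¹ : Cfsg.Sz F m).2 pInf_mem) hfix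
  change y⁻¹ • (pInf : Projectivization F (Fin 4 → F)) = pInf ∨
    y⁻¹ • (pInf : Projectivization F (Fin 4 → F)) = pAff m (0 : F) 0 at hpt
  rcases hpt with hy | hy
  · exact ⟨⟨y, MulAction.mem_stabilizer_iff.2 (inv_smul_eq_iff.1 hy).symm⟩, k, hk,
      Subtype.ext he⟩
  · refine ⟨⟨y * wS h, MulAction.mem_stabilizer_iff.2 ?_⟩, k⁻¹, inv_ne_one.2 hk, Subtype.ext ?_⟩
    · rw [mul_smul, wS_smul_pInf, ← inv_smul_eq_iff.1 hy]
    · show (x : Cfsg.Sz F m) = y * wS h * dS h k⁻¹ * (y * wS h)⁻¹
      rw [he, mul_inv_rev, wS_inv, ← wS_conj_dS]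
      simp only [mul_assoc, ← mul_assoc (wS h) (wS h), wS_mul_self, one_mul]

theorem card_centralizer_out {x : borel F m} (hx : x ∉ borelU h) :
    Nat.card (Subgroup.centralizer ({x} : Set (borel F m))) = 2 ^ (2 * m + 1) - 1 := by
  obtain ⟨y, k, hk, he⟩ := exists_conj_dS h hx
  have hmem : (x : Cfsg.Sz F m) ∈ (torus h).map (MulAut.conj (y : Cfsg.Sz F m)).toMonoidHom :=
    ⟨dS h k, ⟨k, rfl⟩, by rw [he]; rfl⟩
  have hx1 : (x : Cfsg.Sz F m) ≠ 1 := fun e => hx (by
    rw [Subgroup.mem_subgroupOf, e]; exact one_mem _)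
  have hC := centralizer_mem_conj_torus h (y : Cfsg.Sz F m) hmem hx1
  have hle : (torus h).map (MulAut.conj (y : Cfsg.Sz F m)).toMonoidHom ≤ borel F m := by
    rintro _ ⟨t, ht, rfl⟩
    exact mul_mem (mul_mem y.2 (torus_le_borel h ht)) (inv_mem y.2)
  have hcm : Nat.card ((torus h).map (MulAut.conj (y : Cfsg.Sz F m)).toMonoidHom) =
      Nat.card (torus h) := Subgroup.card_map_of_injective (MulAut.conj (y : Cfsg.Sz F m)).injective
  rw [← card_torus h, ← hcm]
  rw [← Nat.card_congr (Subgroup.subgroupOfEquivOfLe hle).toEquiv, ← hC]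
  congr 2
  ext z
  simp only [Subgroup.mem_subgroupOf, Subgroup.mem_centralizer_singleton_iff]
  exact ⟨fun e => congrArg Subtype.val e, fun e => Subtype.ext e⟩

theorem bt_not_isConj_inv : ¬ IsConj (bt h 1 0) (bt h 1 0)⁻¹ := by
  intro hc
  obtain ⟨y, hy⟩ := isConj_iff.1 hc
  obtain ⟨c, d, k, hk⟩ := exists_tS_dS h (MulAction.mem_stabilizer_iff.1 y.2)
  have hy' := congrArg Subtype.val hy
  simp only [Subgroup.coe_mul, Subgroup.coe_inv, hk] at hy'
  rw [show tS h c d * dS h k * tS h 1 0 * (tS h c d * dS h k)⁻¹ =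
    tS h c d * (dS h k * tS h 1 0 * (dS h k)⁻¹) * (tS h c d)⁻¹ by group, dS_conj, tS_inv,
    tS_inv, tS_mul, tS_mul] at hy'
  obtain ⟨e1, e2⟩ := tS_injective h hy'
  have hk1 : (k : F) = 1 := by linear_combination e1 - c * h.two_zero
  rw [hk1] at e2
  simp only [sig_one, mul_one, one_mul, h.sig_add] at e2
  have e3 : sig m c + c = 1 := by linear_combination e2 - (d + sig m c * c) * h.two_zero
  have e5 : sig m c = c + 1 := by linear_combination e3 - c * h.two_zero
  have e6 : c ^ 2 = c := by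
    rw [← h.sig_sig, e5, h.sig_add, sig_one, e5]
    linear_combination h.two_zero
  rcases h.eq_zero_or_one_of_sq e6 with e | e <;> rw [e] at e3
  · simp [sig_zero] at e3
  · rw [sig_one, h.add_self] at e3
    exact zero_ne_one e3

/-- The data of the Borel subgroup. -/
theorem borelData :
    BorelData (2 ^ (2 * m + 1)) (2 ^ m) (borelU h) (borelZ h) (bt h 1 0) where
  q_eq := by rw [pow_succ, pow_mul', mul_comm]
  h₀_eq := ⟨m, h.one_le, rfl⟩
  normU := borelU_normal h
  normZ := borelZ_normal h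
  le := fun _ hx => zGroup_le_tGroup h hx
  cardB := card_stab h
  cardU := card_borelU h
  cardZ := card_borelZ h
  comm := commutator_borel h
  centZ x hx hx1 := by rw [centralizer_borelZ h hx hx1, card_borelU]
  centU _ hx hxZ := card_centralizer_borelU h hx hxZ
  centOut _ hx := card_centralizer_out h hx
  memU := Subgroup.mem_subgroupOf.2 (tS_mem_tGroup h 1 0)
  notMemZ := fun ⟨_, e⟩ => one_ne_zero (tS_injective h e).1
  notReal := bt_not_isConj_inv h
  sqZ := by
    rw [Subgroup.mem_subgroupOf, Subgroup.coe_mul, tS_sq]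
    exact tS_mem_zGroup h _

end CfsgLib.SzChar
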