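import Mathlib

/-!
# Counting lemma for the cuspidal characters of a Suzuki group
-/

set_option autoImplicit false

namespace CfsgLib.SzChar

variable {ι : Type*} {S : Finset ι} {d e : ι → ℤ}

/-- An integer vector of square length two with a single parity pattern. -/
theorem exists_pair [DecidableEq ι] (hd : ∑ x ∈ S, d x ^ 2 = 2) :
    ∃ w w', w ≠ w' ∧ w ∈ S ∧ w' ∈ S ∧ (d w = 1 ∨ d w = -1) ∧ (d w' = 1 ∨ d w' = -1) ∧
      ∀ x ∈ S, x ≠ w → x ≠ w' → d x = 0 := by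
  classical
  set W := S.filter (fun x => d x ≠ 0) with hW
  have hsum : ∑ x ∈ W, d x ^ 2 = 2 := by
    rw [← hd, hW, Finset.sum_filter]
    exact Finset.sum_congr rfl fun x _ => by by_cases h : d x = 0 <;> simp [h]
  have hone : ∀ x ∈ W, d x = 1 ∨ d x = -1 := by
    intro x hx
    have h1 : d x ^ 2 ≤ 2 := hsum ▸ Finset.single_le_sum (f := fun x => d x ^ 2)
      (fun _ _ => sq_nonneg _) hx
    have h2 := (Finset.mem_filter.1 hx).2
    have h3 : -1 ≤ d x ∧ d x ≤ 1 := by constructor <;> nlinarith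
    omega
  have hcard : W.card = 2 := by
    have : ∑ x ∈ W, d x ^ 2 = (W.card : ℤ) := by
      rw [Finset.sum_congr rfl (g := fun _ => (1 : ℤ)) fun x hx => by
        rcases hone x hx with h | h <;> rw [h] <;> norm_num]
      simp
    omega
  obtain ⟨w, w', hne, hw⟩ := Finset.card_eq_two.1 hcard
  have hmem : ∀ x, x = w ∨ x = w' → x ∈ W := fun x hx => by rw [hw]; simpa using hx
  refine ⟨w, w', hne, (Finset.mem_filter.1 (hmem w (Or.inl rfl))).1,
    (Finset.mem_filter.1 (hmem w' (Or.inr rfl))).1, hone w (hmem w (Or.inl rfl)),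
    hone w' (hmem w' (Or.inr rfl)), fun x hx h1 h2 => ?_⟩
  by_contra h
  have : x ∈ W := Finset.mem_filter.2 ⟨hx, h⟩
  rw [hw] at this
  simp [h1, h2] at this

set_option maxHeartbeats 1000000 in
/-- The possible cuspidal degrees, divided by `q - 1`. -/
theorem cuspidal_values [DecidableEq ι] {q H j : ℕ} (hj : 1 ≤ j) (hH : H = 2 * j)
    (hq : q = 8 * j ^ 2) (C : Finset ι) (n b d s : ι → ℤ)
    (n_eq : ∀ x ∈ C, n x = b x * ((q : ℤ) + 1) - (H : ℤ) * s x) (n_pos : ∀ x ∈ C, 0 < n x)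
    (b_nonneg : ∀ x ∈ C, 0 ≤ b x) (parity : ∀ x ∈ C, ∃ t : ℤ, s x = d x + 2 * t)
    (sum_bb : 2 * ∑ x ∈ C, b x ^ 2 = (q : ℤ)) (sum_dd : ∑ x ∈ C, d x ^ 2 = 2)
    (sum_bd : ∑ x ∈ C, b x * d x = 0) (sum_nd : ∑ x ∈ C, n x * d x = 0)
    (sum_bs : ∑ x ∈ C, b x * s x = 2 * (H : ℤ))
    (sum_ss : ∑ x ∈ C, s x ^ 2 = 2 * ((q : ℤ) + 1))
    (F₁ : Finset ι) (hF₁ : F₁.card = 2 * j ^ 2 + j) (hF₁C : F₁ ⊆ C)
    (hF₁v : ∀ f ∈ F₁, d f = 0 ∧ b f = 1 ∧ s f = 2)
    (hF₂ : 2 ≤ j → ∃ F₂ : Finset ι, F₂ ⊆ C ∧ (F₂.card : ℤ) = 2 * (j : ℤ) ^ 2 - j ∧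
      ∀ f ∈ F₂, f ∉ F₁ ∧ d f = 0 ∧ ∀ f' ∈ F₂, b f' = b f) :
    (∀ x ∈ C, (n x = (q : ℤ) + 1 - 2 * H ∧ b x = 1 ∧ d x = 0) ∨
      (n x = (q : ℤ) + 2 * H + 1 ∧ b x = 1 ∧ d x = 0) ∨
      (n x = H ∧ b x = 0 ∧ (d x = 1 ∨ d x = -1))) ∧
      (∃ x ∈ C, n x = (q : ℤ) + 1 - 2 * H) ∧ (∃ x ∈ C, n x = (q : ℤ) + 2 * H + 1) ∧
      ∃ x ∈ C, n x = H := by
  classical
  have hjz : (1 : ℤ) ≤ j := by exact_mod_cast hj
  have hHz : (H : ℤ) = 2 * j := by exact_mod_cast hH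
  have hqz : (q : ℤ) = 8 * (j : ℤ) ^ 2 := by exact_mod_cast hq
  have hk₁ : (F₁.card : ℤ) = 2 * (j : ℤ) ^ 2 + j := by exact_mod_cast hF₁
  set k := 2 * (j : ℤ) ^ 2 - j with hk
  have hkpos : 1 ≤ k := by
    have : (j : ℤ) ≤ (j : ℤ) ^ 2 := by nlinarith
    omega
  set R := C \ F₁ with hR
  have hRC : ∀ x ∈ R, x ∈ C := fun x hx => (Finset.mem_sdiff.1 hx).1
  have hrest : ∀ (g : ι → ℤ) (t : ℤ), (∀ f ∈ F₁, g f = t) →
      ∑ x ∈ R, g x + (F₁.card : ℤ) * t = ∑ x ∈ C, g x := by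
    intro g t ht
    rw [hR, ← Finset.sum_sdiff hF₁C, Finset.sum_congr rfl ht, Finset.sum_const, nsmul_eq_mul]
  have Rb : ∑ x ∈ R, b x ^ 2 = k := by
    have := hrest (fun x => b x ^ 2) 1 fun f hf => by rw [(hF₁v f hf).2.1]; norm_num
    linarith
  have Rd : ∑ x ∈ R, d x ^ 2 = 2 := by
    have := hrest (fun x => d x ^ 2) 0 fun f hf => by rw [(hF₁v f hf).1]; norm_num
    linarith
  have Rbd : ∑ x ∈ R, b x * d x = 0 := by
    have := hrest (fun x => b x * d x) 0 fun f hf => by rw [(hF₁v f hf).1]; norm_num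
    linarith
  have Rnd : ∑ x ∈ R, n x * d x = 0 := by
    have := hrest (fun x => n x * d x) 0 fun f hf => by rw [(hF₁v f hf).1]; norm_num
    linarith
  have Rbs : ∑ x ∈ R, b x * s x = -(2 * k) := by
    have := hrest (fun x => b x * s x) 2 fun f hf => by
      rw [(hF₁v f hf).2.1, (hF₁v f hf).2.2]; norm_num
    linarith
  have Rss : ∑ x ∈ R, s x ^ 2 = 4 * k + 2 := by
    have := hrest (fun x => s x ^ 2) 4 fun f hf => by rw [(hF₁v f hf).2.2]; norm_num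
    linarith
  -- the shifted coordinate
  set e : ι → ℤ := fun x => s x + 2 * b x with he
  have Ree : ∑ x ∈ R, e x ^ 2 = 2 := by
    rw [Finset.sum_congr rfl (g := fun x => s x ^ 2 + 4 * (b x * s x) + 4 * b x ^ 2)
      (fun x _ => by simp only [he]; ring), Finset.sum_add_distrib, Finset.sum_add_distrib,
      ← Finset.mul_sum, ← Finset.mul_sum, Rb, Rbs, Rss]
    ring
  have Rbe : ∑ x ∈ R, b x * e x = 0 := by
    rw [Finset.sum_congr rfl (g := fun x => b x * s x + 2 * b x ^ 2)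
      (fun x _ => by simp only [he]; ring), Finset.sum_add_distrib, ← Finset.mul_sum, Rb, Rbs]
    ring
  have hne : ∀ x ∈ C, n x = b x * ((q : ℤ) + 2 * H + 1) - (H : ℤ) * e x := fun x hx => by
    rw [n_eq x hx]; simp only [he]; ring
  obtain ⟨w, w', hww, hw, hw', hdw, hdw', hoff⟩ := exists_pair Rd
  obtain ⟨v, v', hvv, hv, hv', hev, hev', heoff⟩ := exists_pair Ree
  have hodd : ∀ x ∈ R, (d x = 1 ∨ d x = -1) → e x ≠ 0 := by
    intro x hx hd he0
    obtain ⟨t, ht⟩ := parity x (hRC x hx)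
    simp only [he] at he0
    omega
  have hw_v : ∀ x, x = w ∨ x = w' → x = v ∨ x = v' := by
    intro x hx
    by_contra hc
    push Not at hc
    rcases hx with rfl | rfl
    exacts [hodd _ hw hdw (heoff _ hw hc.1 hc.2), hodd _ hw' hdw' (heoff _ hw' hc.1 hc.2)]
  have hew : (e w = 1 ∨ e w = -1) ∧ (e w' = 1 ∨ e w' = -1) ∧
      ∀ x ∈ R, x ≠ w → x ≠ w' → e x = 0 := by
    have h1 := hw_v w (Or.inl rfl)
    have h2 := hw_v w' (Or.inr rfl)
    rcases h1 with rfl | rfl <;> rcases h2 with rfl | rfl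
    · exact absurd rfl hww
    · exact ⟨hev, hev', heoff⟩
    · exact ⟨hev', hev, fun x hx a c => heoff x hx c a⟩
    · exact absurd rfl hww
  obtain ⟨hew1, hew2, heR⟩ := hew
  have hpair : ∀ g : ι → ℤ, (∀ x ∈ R, x ≠ w → x ≠ w' → g x = 0) →
      ∑ x ∈ R, g x = g w + g w' := by
    intro g hg
    rw [← Finset.sum_pair (f := g) hww]
    refine (Finset.sum_subset ?_ fun x hx hn => ?_).symm
    · intro x hx
      simp only [Finset.mem_insert, Finset.mem_singleton] at hx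
      rcases hx with rfl | rfl
      exacts [hw, hw']
    · simp only [Finset.mem_insert, Finset.mem_singleton, not_or] at hn
      exact hg x hx hn.1 hn.2
  rw [hpair _ (fun x h1 h2 h3 => by rw [hoff x h1 h2 h3]; ring)] at Rbd Rnd
  rw [hpair _ (fun x h1 h2 h3 => by rw [heR x h1 h2 h3]; ring)] at Rbe
  have hnw := n_pos w (hRC w hw)
  have hnw' := n_pos w' (hRC w' hw')
  obtain ⟨hneq, hbeq⟩ : n w = n w' ∧ b w = b w' := by
    rcases hdw with h | h <;> rcases hdw' with h' | h' <;> rw [h, h'] at Rbd Rnd <;> omega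
  have heeq : e w = e w' := by
    rw [hne w (hRC w hw), hne w' (hRC w' hw'), hbeq] at hneq
    exact mul_left_cancel₀ (show (H : ℤ) ≠ 0 by omega) (by linarith)
  have hb0 : b w = 0 := by
    rw [← heeq, ← hbeq] at Rbe
    rcases hew1 with h | h <;> rw [h] at Rbe <;> omega
  have hnH : n w = H ∧ n w' = H := by
    have e1 := hne w (hRC w hw)
    rw [hb0, zero_mul, zero_sub] at e1
    rcases hew1 with h | h <;> rw [h] at e1 <;> constructor <;> omega
  -- the remaining characters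
  set R₀ := R.filter (fun x => x ≠ w ∧ x ≠ w') with hR₀
  have hR₀b : ∑ x ∈ R₀, b x ^ 2 = k := by
    rw [← Rb]
    refine Finset.sum_subset (Finset.filter_subset _ _) fun x hx hn => ?_
    simp only [hR₀, Finset.mem_filter, hx, true_and, not_and, not_not] at hn
    by_cases h1 : x = w
    · rw [h1, hb0]; norm_num
    · rw [hn h1, ← hbeq, hb0]; norm_num
  have hR₀n : ∀ x ∈ R₀, 1 ≤ b x ∧ n x = b x * ((q : ℤ) + 2 * H + 1) := by
    intro x hx
    obtain ⟨hxR, h1, h2⟩ := Finset.mem_filter.1 hx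
    have e1 := hne x (hRC x hxR)
    rw [heR x hxR h1 h2, mul_zero, sub_zero] at e1
    refine ⟨?_, e1⟩
    by_contra hb
    have h3 := n_pos x (hRC x hxR)
    have h4 := b_nonneg x (hRC x hxR)
    rw [e1, show b x = 0 by omega, zero_mul] at h3
    exact lt_irrefl _ h3
  have hb1 : ∀ x ∈ R₀, b x = 1 := by
    rcases Nat.lt_or_ge j 2 with hj' | hj'
    · intro x hx
      have h1 : b x ^ 2 ≤ k := hR₀b ▸ Finset.single_le_sum (f := fun x => b x ^ 2)
        (fun _ _ => sq_nonneg _) hx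
      rw [hk, show (j : ℤ) = 1 by omega] at h1
      have := (hR₀n x hx).1
      nlinarith
    · obtain ⟨F₂, hF₂C, hcard, hF₂v⟩ := hF₂ hj'
      have hsub : F₂ ⊆ R₀ := by
        intro f hf
        obtain ⟨hn1, hd0, -⟩ := hF₂v f hf
        refine Finset.mem_filter.2 ⟨Finset.mem_sdiff.2 ⟨hF₂C hf, hn1⟩, ?_, ?_⟩ <;> rintro rfl
        · rcases hdw with h | h <;> omega
        · rcases hdw' with h | h <;> omega
      obtain ⟨f₀, hf₀⟩ := Finset.card_pos.1 (show 0 < F₂.card by omega)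
      have hconst : ∀ f ∈ F₂, b f = b f₀ := fun f hf => (hF₂v f₀ hf₀).2.2 f hf
      have hsum := Finset.sum_sdiff (f := fun x => b x ^ 2) hsub
      rw [hR₀b, Finset.sum_congr rfl (g := fun _ => b f₀ ^ 2) (s₁ := F₂)
        (fun f hf => by rw [hconst f hf]), Finset.sum_const, nsmul_eq_mul, hcard] at hsum
      have h0 : 0 ≤ ∑ x ∈ R₀ \ F₂, b x ^ 2 := Finset.sum_nonneg fun _ _ => sq_nonneg _
      have hf₀b := (hR₀n f₀ (hsub hf₀)).1
      have hb : b f₀ = 1 := by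
        by_contra hne'
        have h5 : (2 : ℤ) ≤ b f₀ := lt_of_le_of_ne hf₀b (Ne.symm hne')
        have h6 : (2 : ℤ) * 2 ≤ b f₀ ^ 2 := by
          rw [pow_two]; exact mul_le_mul h5 h5 zero_le_two (zero_le_two.trans h5)
        have h7 := mul_le_mul_of_nonneg_left h6 (zero_le_one.trans hkpos)
        linarith only [h7, hsum, h0, hkpos]
      rw [hb, one_pow, mul_one, add_eq_right] at hsum
      intro x hx
      by_cases hxF : x ∈ F₂
      · rw [hconst x hxF, hb]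
      · have h1 := (Finset.sum_eq_zero_iff_of_nonneg fun _ _ => sq_nonneg _).1 hsum x
          (Finset.mem_sdiff.2 ⟨hx, hxF⟩)
        have h2 := (hR₀n x hx).1
        have := pow_eq_zero_iff (two_ne_zero) |>.1 h1
        omega
  have hF₁n : ∀ f ∈ F₁, n f = (q : ℤ) + 1 - 2 * H := fun f hf => by
    rw [n_eq f (hF₁C hf), (hF₁v f hf).2.1, (hF₁v f hf).2.2]; ring
  have hR₀n' : ∀ f ∈ R₀, n f = (q : ℤ) + 2 * H + 1 := fun f hf => by
    rw [(hR₀n f hf).2, hb1 f hf, one_mul]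
  refine ⟨fun x hx => ?_, ?_, ?_, ⟨w, hRC w hw, hnH.1⟩⟩
  · by_cases h1 : x ∈ F₁
    · exact Or.inl ⟨hF₁n x h1, (hF₁v x h1).2.1, (hF₁v x h1).1⟩
    by_cases h2 : x = w
    · subst h2; exact Or.inr (Or.inr ⟨hnH.1, hb0, hdw⟩)
    by_cases h3 : x = w'
    · subst h3; exact Or.inr (Or.inr ⟨hnH.2, hbeq ▸ hb0, hdw'⟩)
    have hxR : x ∈ R := Finset.mem_sdiff.2 ⟨hx, h1⟩
    have hx₀ : x ∈ R₀ := Finset.mem_filter.2 ⟨hxR, h2, h3⟩
    exact Or.inr (Or.inl ⟨hR₀n' x hx₀, hb1 x hx₀, hoff x hxR h2 h3⟩)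
  · obtain ⟨f, hf⟩ := Finset.card_pos.1 (show 0 < F₁.card by omega)
    exact ⟨f, hF₁C hf, hF₁n f hf⟩
  · obtain ⟨f, hf, -⟩ := Finset.exists_ne_zero_of_sum_ne_zero
      (show ∑ x ∈ R₀, b x ^ 2 ≠ 0 by omega)
    exact ⟨f, hRC f (Finset.mem_filter.1 hf).1, hR₀n' f hf⟩

end CfsgLib.SzChar
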