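import Cfsg.Agent.Lib.SuzukiChar.Values
import Cfsg.Agent.Lib.Blk83.PairCount

/-!
# Squares of classes of Suzuki groups cover the group
-/

set_option autoImplicit false
set_option linter.style.haveILetI false

open scoped ComplexConjugate

namespace CfsgLib.SzChar

open Cfsg CfsgLib CfsgLib.Suzuki

/-- The class sum criterion for products of two conjugates. -/
theorem exists_product_of_sum_ne_zero {G : Type*} [Group G] [Fintype G] (x g : G)
    (hne : ∑ χ : IrrCharacter G,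
      (χ : G → ℂ) x * (χ : G → ℂ) x * conj ((χ : G → ℂ) g) / (χ : G → ℂ) 1 ≠ 0) :
    ∃ u v : G, g = (u * x * u⁻¹) * (v * x * v⁻¹) := by
  classical
  by_contra hc
  push Not at hc
  apply hne
  have hterm : ∀ χ : IrrCharacter G, (Fintype.card G : ℂ) *
      ((χ : G → ℂ) x * (χ : G → ℂ) x * conj ((χ : G → ℂ) g) / (χ : G → ℂ) 1) =
      ∑ a : G, (χ : G → ℂ) (a * x * a⁻¹ * x) * conj ((χ : G → ℂ) g) := by
    intro χ
    rw [← Finset.sum_mul, mul_div_assoc']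
    rw [div_eq_iff (CharTools.irr_apply_one_ne_zero χ)]
    linear_combination -(conj ((χ : G → ℂ) g)) * Blk83.sum_conj_mul χ x x
  refine mul_left_cancel₀ (Nat.cast_ne_zero.2 (Fintype.card_ne_zero (α := G))) ?_
  rw [mul_zero, Finset.mul_sum, Finset.sum_congr rfl fun χ _ => hterm χ, Finset.sum_comm]
  refine Finset.sum_eq_zero fun a _ => ?_
  rw [Char.sum_mul_conj, if_neg]
  intro e
  obtain ⟨c, hc'⟩ := isConj_iff.1 e
  exact hc (c * a) c (by rw [← hc']; group)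

/-- A complex number close to a positive real is not zero. -/
theorem ne_zero_of_norm_sub_lt {S : ℂ} {a : ℝ} (h : ‖S - (a : ℂ)‖ < a) : S ≠ 0 := by
  rintro rfl
  rw [zero_sub, norm_neg, Complex.norm_real, Real.norm_eq_abs] at h
  exact (le_abs_self a).not_gt h

section Bound

variable {G : Type*} [Group G] {s : Finset (IrrCharacter G)} {x g : G}

/-- The contribution of characters of equal degree. -/
theorem norm_sum_term_le {D B : ℝ} (hD : ∀ χ ∈ s, (χ : G → ℂ) 1 = (D : ℂ)) (hD0 : 0 < D)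
    (hB : ∀ χ ∈ s, ‖(χ : G → ℂ) g‖ ≤ B) :
    ‖∑ χ ∈ s, (χ : G → ℂ) x * (χ : G → ℂ) x * conj ((χ : G → ℂ) g) / (χ : G → ℂ) 1‖ ≤
      (∑ χ ∈ s, ‖(χ : G → ℂ) x‖ ^ 2) * B / D := by
  refine (norm_sum_le _ _).trans ?_
  rw [Finset.sum_mul, Finset.sum_div]
  refine Finset.sum_le_sum fun χ hχ => ?_
  rw [norm_div, norm_mul, norm_mul, hD χ hχ, Complex.norm_conj, Complex.norm_real,
    Real.norm_of_nonneg hD0.le, ← pow_two]
  exact div_le_div_of_nonneg_right (mul_le_mul_of_nonneg_left (hB χ hχ) (sq_nonneg _)) hD0.le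

/-- The contribution of characters with equal degree and equal value at `g`. -/
theorem sum_term_const {D c : ℂ} (hD : ∀ χ ∈ s, (χ : G → ℂ) 1 = D)
    (hc : ∀ χ ∈ s, (χ : G → ℂ) g = c) :
    ∑ χ ∈ s, (χ : G → ℂ) x * (χ : G → ℂ) x * conj ((χ : G → ℂ) g) / (χ : G → ℂ) 1 =
      (∑ χ ∈ s, (χ : G → ℂ) x * (χ : G → ℂ) x) * conj c / D := by
  rw [Finset.sum_mul, Finset.sum_div]
  exact Finset.sum_congr rfl fun χ hχ => by rw [hD χ hχ, hc χ hχ]

/-- The contribution of characters with equal degree and squared value at `x`. -/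
theorem sum_term_sq {D c : ℂ} (hD : ∀ χ ∈ s, (χ : G → ℂ) 1 = D)
    (hc : ∀ χ ∈ s, (χ : G → ℂ) x * (χ : G → ℂ) x = c) :
    ∑ χ ∈ s, (χ : G → ℂ) x * (χ : G → ℂ) x * conj ((χ : G → ℂ) g) / (χ : G → ℂ) 1 =
      c * conj (∑ χ ∈ s, (χ : G → ℂ) g) / D := by
  rw [map_sum, Finset.mul_sum, Finset.sum_div]
  exact Finset.sum_congr rfl fun χ hχ => by rw [hD χ hχ, hc χ hχ]

end Bound

variable {F : Type*} [Field F] [Fintype F] {m : ℕ} (h : SzHyp F m)
include h

local notation "G" => Cfsg.Sz F m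
local notation "qq" => 2 ^ (2 * m + 1)
local notation "hh" => 2 ^ m

variable [Fintype (Cfsg.Sz F m)] {q H : ℕ} {St : IrrCharacter (Cfsg.Sz F m)}
  {Qs F₁ R₀ : Finset (IrrCharacter (Cfsg.Sz F m))} {w w' : IrrCharacter (Cfsg.Sz F m)}

/-- The class sum split along the table. -/
theorem term_split (t : SzTable h q H St Qs F₁ R₀ w w') (x g : G) :
    ∑ χ : IrrCharacter G, (χ : G → ℂ) x * (χ : G → ℂ) x * conj ((χ : G → ℂ) g) / (χ : G → ℂ) 1 =
      1 + (St : G → ℂ) x * (St : G → ℂ) x * conj ((St : G → ℂ) g) / (St : G → ℂ) 1 +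
      ∑ χ ∈ Qs, (χ : G → ℂ) x * (χ : G → ℂ) x * conj ((χ : G → ℂ) g) / (χ : G → ℂ) 1 +
      ∑ χ ∈ F₁, (χ : G → ℂ) x * (χ : G → ℂ) x * conj ((χ : G → ℂ) g) / (χ : G → ℂ) 1 +
      ∑ χ ∈ R₀, (χ : G → ℂ) x * (χ : G → ℂ) x * conj ((χ : G → ℂ) g) / (χ : G → ℂ) 1 +
      (w : G → ℂ) x * (w : G → ℂ) x * conj ((w : G → ℂ) g) / (w : G → ℂ) 1 +
      (w' : G → ℂ) x * (w' : G → ℂ) x * conj ((w' : G → ℂ) g) / (w' : G → ℂ) 1 := by
  rw [t.split]
  simp only [Char.principalIrr_apply, map_one, mul_one, div_one]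

/-- The squared norms at an element add up to the order of its centralizer. -/
theorem norm_split (t : SzTable h q H St Qs F₁ R₀ w w') (x : G) :
    1 + ‖(St : G → ℂ) x‖ ^ 2 + ∑ χ ∈ Qs, ‖(χ : G → ℂ) x‖ ^ 2 + ∑ χ ∈ F₁, ‖(χ : G → ℂ) x‖ ^ 2 +
      ∑ χ ∈ R₀, ‖(χ : G → ℂ) x‖ ^ 2 + ‖(w : G → ℂ) x‖ ^ 2 + ‖(w' : G → ℂ) x‖ ^ 2 =
      (Nat.card (Subgroup.centralizer ({x} : Set G)) : ℝ) := by
  classical
  have e := Char.sum_mul_conj x x
  rw [if_pos (IsConj.refl x), t.split] at e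
  simp only [Complex.mul_conj', Char.principalIrr_apply, norm_one, Complex.ofReal_one, one_pow]
    at e
  exact_mod_cast e

theorem norm_sq_le_centralizer (χ : IrrCharacter G) (g : G) :
    ‖(χ : G → ℂ) g‖ ^ 2 ≤ (Nat.card (Subgroup.centralizer ({g} : Set G)) : ℝ) := by
  classical
  have e := Char.sum_mul_conj g g
  rw [if_pos (IsConj.refl g)] at e
  simp only [Complex.mul_conj'] at e
  have e' : ∑ ψ : IrrCharacter G, ‖(ψ : G → ℂ) g‖ ^ 2 =
      (Nat.card (Subgroup.centralizer ({g} : Set G)) : ℝ) := by exact_mod_cast e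
  rw [← e']
  exact Finset.single_le_sum (f := fun ψ : IrrCharacter G => ‖(ψ : G → ℂ) g‖ ^ 2)
    (fun _ _ => sq_nonneg _) (Finset.mem_univ χ)

omit h in
theorem apply_of_isConj (χ : IrrCharacter G) {a b : G} (e : IsConj a b) :
    (χ : G → ℂ) b = (χ : G → ℂ) a :=
  (Char.IsClassFunction.eq_of_isConj (Char.IsIrrCharacter.isClassFunction χ.2) e).symm

/-- Every character value off the identity is at most `q`. -/
theorem norm_le_q (hq : qq = q) (hH : hh = H) (χ : IrrCharacter G) {g : G} (hg : g ≠ 1) :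
    ‖(χ : G → ℂ) g‖ ≤ q := by
  have hqh : q = 2 * H ^ 2 := by rw [← hq, ← hH]; exact (borelData h).q_eq
  have hH2 : 2 ≤ H := by rw [← hH]; exact Nat.le_self_pow (by have := h.one_le; omega) 2
  have hq2 : 2 * H + 2 ≤ q := by rw [hqh]; nlinarith
  have hsq : 2 * q ≤ q ^ 2 ∧ q + 2 * H + 1 ≤ q ^ 2 := by constructor <;> nlinarith
  have key : ∃ y : G, (χ : G → ℂ) g = (χ : G → ℂ) y ∧
      Nat.card (Subgroup.centralizer ({y} : Set G)) ≤ q ^ 2 := by
    rcases element_cases h hq hH hg with e | (e | e) | ⟨-, e⟩ | ⟨-, e⟩ | ⟨-, e⟩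
    · exact ⟨_, apply_of_isConj χ e, by rw [centralizer_card_z h, hq]⟩
    · exact ⟨_, apply_of_isConj χ e, by rw [centralizer_card_u h, hq]; exact hsq.1⟩
    · refine ⟨_, apply_of_isConj χ e, ?_⟩
      rw [show Subgroup.centralizer ({(tS h 1 0)⁻¹} : Set G) =
        Subgroup.centralizer ({tS h 1 0} : Set G) by
          ext y; simp only [Subgroup.mem_centralizer_singleton_iff]
          exact Commute.inv_right_iff, centralizer_card_u h, hq]
      exact hsq.1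
    · exact ⟨g, rfl, by rw [e]; omega⟩
    · exact ⟨g, rfl, by rw [e]; exact hsq.2⟩
    · exact ⟨g, rfl, by rw [e]; omega⟩
  obtain ⟨y, hy, hle⟩ := key
  rw [hy]
  refine (sq_le_sq₀ (norm_nonneg _) (Nat.cast_nonneg q)).1
    ((norm_sq_le_centralizer h χ y).trans ?_)
  exact_mod_cast hle

/-- The case of an element of the split torus. -/
theorem sum_ne_zero_torus (hq : qq = q) (hH : hh = H) (t : SzTable h q H St Qs F₁ R₀ w w')
    {x g : G} (hx : x ≠ 1) (hord : orderOf x ∣ q - 1)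
    (hC : Nat.card (Subgroup.centralizer ({x} : Set G)) = q - 1) (hg : g ≠ 1) :
    ∑ χ : IrrCharacter G,
      (χ : G → ℂ) x * (χ : G → ℂ) x * conj ((χ : G → ℂ) g) / (χ : G → ℂ) 1 ≠ 0 := by
  obtain ⟨hF, hR, hw, hw', -, hS⟩ := values_torus h hq hH t hx hord
  have hq8 : 8 ≤ q := hq ▸ (borelData h).two_le
  have hqR : (8 : ℝ) ≤ q := by exact_mod_cast hq8
  have hn := norm_split h t x
  rw [hS, hw, hw', Finset.sum_eq_zero (s := F₁) (fun χ hχ => by rw [hF χ hχ]; simp),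
    Finset.sum_eq_zero (s := R₀) (fun χ hχ => by rw [hR χ hχ]; simp), hC, Nat.cast_sub (by omega)]
    at hn
  simp only [norm_one, norm_zero, one_pow, Nat.cast_one, ne_eq, OfNat.ofNat_ne_zero,
    not_false_eq_true, zero_pow, add_zero] at hn
  refine ne_zero_of_norm_sub_lt (a := 1) ?_
  rw [term_split h t, hS, hw, hw', Finset.sum_eq_zero (s := F₁) (fun χ hχ => by rw [hF χ hχ]; simp),
    Finset.sum_eq_zero (s := R₀) (fun χ hχ => by rw [hR χ hχ]; simp), t.St_val.1]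
  simp only [one_mul, zero_mul, zero_div, add_zero, Complex.ofReal_one]
  rw [add_assoc, add_sub_cancel_left]
  refine lt_of_le_of_lt (norm_add_le _ _) ?_
  have h1 : ‖conj ((St : G → ℂ) g) / (q : ℂ) ^ 2‖ ≤ (q : ℝ) / (q : ℝ) ^ 2 := by
    rw [norm_div, Complex.norm_conj, norm_pow, Complex.norm_natCast]
    exact div_le_div_of_nonneg_right (norm_le_q h hq hH St hg) (by positivity)
  have h2 := norm_sum_term_le (s := Qs) (x := x) (g := g) (D := (q : ℝ) ^ 2 + 1) (B := q)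
    (fun χ hχ => by rw [(t.Qs_val χ hχ).1]; push_cast; rfl) (by positivity)
    (fun χ _ => norm_le_q h hq hH χ hg)
  rw [show ∑ χ ∈ Qs, ‖(χ : G → ℂ) x‖ ^ 2 = (q : ℝ) - 3 by linarith] at h2
  have h3 : ((q : ℝ) - 3) * q / ((q : ℝ) ^ 2 + 1) ≤ ((q : ℝ) - 3) * q / (q : ℝ) ^ 2 :=
    div_le_div_of_nonneg_left (mul_nonneg (by linarith) (by linarith)) (by positivity)
      (by linarith)
  have h4 : (q : ℝ) / (q : ℝ) ^ 2 + ((q : ℝ) - 3) * q / (q : ℝ) ^ 2 < 1 := by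
    rw [← add_div, div_lt_one (by positivity)]
    nlinarith only [hqR]
  linarith

/-- Sum of the squares over the exceptional family. -/
theorem sq_sum_cases (x : G) {X : ℂ} {c : ℕ}
    (hC : Nat.card (Subgroup.centralizer ({x} : Set G)) = c)
    (e : ∑ χ : IrrCharacter G, (χ : G → ℂ) x * (χ : G → ℂ) x = 4 + X) :
    X = -4 ∨ X = (c : ℂ) - 4 := by
  classical
  have e1 := Char.sum_mul_conj x x⁻¹
  rw [Finset.sum_congr rfl (g := fun χ : IrrCharacter G => (χ : G → ℂ) x * (χ : G → ℂ) x)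
    (fun χ _ => by rw [Char.IsIrrCharacter.apply_inv χ.2, Complex.conj_conj]), e, hC] at e1
  split_ifs at e1
  · exact Or.inr (by linear_combination e1)
  · exact Or.inl (by linear_combination e1)

/-- The case of an element of the larger exceptional torus. -/
theorem sum_ne_zero_large (hq : qq = q) (hH : hh = H) (t : SzTable h q H St Qs F₁ R₀ w w')
    {x g : G} (hx : x ≠ 1) (hord : orderOf x ∣ q + 2 * H + 1)
    (hC : Nat.card (Subgroup.centralizer ({x} : Set G)) = q + 2 * H + 1) (hg : g ≠ 1) :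
    ∑ χ : IrrCharacter G,
      (χ : G → ℂ) x * (χ : G → ℂ) x * conj ((χ : G → ℂ) g) / (χ : G → ℂ) 1 ≠ 0 := by
  classical
  obtain ⟨hQ, hR, -, hw, hw', hS⟩ := values_large h hq hH t hx hord
  have hqh : q = 2 * H ^ 2 := by rw [← hq, ← hH]; exact (borelData h).q_eq
  have hH2 : 2 ≤ H := by rw [← hH]; exact Nat.le_self_pow (by have := h.one_le; omega) 2
  have hqR : (q : ℝ) = 2 * (H : ℝ) ^ 2 := by exact_mod_cast hqh
  have hHR : (2 : ℝ) ≤ H := by exact_mod_cast hH2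
  have hq8 : (8 : ℝ) ≤ q := by rw [hqR]; nlinarith
  set D : ℝ := ((q : ℝ) - 1) * ((q : ℝ) + 1 - 2 * H) with hDdef
  have hD0 : 0 < D := mul_pos (by linarith) (by nlinarith)
  have hDv : ∀ χ ∈ F₁, (χ : G → ℂ) 1 = (D : ℂ) := fun χ hχ => by
    rw [(t.F₁_val χ hχ).1, hDdef]; push_cast; rfl
  have hn := norm_split h t x
  rw [hS, hw, hw', Finset.sum_eq_zero (s := Qs) (fun χ hχ => by rw [hQ χ hχ]; simp),
    Finset.sum_eq_zero (s := R₀) (fun χ hχ => by rw [hR χ hχ]; simp), hC] at hn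
  simp only [norm_one, norm_neg, one_pow, add_zero] at hn
  push_cast at hn
  have hX : ∑ χ ∈ F₁, ‖(χ : G → ℂ) x‖ ^ 2 = (q : ℝ) + 2 * H - 3 := by linarith
  have hsplit : ∑ χ : IrrCharacter G,
      (χ : G → ℂ) x * (χ : G → ℂ) x * conj ((χ : G → ℂ) g) / (χ : G → ℂ) 1 =
      1 + conj ((St : G → ℂ) g) / (q : ℂ) ^ 2 +
      ∑ χ ∈ F₁, (χ : G → ℂ) x * (χ : G → ℂ) x * conj ((χ : G → ℂ) g) / (χ : G → ℂ) 1 +
      conj ((w : G → ℂ) g + (w' : G → ℂ) g) / (((q : ℂ) - 1) * H) := by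
    rw [term_split h t, hS, hw, hw', t.St_val.1, t.w_val.1, t.w'_val.1,
      Finset.sum_eq_zero (s := Qs) (fun χ hχ => by rw [hQ χ hχ]; simp),
      Finset.sum_eq_zero (s := R₀) (fun χ hχ => by rw [hR χ hχ]; simp), map_add, add_div]
    ring
  rw [hsplit]
  have hrat : ((q : ℝ) + 2 * H - 3) * (2 * H - 1) / D ≤ 4 / 5 := by
    rw [div_le_iff₀ hD0, hDdef, hqR]
    nlinarith [mul_nonneg (sub_nonneg.2 hHR) (sub_nonneg.2 hHR),
      mul_nonneg (mul_nonneg (sub_nonneg.2 hHR) (sub_nonneg.2 hHR)) (sub_nonneg.2 hHR),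
      pow_nonneg (sub_nonneg.2 hHR) 4]
  have hq7 : 2 / ((q : ℝ) - 1) ≤ 2 / 7 := div_le_div_of_nonneg_left (by norm_num) (by norm_num)
    (by linarith)
  have hq64 : 1 / (q : ℝ) ^ 2 ≤ 1 / 64 :=
    div_le_div_of_nonneg_left (by norm_num) (by norm_num) (by nlinarith only [hq8])
  rcases element_cases h hq hH hg with e | hu | ⟨e, -⟩ | ⟨e, eC⟩ | ⟨e, -⟩
  · -- involutions
    rw [apply_of_isConj St e, apply_of_isConj w e, apply_of_isConj w' e, t.St_val.2.1,
      t.w_val.2.1, t.w'_val.2.1, sum_term_const hDv (c := 2 * (H : ℂ) - 1)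
      (fun χ hχ => by rw [apply_of_isConj χ e, (t.F₁_val χ hχ).2.1])]
    have hcases := sq_sum_cases h x hC (X := ∑ χ ∈ F₁, (χ : G → ℂ) x * (χ : G → ℂ) x) (by
      rw [t.split, hS, hw, hw', Finset.sum_eq_zero (s := Qs) (fun χ hχ => by rw [hQ χ hχ]; simp),
        Finset.sum_eq_zero (s := R₀) (fun χ hχ => by rw [hR χ hχ]; simp),
        Char.principalIrr_apply]
      ring)
    have hH0 : (H : ℝ) ≠ 0 := by linarith
    obtain ⟨r, hr0, hr⟩ : ∃ r : ℝ, -4 ≤ r ∧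
        ∑ χ ∈ F₁, (χ : G → ℂ) x * (χ : G → ℂ) x = (r : ℂ) := by
      rcases hcases with e' | e'
      · exact ⟨-4, le_rfl, by rw [e']; push_cast; rfl⟩
      · exact ⟨(q : ℝ) + 2 * H + 1 - 4, by linarith, by rw [e']; push_cast; ring⟩
    have hval : 1 + conj (0 : ℂ) / (q : ℂ) ^ 2 + (r : ℂ) * conj (2 * (H : ℂ) - 1) / (D : ℂ) +
        conj (-(H : ℂ) + -(H : ℂ)) / (((q : ℂ) - 1) * H) =
        ((1 + r * (2 * H - 1) / D + -(2 * H) / (((q : ℝ) - 1) * H) : ℝ) : ℂ) := by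
      simp only [map_zero, zero_div, add_zero, map_sub, map_mul, map_ofNat, map_one, map_add,
        map_neg, Complex.conj_natCast]
      push_cast
      ring
    rw [hr, hval, Complex.ofReal_ne_zero]
    refine ne_of_gt ?_
    have e1 : -(4 * (2 * (H : ℝ) - 1) / D) ≤ r * (2 * H - 1) / D := by
      rw [neg_div', div_le_div_iff_of_pos_right hD0]
      nlinarith only [hr0, hHR]
    have e2 : 4 * (2 * (H : ℝ) - 1) / D ≤ ((q : ℝ) + 2 * H - 3) * (2 * H - 1) / D * (1 / 2) := by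
      rw [div_mul_eq_mul_div, div_le_div_iff_of_pos_right hD0]
      nlinarith only [hq8, hHR]
    have e3 : -(2 * (H : ℝ)) / (((q : ℝ) - 1) * H) = -(2 / ((q : ℝ) - 1)) := by
      rw [neg_div, mul_div_mul_right _ _ hH0]
    linarith
  · -- elements of order four
    have hval : (St : G → ℂ) g = 0 ∧ (w : G → ℂ) g + (w' : G → ℂ) g = 0 ∧
        ∀ χ ∈ F₁, ‖(χ : G → ℂ) g‖ ≤ 1 := by
      rcases hu with e | e <;> refine ⟨?_, ?_, fun χ hχ => ?_⟩ <;>
        simp only [apply_of_isConj _ e]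
      · exact t.St_val.2.2.1
      · rw [t.w_val.2.2.1, t.w'_val.2.2.1, add_neg_cancel]
      · rw [(t.F₁_val χ hχ).2.2.1, norm_neg, norm_one]
      · exact t.St_val.2.2.2
      · rw [t.w_val.2.2.2, t.w'_val.2.2.2, neg_add_cancel]
      · rw [(t.F₁_val χ hχ).2.2.2, norm_neg, norm_one]
    rw [hval.1, hval.2.1]
    simp only [map_zero, zero_div, add_zero]
    refine ne_zero_of_norm_sub_lt (a := 1) ?_
    rw [Complex.ofReal_one, add_sub_cancel_left]
    refine lt_of_le_of_lt (norm_sum_term_le hDv hD0 hval.2.2) ?_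
    rw [hX]
    refine lt_of_le_of_lt ?_ (show (4 / 5 : ℝ) < 1 by norm_num)
    refine le_trans ?_ hrat
    rw [div_le_div_iff_of_pos_right hD0]
    exact mul_le_mul_of_nonneg_left (by linarith) (by linarith)
  · obtain ⟨hF', -, hw₂, hw₂', -, hS'⟩ := values_torus h hq hH t hg e
    rw [hS', hw₂, hw₂', Finset.sum_eq_zero (s := F₁) (fun χ hχ => by rw [hF' χ hχ]; simp)]
    simp only [map_one, add_zero, map_zero, zero_div]
    rw [show (1 : ℂ) + 1 / (q : ℂ) ^ 2 = ((1 + 1 / (q : ℝ) ^ 2 : ℝ) : ℂ) by push_cast; rfl,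
      Complex.ofReal_ne_zero]
    positivity
  · obtain ⟨hQ', hR', -, hw₂, hw₂', hS'⟩ := values_large h hq hH t hg e
    have hn' := norm_split h t g
    rw [hS', hw₂, hw₂', Finset.sum_eq_zero (s := Qs) (fun χ hχ => by rw [hQ' χ hχ]; simp),
      Finset.sum_eq_zero (s := R₀) (fun χ hχ => by rw [hR' χ hχ]; simp), eC] at hn'
    simp only [norm_one, norm_neg, one_pow, add_zero] at hn'
    push_cast at hn'
    have hB : ∀ χ ∈ F₁, ‖(χ : G → ℂ) g‖ ≤ 2 * (H : ℝ) - 1 := by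
      intro χ hχ
      refine (sq_le_sq₀ (norm_nonneg _) (by linarith)).1 (le_trans (Finset.single_le_sum
        (f := fun χ : IrrCharacter G => ‖(χ : G → ℂ) g‖ ^ 2) (fun _ _ => sq_nonneg _) hχ) ?_)
      nlinarith only [hn', hqR, hHR]
    rw [hS', hw₂, hw₂']
    simp only [map_neg, map_one, map_add]
    have hb := norm_sum_term_le (x := x) hDv hD0 hB
    rw [hX] at hb
    refine ne_zero_of_norm_sub_lt
      (a := 1 + -1 / (q : ℝ) ^ 2 + (1 + 1) / (((q : ℝ) - 1) * H)) ?_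
    refine lt_of_eq_of_lt (congrArg norm (show _ = ∑ χ ∈ F₁,
        (χ : G → ℂ) x * (χ : G → ℂ) x * conj ((χ : G → ℂ) g) / (χ : G → ℂ) 1 by
      push_cast; ring)) ?_
    have hpos : (0 : ℝ) ≤ (1 + 1) / (((q : ℝ) - 1) * H) :=
      div_nonneg (by norm_num) (mul_nonneg (by linarith) (by linarith))
    rw [neg_div]
    linarith
  · obtain ⟨-, hF', -, hw₂, hw₂', hS'⟩ := values_small h hq hH t hg e
    rw [hS', hw₂, hw₂', Finset.sum_eq_zero (s := F₁) (fun χ hχ => by rw [hF' χ hχ]; simp)]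
    simp only [map_neg, map_one, map_add, add_zero]
    rw [show (1 : ℂ) + -1 / (q : ℂ) ^ 2 + (-1 + -1) / (((q : ℂ) - 1) * H) =
      ((1 + -1 / (q : ℝ) ^ 2 + (-1 + -1) / (((q : ℝ) - 1) * H) : ℝ) : ℂ) by push_cast; rfl,
      Complex.ofReal_ne_zero]
    refine ne_of_gt ?_
    have e3 : -((2 : ℝ) / ((q : ℝ) - 1)) ≤ (-1 + -1) / (((q : ℝ) - 1) * H) := by
      rw [show ((-1 : ℝ) + -1) = -2 by norm_num, neg_div, neg_le_neg_iff]
      exact div_le_div_of_nonneg_left (by norm_num) (by linarith)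
        (le_mul_of_one_le_right (by linarith) (by linarith))
    rw [neg_div]
    linarith

/-- The case of an element of the smaller exceptional torus. -/
theorem sum_ne_zero_small (hq : qq = q) (hH : hh = H) (t : SzTable h q H St Qs F₁ R₀ w w')
    {x g : G} (hx : x ≠ 1) (hord : orderOf x ∣ q + 1 - 2 * H)
    (hC : Nat.card (Subgroup.centralizer ({x} : Set G)) = q + 1 - 2 * H) (hg : g ≠ 1) :
    ∑ χ : IrrCharacter G,
      (χ : G → ℂ) x * (χ : G → ℂ) x * conj ((χ : G → ℂ) g) / (χ : G → ℂ) 1 ≠ 0 := by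
  classical
  obtain ⟨hQ, hF, -, hw, hw', hS⟩ := values_small h hq hH t hx hord
  have hqh : q = 2 * H ^ 2 := by rw [← hq, ← hH]; exact (borelData h).q_eq
  have hH2 : 2 ≤ H := by rw [← hH]; exact Nat.le_self_pow (by have := h.one_le; omega) 2
  have hle : 2 * H ≤ q + 1 := by rw [hqh]; have := Nat.le_self_pow two_ne_zero H; omega
  have hqR : (q : ℝ) = 2 * (H : ℝ) ^ 2 := by exact_mod_cast hqh
  have hHR : (2 : ℝ) ≤ H := by exact_mod_cast hH2
  have hq8 : (8 : ℝ) ≤ q := by rw [hqR]; nlinarith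
  set D : ℝ := ((q : ℝ) - 1) * ((q : ℝ) + 2 * H + 1) with hDdef
  have hD0 : 0 < D := mul_pos (by linarith) (by linarith)
  have hDv : ∀ χ ∈ R₀, (χ : G → ℂ) 1 = (D : ℂ) := fun χ hχ => by
    rw [(t.R₀_val χ hχ).1, hDdef]; push_cast; rfl
  have hn := norm_split h t x
  rw [hS, hw, hw', Finset.sum_eq_zero (s := Qs) (fun χ hχ => by rw [hQ χ hχ]; simp),
    Finset.sum_eq_zero (s := F₁) (fun χ hχ => by rw [hF χ hχ]; simp), hC, Nat.cast_sub hle] at hn
  simp only [norm_one, norm_neg, one_pow, add_zero] at hn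
  push_cast at hn
  have hX : ∑ χ ∈ R₀, ‖(χ : G → ℂ) x‖ ^ 2 = (q : ℝ) - 2 * H - 3 := by linarith
  have hsplit : ∑ χ : IrrCharacter G,
      (χ : G → ℂ) x * (χ : G → ℂ) x * conj ((χ : G → ℂ) g) / (χ : G → ℂ) 1 =
      1 + conj ((St : G → ℂ) g) / (q : ℂ) ^ 2 +
      ∑ χ ∈ R₀, (χ : G → ℂ) x * (χ : G → ℂ) x * conj ((χ : G → ℂ) g) / (χ : G → ℂ) 1 +
      conj ((w : G → ℂ) g + (w' : G → ℂ) g) / (((q : ℂ) - 1) * H) := by
    rw [term_split h t, hS, hw, hw', t.St_val.1, t.w_val.1, t.w'_val.1,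
      Finset.sum_eq_zero (s := Qs) (fun χ hχ => by rw [hQ χ hχ]; simp),
      Finset.sum_eq_zero (s := F₁) (fun χ hχ => by rw [hF χ hχ]; simp), map_add, add_div]
    ring
  rw [hsplit]
  have hrat : ((q : ℝ) - 2 * H + 1) * (2 * H + 1) / D ≤ 1 / 2 := by
    rw [div_le_iff₀ hD0, hDdef, hqR]
    nlinarith [mul_nonneg (sub_nonneg.2 hHR) (sub_nonneg.2 hHR),
      mul_nonneg (mul_nonneg (sub_nonneg.2 hHR) (sub_nonneg.2 hHR)) (sub_nonneg.2 hHR),
      pow_nonneg (sub_nonneg.2 hHR) 4]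
  have hq7 : 2 / ((q : ℝ) - 1) ≤ 2 / 7 := div_le_div_of_nonneg_left (by norm_num) (by norm_num)
    (by linarith)
  have hq64 : 1 / (q : ℝ) ^ 2 ≤ 1 / 64 :=
    div_le_div_of_nonneg_left (by norm_num) (by norm_num) (by nlinarith only [hq8])
  rcases element_cases h hq hH hg with e | hu | ⟨e, -⟩ | ⟨e, -⟩ | ⟨e, eC⟩
  · -- involutions
    rw [apply_of_isConj St e, apply_of_isConj w e, apply_of_isConj w' e, t.St_val.2.1,
      t.w_val.2.1, t.w'_val.2.1, sum_term_const hDv (c := -(2 * (H : ℂ) + 1))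
      (fun χ hχ => by rw [apply_of_isConj χ e, (t.R₀_val χ hχ).2.1])]
    have hcases := sq_sum_cases h x hC (X := ∑ χ ∈ R₀, (χ : G → ℂ) x * (χ : G → ℂ) x) (by
      rw [t.split, hS, hw, hw', Finset.sum_eq_zero (s := Qs) (fun χ hχ => by rw [hQ χ hχ]; simp),
        Finset.sum_eq_zero (s := F₁) (fun χ hχ => by rw [hF χ hχ]; simp),
        Char.principalIrr_apply]
      ring)
    have hH0 : (H : ℝ) ≠ 0 := by linarith
    obtain ⟨r, hr0, hr⟩ : ∃ r : ℝ, r ≤ (q : ℝ) - 2 * H + 1 ∧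
        ∑ χ ∈ R₀, (χ : G → ℂ) x * (χ : G → ℂ) x = (r : ℂ) := by
      rcases hcases with e' | e'
      · exact ⟨-4, by nlinarith only [hqR, hHR], by rw [e']; push_cast; rfl⟩
      · exact ⟨(q : ℝ) + 1 - 2 * H - 4, by linarith, by
          rw [e', Nat.cast_sub hle]; push_cast; ring⟩
    have hval : 1 + conj (0 : ℂ) / (q : ℂ) ^ 2 + (r : ℂ) * conj (-(2 * (H : ℂ) + 1)) / (D : ℂ) +
        conj (-(H : ℂ) + -(H : ℂ)) / (((q : ℂ) - 1) * H) =
        ((1 + -(r * (2 * H + 1) / D) + -(2 * H) / (((q : ℝ) - 1) * H) : ℝ) : ℂ) := by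
      simp only [map_zero, zero_div, add_zero, map_sub, map_mul, map_ofNat, map_one, map_add,
        map_neg, Complex.conj_natCast]
      push_cast
      ring
    rw [hr, hval, Complex.ofReal_ne_zero]
    refine ne_of_gt ?_
    have e1 : r * (2 * (H : ℝ) + 1) / D ≤ ((q : ℝ) - 2 * H + 1) * (2 * H + 1) / D := by
      rw [div_le_div_iff_of_pos_right hD0]
      exact mul_le_mul_of_nonneg_right hr0 (by linarith)
    have e3 : -(2 * (H : ℝ)) / (((q : ℝ) - 1) * H) = -(2 / ((q : ℝ) - 1)) := by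
      rw [neg_div, mul_div_mul_right _ _ hH0]
    linarith
  · -- elements of order four
    have hval : (St : G → ℂ) g = 0 ∧ (w : G → ℂ) g + (w' : G → ℂ) g = 0 ∧
        ∀ χ ∈ R₀, ‖(χ : G → ℂ) g‖ ≤ 1 := by
      rcases hu with e | e <;> refine ⟨?_, ?_, fun χ hχ => ?_⟩ <;>
        simp only [apply_of_isConj _ e]
      · exact t.St_val.2.2.1
      · rw [t.w_val.2.2.1, t.w'_val.2.2.1, add_neg_cancel]
      · rw [(t.R₀_val χ hχ).2.2.1, norm_neg, norm_one]
      · exact t.St_val.2.2.2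
      · rw [t.w_val.2.2.2, t.w'_val.2.2.2, neg_add_cancel]
      · rw [(t.R₀_val χ hχ).2.2.2, norm_neg, norm_one]
    rw [hval.1, hval.2.1]
    simp only [map_zero, zero_div, add_zero]
    refine ne_zero_of_norm_sub_lt (a := 1) ?_
    rw [Complex.ofReal_one, add_sub_cancel_left]
    refine lt_of_le_of_lt (norm_sum_term_le hDv hD0 hval.2.2) ?_
    rw [hX]
    refine lt_of_le_of_lt ?_ (show (1 / 2 : ℝ) < 1 by norm_num)
    refine le_trans ?_ hrat
    rw [div_le_div_iff_of_pos_right hD0]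
    nlinarith only [hqR, hHR]
  · obtain ⟨-, hR', hw₂, hw₂', -, hS'⟩ := values_torus h hq hH t hg e
    rw [hS', hw₂, hw₂', Finset.sum_eq_zero (s := R₀) (fun χ hχ => by rw [hR' χ hχ]; simp)]
    simp only [map_one, add_zero, map_zero, zero_div]
    rw [show (1 : ℂ) + 1 / (q : ℂ) ^ 2 = ((1 + 1 / (q : ℝ) ^ 2 : ℝ) : ℂ) by push_cast; rfl,
      Complex.ofReal_ne_zero]
    positivity
  · obtain ⟨-, hR', -, hw₂, hw₂', hS'⟩ := values_large h hq hH t hg e
    rw [hS', hw₂, hw₂', Finset.sum_eq_zero (s := R₀) (fun χ hχ => by rw [hR' χ hχ]; simp)]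
    simp only [map_neg, map_one, map_add, add_zero]
    rw [show (1 : ℂ) + -1 / (q : ℂ) ^ 2 + (1 + 1) / (((q : ℂ) - 1) * H) =
      ((1 + -1 / (q : ℝ) ^ 2 + (1 + 1) / (((q : ℝ) - 1) * H) : ℝ) : ℂ) by push_cast; rfl,
      Complex.ofReal_ne_zero]
    refine ne_of_gt ?_
    have hpos : (0 : ℝ) ≤ (1 + 1) / (((q : ℝ) - 1) * H) :=
      div_nonneg (by norm_num) (mul_nonneg (by linarith) (by linarith))
    rw [neg_div]
    linarith
  · obtain ⟨hQ', hF', -, hw₂, hw₂', hS'⟩ := values_small h hq hH t hg e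
    have hn' := norm_split h t g
    rw [hS', hw₂, hw₂', Finset.sum_eq_zero (s := Qs) (fun χ hχ => by rw [hQ' χ hχ]; simp),
      Finset.sum_eq_zero (s := F₁) (fun χ hχ => by rw [hF' χ hχ]; simp), eC, Nat.cast_sub hle]
      at hn'
    simp only [norm_one, norm_neg, one_pow, add_zero] at hn'
    push_cast at hn'
    have hB : ∀ χ ∈ R₀, ‖(χ : G → ℂ) g‖ ≤ 2 * (H : ℝ) + 1 := by
      intro χ hχ
      refine (sq_le_sq₀ (norm_nonneg _) (by linarith)).1 (le_trans (Finset.single_le_sum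
        (f := fun χ : IrrCharacter G => ‖(χ : G → ℂ) g‖ ^ 2) (fun _ _ => sq_nonneg _) hχ) ?_)
      nlinarith only [hn', hqR, hHR]
    rw [hS', hw₂, hw₂']
    simp only [map_neg, map_one, map_add]
    have hb := norm_sum_term_le (x := x) hDv hD0 hB
    rw [hX] at hb
    have hb' : ((q : ℝ) - 2 * H - 3) * (2 * H + 1) / D ≤
        ((q : ℝ) - 2 * H + 1) * (2 * H + 1) / D := by
      rw [div_le_div_iff_of_pos_right hD0]
      exact mul_le_mul_of_nonneg_right (by linarith) (by linarith)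
    refine ne_zero_of_norm_sub_lt
      (a := 1 + -1 / (q : ℝ) ^ 2 + (-1 + -1) / (((q : ℝ) - 1) * H)) ?_
    refine lt_of_eq_of_lt (congrArg norm (show _ = ∑ χ ∈ R₀,
        (χ : G → ℂ) x * (χ : G → ℂ) x * conj ((χ : G → ℂ) g) / (χ : G → ℂ) 1 by
      push_cast; ring)) ?_
    have e3 : -((2 : ℝ) / ((q : ℝ) - 1)) ≤ (-1 + -1) / (((q : ℝ) - 1) * H) := by
      rw [show ((-1 : ℝ) + -1) = -2 by norm_num, neg_div, neg_le_neg_iff]
      exact div_le_div_of_nonneg_left (by norm_num) (by linarith)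
        (le_mul_of_one_le_right (by linarith) (by linarith))
    rw [neg_div]
    linarith

/-- The case of an element of order four. -/
theorem sum_ne_zero_four (hq : qq = q) (hH : hh = H) (t : SzTable h q H St Qs F₁ R₀ w w')
    {x g : G} (hx : IsConj (tS h 1 0) x ∨ IsConj (tS h 1 0)⁻¹ x) (hg : g ≠ 1) :
    ∑ χ : IrrCharacter G,
      (χ : G → ℂ) x * (χ : G → ℂ) x * conj ((χ : G → ℂ) g) / (χ : G → ℂ) 1 ≠ 0 := by
  classical
  have hqh : q = 2 * H ^ 2 := by rw [← hq, ← hH]; exact (borelData h).q_eq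
  have hH2 : 2 ≤ H := by rw [← hH]; exact Nat.le_self_pow (by have := h.one_le; omega) 2
  have hqR : (q : ℝ) = 2 * (H : ℝ) ^ 2 := by exact_mod_cast hqh
  have hHR : (2 : ℝ) ≤ H := by exact_mod_cast hH2
  have hq8 : (8 : ℝ) ≤ q := by rw [hqR]; nlinarith
  have hvx : (St : G → ℂ) x = 0 ∧ (∀ χ ∈ Qs, (χ : G → ℂ) x * (χ : G → ℂ) x = 1) ∧
      (∀ χ ∈ F₁, (χ : G → ℂ) x * (χ : G → ℂ) x = 1) ∧
      (∀ χ ∈ R₀, (χ : G → ℂ) x * (χ : G → ℂ) x = 1) ∧
      (w : G → ℂ) x * (w : G → ℂ) x = -(H : ℂ) ^ 2 ∧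
      (w' : G → ℂ) x * (w' : G → ℂ) x = -(H : ℂ) ^ 2 := by
    rcases hx with e | e <;>
      refine ⟨?_, fun χ hχ => ?_, fun χ hχ => ?_, fun χ hχ => ?_, ?_, ?_⟩ <;>
      simp only [apply_of_isConj _ e]
    · exact t.St_val.2.2.1
    · rw [(t.Qs_val χ hχ).2.2.1, mul_one]
    · rw [(t.F₁_val χ hχ).2.2.1]; norm_num
    · rw [(t.R₀_val χ hχ).2.2.1]; norm_num
    · rw [t.w_val.2.2.1]; linear_combination (H : ℂ) ^ 2 * Complex.I_mul_I
    · rw [t.w'_val.2.2.1]; linear_combination (H : ℂ) ^ 2 * Complex.I_mul_I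
    · exact t.St_val.2.2.2
    · rw [(t.Qs_val χ hχ).2.2.2, mul_one]
    · rw [(t.F₁_val χ hχ).2.2.2]; norm_num
    · rw [(t.R₀_val χ hχ).2.2.2]; norm_num
    · rw [t.w_val.2.2.2]; linear_combination (H : ℂ) ^ 2 * Complex.I_mul_I
    · rw [t.w'_val.2.2.2]; linear_combination (H : ℂ) ^ 2 * Complex.I_mul_I
  obtain ⟨v1, v2, v3, v4, v5, v6⟩ := hvx
  set A : ℝ := (q : ℝ) ^ 2 + 1 with hA
  set D₁ : ℝ := ((q : ℝ) - 1) * ((q : ℝ) + 1 - 2 * H) with hD₁
  set D₂ : ℝ := ((q : ℝ) - 1) * ((q : ℝ) + 2 * H + 1) with hD₂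
  have hA0 : 0 < A := by positivity
  have hD₁0 : 0 < D₁ := mul_pos (by linarith) (by nlinarith)
  have hD₂0 : 0 < D₂ := mul_pos (by linarith) (by linarith)
  have hD12 : D₁ ≤ D₂ := mul_le_mul_of_nonneg_left (by linarith) (by linarith)
  rw [term_split h t, v1, v5, v6, t.w_val.1, t.w'_val.1,
    sum_term_sq (s := Qs) (D := (A : ℂ)) (fun χ hχ => by
      rw [(t.Qs_val χ hχ).1, hA]; push_cast; rfl) v2,
    sum_term_sq (s := F₁) (D := (D₁ : ℂ)) (fun χ hχ => by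
      rw [(t.F₁_val χ hχ).1, hD₁]; push_cast; rfl) v3,
    sum_term_sq (s := R₀) (D := (D₂ : ℂ)) (fun χ hχ => by
      rw [(t.R₀_val χ hχ).1, hD₂]; push_cast; rfl) v4]
  have hH0 : (H : ℂ) ≠ 0 := Nat.cast_ne_zero.2 (by omega)
  -- it is enough to show that the sum is a positive real
  suffices hpos : ∃ a b c d : ℝ, conj (∑ χ ∈ Qs, (χ : G → ℂ) g) = (a : ℂ) ∧
      conj (∑ χ ∈ F₁, (χ : G → ℂ) g) = (b : ℂ) ∧ conj (∑ χ ∈ R₀, (χ : G → ℂ) g) = (c : ℂ) ∧
      conj ((w : G → ℂ) g + (w' : G → ℂ) g) = (d : ℂ) ∧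
      0 < 1 + a / A + b / D₁ + c / D₂ - d * (H / ((q : ℝ) - 1)) by
    obtain ⟨a, b, c, d, ha, hb, hc, hd, hp⟩ := hpos
    rw [ha, hb, hc]
    have hq1 : (q : ℂ) - 1 ≠ 0 := by
      rw [sub_ne_zero]
      exact fun e => by have := Nat.cast_eq_one.1 e; rw [this] at hq8; norm_num at hq8
    have e : -(H : ℂ) ^ 2 * conj ((w : G → ℂ) g) / (((q : ℂ) - 1) * H) +
        -(H : ℂ) ^ 2 * conj ((w' : G → ℂ) g) / (((q : ℂ) - 1) * H) =
        -((d : ℂ) * ((H : ℂ) / ((q : ℂ) - 1))) := by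
      rw [← hd, map_add]
      field_simp
      ring
    simp only [zero_mul, zero_div, add_zero, one_mul]
    rw [add_assoc, e, show (1 : ℂ) + (a : ℂ) / (A : ℂ) + (b : ℂ) / (D₁ : ℂ) + (c : ℂ) / (D₂ : ℂ) +
        -((d : ℂ) * ((H : ℂ) / ((q : ℂ) - 1))) =
        ((1 + a / A + b / D₁ + c / D₂ - d * (H / ((q : ℝ) - 1)) : ℝ) : ℂ) by push_cast; ring,
      Complex.ofReal_ne_zero]
    exact ne_of_gt hp
  have hcard : ((F₁.card : ℝ) + R₀.card) * 2 = q := by
    have := t.card_exc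
    exact_mod_cast (show (F₁.card + R₀.card) * 2 = q by omega)
  have hsmall : ((F₁.card : ℝ) + R₀.card) * (2 * H + 1) / D₁ < 1 := by
    rw [div_lt_one hD₁0, hD₁, show (F₁.card : ℝ) + R₀.card = (H : ℝ) ^ 2 by linarith, hqR]
    nlinarith only [hHR, mul_nonneg (sub_nonneg.2 hHR) (sub_nonneg.2 hHR),
      mul_nonneg (mul_nonneg (sub_nonneg.2 hHR) (sub_nonneg.2 hHR)) (sub_nonneg.2 hHR),
      pow_nonneg (sub_nonneg.2 hHR) 4]
  have hHq : 0 < (H : ℝ) / ((q : ℝ) - 1) := div_pos (by linarith) (by linarith)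
  rcases element_cases h hq hH hg with e | hu | ⟨e, -⟩ | ⟨e, -⟩ | ⟨e, -⟩
  · refine ⟨Qs.card, F₁.card * (2 * H - 1), -(R₀.card * (2 * H + 1)), -(2 * H), ?_, ?_, ?_, ?_, ?_⟩
    · rw [Finset.sum_congr rfl fun χ hχ => by
        rw [apply_of_isConj χ e, (t.Qs_val χ hχ).2.1]]
      simp
    · rw [Finset.sum_congr rfl fun χ hχ => by
        rw [apply_of_isConj χ e, (t.F₁_val χ hχ).2.1]]
      simp [map_ofNat]
      ring
    · rw [Finset.sum_congr rfl fun χ hχ => by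
        rw [apply_of_isConj χ e, (t.R₀_val χ hχ).2.1]]
      simp [map_ofNat]
      ring
    · rw [apply_of_isConj w e, apply_of_isConj w' e, t.w_val.2.1, t.w'_val.2.1]
      simp only [map_add, map_neg, Complex.conj_natCast]
      push_cast
      ring
    · have e1 : 0 ≤ (Qs.card : ℝ) / A := by positivity
      have e2 : 0 ≤ (F₁.card : ℝ) * (2 * H - 1) / D₁ :=
        div_nonneg (mul_nonneg (by positivity) (by linarith)) hD₁0.le
      have e3 : (R₀.card : ℝ) * (2 * H + 1) / D₂ ≤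
          ((F₁.card : ℝ) + R₀.card) * (2 * H + 1) / D₁ :=
        div_le_div₀ (by positivity) (mul_le_mul_of_nonneg_right
          (le_add_of_nonneg_left (by positivity)) (by linarith)) hD₁0 hD12
      have e4 : 0 ≤ 2 * (H : ℝ) * (H / ((q : ℝ) - 1)) := by positivity
      rw [neg_mul, sub_neg_eq_add, neg_div]
      linarith
  · refine ⟨Qs.card, -F₁.card, -R₀.card, 0, ?_, ?_, ?_, ?_, ?_⟩
    · rw [Finset.sum_congr rfl (g := fun _ => (1 : ℂ)) fun χ hχ => by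
        rcases hu with e | e <;> rw [apply_of_isConj χ e]
        exacts [(t.Qs_val χ hχ).2.2.1, (t.Qs_val χ hχ).2.2.2]]
      simp
    · rw [Finset.sum_congr rfl (g := fun _ => (-1 : ℂ)) fun χ hχ => by
        rcases hu with e | e <;> rw [apply_of_isConj χ e]
        exacts [(t.F₁_val χ hχ).2.2.1, (t.F₁_val χ hχ).2.2.2]]
      simp
    · rw [Finset.sum_congr rfl (g := fun _ => (-1 : ℂ)) fun χ hχ => by
        rcases hu with e | e <;> rw [apply_of_isConj χ e]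
        exacts [(t.R₀_val χ hχ).2.2.1, (t.R₀_val χ hχ).2.2.2]]
      simp
    · rcases hu with e | e <;> rw [apply_of_isConj w e, apply_of_isConj w' e]
      · rw [t.w_val.2.2.1, t.w'_val.2.2.1]; simp
      · rw [t.w_val.2.2.2, t.w'_val.2.2.2]; simp
    · have e1 : 0 ≤ (Qs.card : ℝ) / A := by positivity
      have e3 : (F₁.card : ℝ) / D₁ + (R₀.card : ℝ) / D₂ ≤
          ((F₁.card : ℝ) + R₀.card) / D₁ := by
        rw [add_div]
        linarith [div_le_div_of_nonneg_left (Nat.cast_nonneg R₀.card : (0 : ℝ) ≤ _) hD₁0 hD12]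
      have e5 : ((F₁.card : ℝ) + R₀.card) / D₁ ≤
          ((F₁.card : ℝ) + R₀.card) * (2 * H + 1) / D₁ :=
        div_le_div_of_nonneg_right (le_mul_of_one_le_right (by positivity) (by linarith)) hD₁0.le
      rw [neg_div, neg_div]
      linarith
  · obtain ⟨hF', hR', hw₂, hw₂', hQ', -⟩ := values_torus h hq hH t hg e
    refine ⟨-1, 0, 0, 0, by rw [hQ']; simp, by rw [Finset.sum_eq_zero hF']; simp,
      by rw [Finset.sum_eq_zero hR']; simp, by rw [hw₂, hw₂']; simp, ?_⟩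
    have : 1 / A < 1 := by rw [div_lt_one hA0, hA]; nlinarith only [hq8]
    rw [neg_div]
    simp only [zero_div, zero_mul]
    linarith
  · obtain ⟨hQ', hR', hF', hw₂, hw₂', -⟩ := values_large h hq hH t hg e
    refine ⟨0, 1, 0, 2, by rw [Finset.sum_eq_zero hQ']; simp, by rw [hF']; simp,
      by rw [Finset.sum_eq_zero hR']; simp,
      by rw [hw₂, hw₂']; simp [one_add_one_eq_two, map_ofNat], ?_⟩
    have e1 : 2 * ((H : ℝ) / ((q : ℝ) - 1)) < 1 := by
      rw [← mul_div_assoc, div_lt_one (by linarith)]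
      nlinarith only [hqR, hHR]
    have e2 : 0 < 1 / D₁ := by positivity
    simp only [zero_div]
    linarith
  · obtain ⟨hQ', hF', hR', hw₂, hw₂', -⟩ := values_small h hq hH t hg e
    refine ⟨0, 0, 1, -2, by rw [Finset.sum_eq_zero hQ']; simp,
      by rw [Finset.sum_eq_zero hF']; simp, by rw [hR']; simp, ?_, ?_⟩
    · rw [hw₂, hw₂']
      simp only [map_add, map_neg, map_one]
      push_cast
      ring
    have e2 : 0 < 1 / D₂ := by positivity
    simp only [zero_div]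
    linarith

omit [Fintype (Cfsg.Sz F m)] in
/-- Every non-trivial element is a product of two conjugates of any element of order above two. -/
theorem exists_product_conj {x : G} (hx : 2 < orderOf x) {g : G} (hg : g ≠ 1) :
    ∃ u v : G, g = (u * x * u⁻¹) * (v * x * v⁻¹) := by
  classical
  letI : Fintype G := Fintype.ofFinite _
  obtain ⟨q, hq⟩ : ∃ q : ℕ, qq = q := ⟨_, rfl⟩
  obtain ⟨H, hH⟩ : ∃ H : ℕ, hh = H := ⟨_, rfl⟩
  obtain ⟨St, Qs, F₁, R₀, w, w', t⟩ := exists_table h hq hH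
  refine exists_product_of_sum_ne_zero x g ?_
  have hx1 : x ≠ 1 := fun e => by rw [e, orderOf_one] at hx; omega
  rcases element_cases h hq hH hx1 with e | e | ⟨e, eC⟩ | ⟨e, eC⟩ | ⟨e, eC⟩
  · exfalso
    obtain ⟨c, hc⟩ := isConj_iff.1 e
    have h2 : x ^ 2 = 1 := by
      rw [pow_two, ← hc, conj_mul, tS_sq, mul_zero, tS_zero, mul_one, mul_inv_cancel]
    exact absurd (orderOf_le_of_pow_eq_one two_pos h2) (by omega)
  · exact sum_ne_zero_four h hq hH t e hg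
  · exact sum_ne_zero_torus h hq hH t hx1 e eC hg
  · exact sum_ne_zero_large h hq hH t hx1 e eC hg
  · exact sum_ne_zero_small h hq hH t hx1 e eC hg

end CfsgLib.SzChar
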