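import Cfsg.Agent.Lib.SuzukiChar.Borel
import Cfsg.Agent.Lib.Char.Virtual
import Cfsg.Agent.Lib.CharDeep.HallComplement

/-!
# The principal series of a Suzuki group
-/

set_option autoImplicit false
set_option linter.style.haveILetI false

open scoped ComplexConjugate

namespace CfsgLib.SzChar

open Cfsg CfsgLib CfsgLib.Suzuki

variable {F : Type*} [Field F] [Fintype F] {m : ℕ} (h : SzHyp F m)
include h

local notation "G" => Cfsg.Sz F m
local notation "B" => borel F m
local notation "Pt" => Projectivization F (Fin 4 → F)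

theorem index_borel : (borel F m).index = (2 ^ (2 * m + 1)) ^ 2 + 1 := by
  have h1 := Subgroup.card_mul_index (borel F m)
  rw [show Nat.card (borel F m) = _ from card_stab h, CfsgLib.Suzuki.card h] at h1
  have h2 : (2 : ℕ) ≤ 2 ^ (2 * m + 1) := le_self_pow₀ one_le_two (by omega)
  refine Nat.eq_of_mul_eq_mul_left
    (Nat.mul_pos (pow_pos (by omega) 2) (show 0 < 2 ^ (2 * m + 1) - 1 by omega)) (h1.trans ?_)
  ring

variable [Fintype (Cfsg.Sz F m)] [Fintype (borel F m)]

/-- An induced linear character has value one on the translations. -/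
theorem indFun_linear_U {lam : IrrCharacter B} (h1 : (lam : B → ℂ) 1 = 1) {x : B}
    (hx : x ∈ borelU h) (hx1 : x ≠ 1) : Cfsg.indFun B (lam : B → ℂ) (x : G) = 1 := by
  classical
  have hx' : (x : G) ≠ 1 := fun e => hx1 (Subtype.ext e)
  have hval : ∀ g : G, Cfsg.extendByZero B (lam : B → ℂ) (g⁻¹ * (x : G) * g) =
      if g ∈ B then 1 else 0 := by
    intro g
    by_cases hg : g ∈ B
    · rw [if_pos hg]
      have hmem : g⁻¹ * (x : G) * g ∈ B := mul_mem (mul_mem (inv_mem hg) x.2) hg
      rw [Char.extendByZero_apply_mem _ _ hmem]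
      refine (borelData h).linear_apply h1 ?_
      have := (borelU_normal h).conj_mem x hx (⟨g, hg⟩ : B)⁻¹
      convert this using 1
      apply Subtype.ext
      simp
    · rw [if_neg hg, Char.extendByZero_of_notMem]
      intro hmem
      have hfix : (x : G) • (g • (pInf : Pt)) = g • pInf :=
        conj_fix.1 (MulAction.mem_stabilizer_iff.1 hmem)
      exact hg (MulAction.mem_stabilizer_iff.2
        (tS_fixed h (Subgroup.mem_subgroupOf.1 hx) hx' (smul_ovoid g.2 pInf_mem) hfix))
  rw [Char.indFun_apply, Finset.sum_congr rfl fun g _ => hval g, Finset.sum_boole]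
  rw [show (Finset.univ.filter fun g : G => g ∈ B).card = Nat.card B by
    rw [Nat.card_eq_fintype_card, ← Fintype.card_subtype]]
  exact inv_mul_cancel₀ (Nat.cast_ne_zero.2 Nat.card_pos.ne')

/-- An induced linear character off the translations. -/
theorem indFun_linear_out {lam : IrrCharacter B} (h1 : (lam : B → ℂ) 1 = 1) {x : B}
    (hx : x ∉ borelU h) :
    Cfsg.indFun B (lam : B → ℂ) (x : G) = (lam : B → ℂ) x + conj ((lam : B → ℂ) x) := by
  classical
  obtain ⟨y, k, hk, hxy⟩ := exists_conj_dS h hx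
  have hcf := Char.IsIrrCharacter.isClassFunction lam.2
  have hd : (lam : B → ℂ) x = (lam : B → ℂ) ⟨dS h k, dS_mem_borel h k⟩ := by
    rw [hxy]; exact hcf _ y
  have hx' : (x : G) = y * dS h k * (y : G)⁻¹ := congrArg Subtype.val hxy
  have hsecond : ∀ g : G, g ∉ B → (wS h * (y : G)⁻¹ * g ∈ B ↔
      g⁻¹ * (x : G) * g ∈ B) := by
    intro g hg
    constructor
    · intro hb
      have : g⁻¹ * (x : G) * g = (wS h * (y : G)⁻¹ * g)⁻¹ * dS h k⁻¹ *
          (wS h * (y : G)⁻¹ * g) := by
        rw [hx', ← wS_conj_dS, mul_inv_rev, mul_inv_rev, wS_inv]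
        simp only [mul_assoc, ← mul_assoc (wS h) (wS h), wS_mul_self, one_mul, inv_inv]
      rw [this]
      exact mul_mem (mul_mem (inv_mem hb) (dS_mem_borel h _)) hb
    · intro hmem
      have hfix : (x : G) • (g • (pInf : Pt)) = g • pInf :=
        conj_fix.1 (MulAction.mem_stabilizer_iff.1 hmem)
      have hfix' : dS h k • (((y : G)⁻¹ * g) • (pInf : Pt)) = ((y : G)⁻¹ * g) • pInf := by
        rw [hx'] at hfix
        rw [mul_smul, mul_smul] at hfix
        rw [mul_smul, eq_inv_smul_iff]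
        exact hfix
      have hp := dS_fixed' h hk (smul_ovoid ((y : G)⁻¹ * g).2 pInf_mem) hfix'
      change ((y : G)⁻¹ * g) • (pInf : Pt) = pInf ∨
        ((y : G)⁻¹ * g) • (pInf : Pt) = pAff m (0 : F) 0 at hp
      rcases hp with hp | hp
      · exact absurd (by simpa using mul_mem y.2 (MulAction.mem_stabilizer_iff.2 hp :
          (y : G)⁻¹ * g ∈ B)) hg
      · refine MulAction.mem_stabilizer_iff.2 ?_
        rw [mul_assoc, mul_smul, hp, wS_smul_p0]
  have hval : ∀ g : G, Cfsg.extendByZero B (lam : B → ℂ) (g⁻¹ * (x : G) * g) =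
      (if g ∈ B then (lam : B → ℂ) x else 0) +
        (if wS h * (y : G)⁻¹ * g ∈ B then conj ((lam : B → ℂ) x) else 0) := by
    intro g
    by_cases hg : g ∈ B
    · have hn : wS h * (y : G)⁻¹ * g ∉ B := by
        intro hb
        have hw : wS h ∈ B := by
          have := mul_mem hb (inv_mem (mul_mem (inv_mem y.2) hg))
          simpa [mul_assoc] using this
        have h2 := MulAction.mem_stabilizer_iff.1 hw
        rw [wS_smul_pInf] at h2
        exact pAff_ne_pInf _ _ h2
      rw [if_pos hg, if_neg hn, add_zero,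
        Char.extendByZero_apply_mem _ _ (mul_mem (mul_mem (inv_mem hg) x.2) hg)]
      have := hcf x (⟨g, hg⟩ : B)⁻¹
      rw [inv_inv] at this
      exact this
    · rw [if_neg hg, zero_add]
      by_cases hb : wS h * (y : G)⁻¹ * g ∈ B
      · rw [if_pos hb, Char.extendByZero_apply_mem _ _ ((hsecond g hg).1 hb), hd,
          ← Char.IsIrrCharacter.apply_inv lam.2]
        have := hcf (⟨dS h k, dS_mem_borel h k⟩ : B)⁻¹ (⟨_, hb⟩ : B)⁻¹
        rw [inv_inv] at this
        rw [← this]
        refine congrArg (lam : B → ℂ) (Subtype.ext ?_)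
        show g⁻¹ * (x : G) * g = (wS h * (y : G)⁻¹ * g)⁻¹ * (dS h k)⁻¹ *
          (wS h * (y : G)⁻¹ * g)
        rw [hx', dS_inv, ← wS_conj_dS, mul_inv_rev, mul_inv_rev, wS_inv]
        simp only [mul_assoc, ← mul_assoc (wS h) (wS h), wS_mul_self, one_mul, inv_inv]
      · rw [if_neg hb, Char.extendByZero_of_notMem]
        exact fun hmem => hb ((hsecond g hg).2 hmem)
  have hc1 : (Finset.univ.filter fun g : G => g ∈ B).card = Nat.card B := by
    rw [Nat.card_eq_fintype_card, ← Fintype.card_subtype]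
  have hc2 : (Finset.univ.filter fun g : G => wS h * (y : G)⁻¹ * g ∈ B).card = Nat.card B := by
    rw [← hc1]
    refine Finset.card_equiv (Equiv.mulLeft (wS h * (y : G)⁻¹)) fun g => ?_
    simp [mul_assoc]
  rw [Char.indFun_apply, Finset.sum_congr rfl fun g _ => hval g, Finset.sum_add_distrib,
    ← Finset.sum_filter, ← Finset.sum_filter, Finset.sum_const, Finset.sum_const, hc1, hc2,
    ← nsmul_add, nsmul_eq_mul, inv_mul_cancel_left₀ (Nat.cast_ne_zero.2 Nat.card_pos.ne')]

open Classical in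
/-- The norm of an induced linear character. -/
theorem norm_indFun_linear {lam : IrrCharacter B} (h1 : (lam : B → ℂ) 1 = 1) :
    Cfsg.classInner (Cfsg.indFun B (lam : B → ℂ)) (Cfsg.indFun B (lam : B → ℂ)) =
      if (lam : B → ℂ) = (fun _ => 1) then 2 else 1 := by
  have d := borelData h
  obtain ⟨f, hf⟩ := Char.IsCharacter.exists_linear (Char.IsIrrCharacter.isCharacter lam.2) h1
  set q := 2 ^ (2 * m + 1) with hq
  have hfU : ∀ b ∈ borelU h, (f b : ℂ) = 1 := fun b hb => by
    rw [← hf b]; exact d.linear_apply h1 hb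
  have hnorm : ∀ b : B, (lam : B → ℂ) b * conj ((lam : B → ℂ) b) = 1 := fun b => by
    rw [← Char.IsIrrCharacter.apply_inv lam.2, hf, hf, map_inv, Units.mul_inv]
  let g2 : B →* ℂ := (Units.coeHom ℂ).comp (f ^ 2)
  have hg2 : ∀ b, g2 b = (lam : B → ℂ) b * (lam : B → ℂ) b := fun b => by
    simp only [g2, MonoidHom.coe_comp, Function.comp_apply, Units.coeHom_apply,
      MonoidHom.pow_apply, hf]
    rw [sq, Units.val_mul]
  rw [Char.classInner_indFun _ _ _ (Char.isClassFunction_indFun _ _)]
  unfold Cfsg.classInner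
  have hterm : ∀ b : B, (lam : B → ℂ) b * conj (Cfsg.indFun B (lam : B → ℂ) (b : G)) =
      (if b ∈ borelU h then (if b = 1 then ((q : ℂ) ^ 2 + 1) else 1) else 1 + g2 b) := by
    intro b
    by_cases hb : b ∈ borelU h
    · rw [if_pos hb, d.linear_apply h1 hb, one_mul]
      by_cases hb1 : b = 1
      · rw [if_pos hb1, hb1, Subgroup.coe_one, Char.indFun_apply_one, h1, mul_one, index_borel h]
        push_cast
        simp [hq, map_ofNat]
      · rw [if_neg hb1, indFun_linear_U h h1 hb hb1, map_one]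
    · rw [if_neg hb, indFun_linear_out h h1 hb, map_add, Complex.conj_conj, mul_add, hnorm, hg2]
  rw [Finset.sum_congr rfl fun b _ => hterm b, Finset.sum_ite, Finset.sum_add_distrib,
    Finset.sum_const]
  have hcU : (Finset.univ.filter fun b : B => b ∈ borelU h).card = q ^ 2 := by
    rw [← Fintype.card_subtype, ← Nat.card_eq_fintype_card]
    exact d.cardU
  have hU1 : ∑ b ∈ Finset.univ.filter (fun b : B => b ∈ borelU h),
      (if b = 1 then ((q : ℂ) ^ 2 + 1) else 1) = 2 * (q : ℂ) ^ 2 := by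
    rw [← Finset.add_sum_erase _ _ (show (1 : B) ∈ _ from
        Finset.mem_filter.2 ⟨Finset.mem_univ _, one_mem _⟩), if_pos rfl,
      Finset.sum_congr rfl (g := fun _ => (1 : ℂ)) (fun b hb => if_neg (Finset.mem_erase.1 hb).1),
      Finset.sum_const, Finset.card_erase_of_mem (Finset.mem_filter.2 ⟨Finset.mem_univ _, one_mem _⟩),
      hcU, nsmul_one, Nat.cast_sub (Nat.one_le_pow _ _ (by positivity))]
    push_cast
    ring
  have hout : ((Finset.univ.filter fun b : B => ¬ b ∈ borelU h).card : ℂ) =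
      (Nat.card B : ℂ) - (q : ℂ) ^ 2 := by
    have := Finset.card_filter_add_card_filter_not (s := (Finset.univ : Finset B))
      (fun b => b ∈ borelU h)
    rw [hcU, Finset.card_univ, ← Nat.card_eq_fintype_card] at this
    rw [← this]
    push_cast
    ring
  have hsq : ∑ b ∈ Finset.univ.filter (fun b : B => ¬ b ∈ borelU h), g2 b =
      ∑ b : B, g2 b - (q : ℂ) ^ 2 := by
    have e : ∑ b ∈ Finset.univ.filter (fun b : B => b ∈ borelU h), g2 b +
        ∑ b ∈ Finset.univ.filter (fun b : B => ¬ b ∈ borelU h), g2 b = ∑ b : B, g2 b :=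
      Finset.sum_filter_add_sum_filter_not _ _ _
    rw [Finset.sum_congr rfl (g := fun _ => (1 : ℂ))
        (fun b hb => by rw [hg2, d.linear_apply h1 (Finset.mem_filter.1 hb).2, mul_one]),
      Finset.sum_const, hcU, nsmul_one] at e
    push_cast at e
    linear_combination e
  rw [hU1, hsq, nsmul_one, hout]
  have hB : (Nat.card B : ℂ) ≠ 0 := Nat.cast_ne_zero.2 Nat.card_pos.ne'
  by_cases hl : (lam : B → ℂ) = fun _ => 1
  · rw [if_pos hl, Finset.sum_congr rfl (g := fun _ => (1 : ℂ))
      (fun b _ => by rw [hg2, hl, mul_one]), Finset.sum_const, Finset.card_univ, nsmul_one,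
      ← Nat.card_eq_fintype_card]
    field_simp
    ring
  · have hne : g2 ≠ 1 := by
      intro e
      apply hl
      funext b
      have h2 : (f b) ^ 2 = 1 := Units.ext (DFunLike.congr_fun e b)
      have hidx : (borelU h).index = q - 1 := by rw [← d.comm]; exact d.commutator_index
      haveI := borelU_normal h
      have h3 : (f b) ^ (q - 1) = 1 := by
        rw [← map_pow, ← hidx]
        exact Units.ext (hfU _ (Subgroup.pow_index_mem _ b))
      have hodd : Odd (q - 1) := by
        refine Nat.Even.sub_odd (Nat.one_le_pow _ _ two_pos) ?_ odd_one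
        exact (Nat.even_pow' (by omega)).2 even_two
      obtain ⟨j, hj⟩ := hodd
      rw [hj, pow_succ, pow_mul, h2, one_pow, one_mul] at h3
      rw [hf, h3, Units.val_one]
    rw [if_neg hl, sum_hom_units_eq_zero g2 hne]
    field_simp
    ring

/-- The Steinberg character. -/
theorem exists_steinberg : ∃ St : IrrCharacter G,
    (St : G → ℂ) 1 = (((2 ^ (2 * m + 1)) ^ 2 : ℕ) : ℂ) ∧
    (∀ x : B, x ∈ borelU h → x ≠ 1 → (St : G → ℂ) (x : G) = 0) ∧
    Cfsg.indFun B (fun _ => (1 : ℂ)) = (fun _ => (1 : ℂ)) + (St : G → ℂ) := by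
  classical
  let one : IrrCharacter B := Char.principalIrr
  have hn := norm_indFun_linear h (lam := one) rfl
  rw [if_pos (show (one : B → ℂ) = fun _ => 1 from rfl)] at hn
  set π := Cfsg.indFun B (fun _ => (1 : ℂ)) with hπ
  have hπc : Cfsg.IsCharacter G π :=
    Char.IsCharacter.indFun _ (Char.IsIrrCharacter.isCharacter Char.isIrrCharacter_principal)
  have hπ1 : Cfsg.classInner π (fun _ => (1 : ℂ)) = 1 := by
    rw [hπ, Char.classInner_indFun _ _ _ (fun _ _ => rfl)]
    exact Char.classInner_irr_self Char.isIrrCharacter_principal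
  have hθ : Cfsg.IsGeneralizedCharacter G (π - fun _ => (1 : ℂ)) :=
    Char.IsGeneralizedCharacter.sub (Char.IsCharacter.isGeneralizedCharacter hπc)
      (Char.IsIrrCharacter.isGeneralizedCharacter Char.isIrrCharacter_principal)
  have hnorm : Cfsg.classInner (π - fun _ => (1 : ℂ)) (π - fun _ => (1 : ℂ)) = 1 := by
    rw [Char.classInner_sub_left, Char.classInner_sub_right, Char.classInner_sub_right,
      ← Char.classInner_conj_symm π (fun _ : G => (1 : ℂ)), hπ1,
      Char.classInner_irr_self Char.isIrrCharacter_principal, map_one]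
    rw [show Cfsg.classInner π π = 2 from hn]
    norm_num
  have hdeg : (π - fun _ : G => (1 : ℂ)) 1 = (((2 ^ (2 * m + 1)) ^ 2 : ℕ) : ℂ) := by
    rw [Pi.sub_apply, hπ, Char.indFun_apply_one, index_borel h]
    push_cast
    ring
  refine ⟨⟨_, CharDeep.HallCompl.isIrr_of_norm_one hθ hnorm hdeg⟩, hdeg, fun x hx hx1 => ?_, ?_⟩
  · show π (x : G) - 1 = 0
    rw [sub_eq_zero]
    exact indFun_linear_U h (lam := one) rfl hx hx1
  · simp

/-- Irreducible characters with a linear constituent on the Borel subgroup. -/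
theorem principal_cases {St : IrrCharacter G}
    (hSt : Cfsg.indFun B (fun _ => (1 : ℂ)) = (fun _ => (1 : ℂ)) + (St : G → ℂ))
    {lam : IrrCharacter B} (h1 : (lam : B → ℂ) 1 = 1) {χ : IrrCharacter G}
    (hne : Cfsg.classInner (Cfsg.indFun B (lam : B → ℂ)) (χ : G → ℂ) ≠ 0) :
    χ = Char.principalIrr ∨ χ = St ∨
      ((χ : G → ℂ) 1 = (((2 ^ (2 * m + 1)) ^ 2 + 1 : ℕ) : ℂ) ∧
        ∀ x : B, x ∈ borelU h → x ≠ 1 → (χ : G → ℂ) (x : G) = 1) := by
  classical
  by_cases hl : (lam : B → ℂ) = fun _ => 1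
  · rw [hl, hSt, Char.classInner_add_left] at hne
    by_cases hc : χ = Char.principalIrr
    · exact Or.inl hc
    by_cases hs : χ = St
    · exact Or.inr (Or.inl hs)
    exfalso
    apply hne
    rw [Char.classInner_irr_of_ne Char.isIrrCharacter_principal χ.2
      (fun e => hc (Subtype.ext e.symm)),
      Char.classInner_irr_of_ne St.2 χ.2 (fun e => hs (Subtype.ext e.symm)), add_zero]
  · right; right
    have hn := norm_indFun_linear h h1
    rw [if_neg hl] at hn
    have hdeg : Cfsg.indFun B (lam : B → ℂ) 1 = (((2 ^ (2 * m + 1)) ^ 2 + 1 : ℕ) : ℂ) := by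
      rw [Char.indFun_apply_one, index_borel h, h1, mul_one]
    have hirr : Cfsg.IsIrrCharacter G (Cfsg.indFun B (lam : B → ℂ)) :=
      CharDeep.HallCompl.isIrr_of_norm_one (Char.IsCharacter.isGeneralizedCharacter
        (Char.IsCharacter.indFun _ (Char.IsIrrCharacter.isCharacter lam.2))) hn hdeg
    have he : Cfsg.indFun B (lam : B → ℂ) = (χ : G → ℂ) := by
      by_contra he
      exact hne (Char.classInner_irr_of_ne hirr χ.2 he)
    exact ⟨he ▸ hdeg, fun x hx hx1 => he ▸ indFun_linear_U h h1 hx hx1⟩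

omit [Fintype (Cfsg.Sz F m)] [Fintype (borel F m)] in
theorem centralizer_card_z : Nat.card (Subgroup.centralizer ({tS h 0 1} : Set G)) =
    (2 ^ (2 * m + 1)) ^ 2 := by
  have hne : tS h 0 1 ≠ 1 := fun e => one_ne_zero ((tS_eq_one h).1 e).2
  have : Subgroup.centralizer ({tS h 0 1} : Set G) = tGroup h := by
    refine le_antisymm (fun x hx => centralizer_tS h (tS_mem_tGroup h 0 1) hne
      (Subgroup.mem_centralizer_singleton_iff.1 hx).symm) ?_
    rintro _ ⟨a, b, rfl⟩
    rw [Subgroup.mem_centralizer_singleton_iff, tS_mul, tS_mul]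
    congr 1
    · ring
    · rw [sig_zero, mul_zero, zero_mul]; ring
  rw [this, card_tGroup h, ← pow_mul, mul_comm]

omit [Fintype (Cfsg.Sz F m)] [Fintype (borel F m)] in
theorem centralizer_card_u : Nat.card (Subgroup.centralizer ({tS h 1 0} : Set G)) =
    2 * 2 ^ (2 * m + 1) := by
  have hne : tS h 1 0 ≠ 1 := fun e => one_ne_zero ((tS_eq_one h).1 e).1
  have hle : Subgroup.centralizer ({tS h 1 0} : Set G) ≤ borel F m := fun x hx =>
    tGroup_le_borel h (centralizer_tS h (tS_mem_tGroup h 1 0) hne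
      (Subgroup.mem_centralizer_singleton_iff.1 hx).symm)
  rw [← card_centralizer_borelU h (borelData h).memU (borelData h).notMemZ,
    ← Nat.card_congr (Subgroup.subgroupOfEquivOfLe hle).toEquiv]
  congr 2
  ext z
  simp only [Subgroup.mem_subgroupOf, Subgroup.mem_centralizer_singleton_iff]
  exact ⟨fun e => Subtype.ext e, fun e => congrArg Subtype.val e⟩

omit [Fintype (Cfsg.Sz F m)] [Fintype (borel F m)] in
theorem not_isConj_u_inv : ¬ IsConj (tS h 1 0) (tS h 1 0)⁻¹ := by
  intro hc
  obtain ⟨y, hy⟩ := isConj_iff.1 hc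
  have hne : tS h 1 0 ≠ 1 := fun e => one_ne_zero ((tS_eq_one h).1 e).1
  have hyi : y • (pInf : Pt) = pInf := by
    refine tS_fixed h (inv_mem (tS_mem_tGroup h 1 0)) (inv_ne_one.2 hne)
      (smul_ovoid y.2 pInf_mem) ?_
    change (tS h 1 0)⁻¹ • (y • (pInf : Pt)) = y • (pInf : Pt)
    rw [← hy, mul_smul, mul_smul, inv_smul_smul, tS_smul_pInf]
  exact bt_not_isConj_inv h (isConj_iff.2 ⟨⟨y, MulAction.mem_stabilizer_iff.2 hyi⟩, Subtype.ext hy⟩)

omit [Fintype (Cfsg.Sz F m)] [Fintype (borel F m)] in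
theorem not_isConj_z_u : ¬ IsConj (tS h 0 1) (tS h 1 0) ∧ ¬ IsConj (tS h 0 1) (tS h 1 0)⁻¹ := by
  have hz : tS h 0 1 * tS h 0 1 = 1 := by rw [tS_sq, mul_zero, tS_zero]
  have hu : tS h 1 0 * tS h 1 0 ≠ 1 := by
    rw [tS_sq, sig_one, one_mul]
    exact fun e => one_ne_zero ((tS_eq_one h).1 e).2
  constructor <;> intro hc <;> obtain ⟨y, hy⟩ := isConj_iff.1 hc
  · apply hu
    rw [← hy, conj_mul, hz, mul_one, mul_inv_cancel]
  · apply hu
    rw [← inv_inj, mul_inv_rev, inv_one, ← hy, conj_mul, hz, mul_one, mul_inv_cancel]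

end CfsgLib.SzChar
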