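import Cfsg.Agent.Lib.SuzukiChar.Principal

/-!
# Column sums for the irreducible characters of a Suzuki group
-/

set_option autoImplicit false
set_option linter.style.haveILetI false

open scoped ComplexConjugate

namespace CfsgLib.SzChar

open Cfsg CfsgLib CfsgLib.Suzuki

variable {F : Type*} [Field F] [Fintype F] {m : ℕ} (h : SzHyp F m)
include h

local notation "G" => Cfsg.Sz F m
local notation "B" => borel F m
local notation "qq" => 2 ^ (2 * m + 1)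
local notation "hh" => 2 ^ m

section Decomp

variable [Fintype (Cfsg.Sz F m)] [Fintype (borel F m)]

/-- The shape of the values of an irreducible character at `1`, `z`, `u`, `u⁻¹`. -/
theorem decomp (χ : IrrCharacter G) : ∃ a b c₁ c₂ : ℕ,
    (χ : G → ℂ) 1 = (a : ℂ) + ((qq : ℕ) - 1 : ℂ) * ((b : ℂ) + (hh : ℕ) * ((c₁ : ℂ) + c₂)) ∧
    (χ : G → ℂ) (tS h 0 1) = (a : ℂ) + (b : ℂ) * ((qq : ℕ) - 1 : ℂ) -
      (hh : ℕ) * ((c₁ : ℂ) + c₂) ∧
    (χ : G → ℂ) (tS h 1 0) = (a : ℂ) - b + (hh : ℕ) * ((c₁ : ℂ) - c₂) * Complex.I ∧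
    (χ : G → ℂ) (tS h 1 0)⁻¹ = (a : ℂ) - b - (hh : ℕ) * ((c₁ : ℂ) - c₂) * Complex.I ∧
    (a ≠ 0 → ∃ lam : IrrCharacter B, (lam : B → ℂ) 1 = 1 ∧
      Cfsg.classInner (Cfsg.indFun B (lam : B → ℂ)) (χ : G → ℂ) ≠ 0) := by
  classical
  have d := borelData h
  have hres : Cfsg.IsCharacter B (fun b : B => (χ : G → ℂ) b) :=
    Char.IsCharacter.restrict (Char.IsIrrCharacter.isCharacter χ.2) B
  choose n hn using fun l : IrrCharacter B =>
    Char.IsCharacter.exists_nat_classInner hres l.2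
  have hz : bt h 0 1 ∈ borelZ h := tS_mem_zGroup h 1
  have hz1 : bt h 0 1 ≠ 1 := fun e =>
    one_ne_zero ((tS_eq_one h).1 (congrArg Subtype.val e)).2
  have hshape : ∀ l : IrrCharacter B, ∃ α β γ δ : ℕ,
      (l : B → ℂ) 1 = (α : ℂ) + ((qq : ℕ) - 1 : ℂ) * ((β : ℂ) + (hh : ℕ) * ((γ : ℂ) + δ)) ∧
      (l : B → ℂ) (bt h 0 1) = (α : ℂ) + (β : ℂ) * ((qq : ℕ) - 1 : ℂ) -
        (hh : ℕ) * ((γ : ℂ) + δ) ∧
      (l : B → ℂ) (bt h 1 0) = (α : ℂ) - β + (hh : ℕ) * ((γ : ℂ) - δ) * Complex.I ∧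
      (l : B → ℂ) (bt h 1 0)⁻¹ = (α : ℂ) - β - (hh : ℕ) * ((γ : ℂ) - δ) * Complex.I ∧
      (α ≠ 0 → (l : B → ℂ) 1 = 1) := by
    intro l
    by_cases hl : (l : B → ℂ) 1 = 1
    · refine ⟨1, 0, 0, 0, ?_, ?_, ?_, ?_, fun _ => hl⟩
      · simp [hl]
      · rw [d.linear_apply hl (zGroup_le_tGroup h hz)]; simp
      · rw [d.linear_apply hl d.memU]; simp
      · rw [d.linear_apply hl (inv_mem d.memU)]; simp
    · rcases d.nonlinear_table hz hz1 l hl with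
        ⟨e1, e2, e3, e4⟩ | ⟨e1, e2, ε, hε, e3, e4⟩
      · refine ⟨0, 1, 0, 0, ?_, ?_, ?_, ?_, fun hc => absurd rfl hc⟩
        · rw [e1]; simp
        · rw [e2]; simp
        · rw [e3]; simp
        · rw [e4]; simp
      · rcases hε with rfl | rfl
        · refine ⟨0, 0, 1, 0, ?_, ?_, ?_, ?_, fun hc => absurd rfl hc⟩
          · rw [e1]; push_cast; ring
          · rw [e2]; push_cast; ring
          · rw [e3]; push_cast; ring
          · rw [e4]; push_cast; ring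
        · refine ⟨0, 0, 0, 1, ?_, ?_, ?_, ?_, fun hc => absurd rfl hc⟩
          · rw [e1]; push_cast; ring
          · rw [e2]; push_cast; ring
          · rw [e3]; push_cast; ring
          · rw [e4]; push_cast; ring
  choose α β γ δ h1 h2 h3 h4 h5 using hshape
  have hval : ∀ b : B, (χ : G → ℂ) b = ∑ l : IrrCharacter B, (n l : ℂ) * (l : B → ℂ) b := by
    intro b
    have e := congrFun (Char.IsCharacter.eq_sum_classInner hres) b
    rw [Finset.sum_apply] at e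
    exact e.trans (Finset.sum_congr rfl fun l _ => by rw [Pi.smul_apply, hn, smul_eq_mul])
  refine ⟨∑ l, n l * α l, ∑ l, n l * β l, ∑ l, n l * γ l, ∑ l, n l * δ l, ?_, ?_, ?_, ?_, ?_⟩
  · rw [show (χ : G → ℂ) 1 = (χ : G → ℂ) ((1 : B) : G) from rfl, hval]
    simp only [h1, Nat.cast_sum, Nat.cast_mul, Finset.mul_sum, ← Finset.sum_add_distrib]
    exact Finset.sum_congr rfl fun l _ => by ring
  · rw [show tS h 0 1 = ((bt h 0 1 : B) : G) from rfl, hval]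
    simp only [h2, Nat.cast_sum, Nat.cast_mul, Finset.mul_sum, Finset.sum_mul,
      ← Finset.sum_add_distrib, ← Finset.sum_sub_distrib]
    exact Finset.sum_congr rfl fun l _ => by ring
  · rw [show tS h 1 0 = ((bt h 1 0 : B) : G) from rfl, hval]
    simp only [h3, Nat.cast_sum, Nat.cast_mul, Finset.mul_sum, Finset.sum_mul,
      ← Finset.sum_add_distrib, ← Finset.sum_sub_distrib]
    exact Finset.sum_congr rfl fun l _ => by ring
  · rw [show (tS h 1 0)⁻¹ = (((bt h 1 0)⁻¹ : B) : G) from rfl, hval]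
    simp only [h4, Nat.cast_sum, Nat.cast_mul, Finset.mul_sum, Finset.sum_mul,
      ← Finset.sum_sub_distrib]
    exact Finset.sum_congr rfl fun l _ => by ring
  · intro hne
    obtain ⟨l, -, hl⟩ := Finset.exists_ne_zero_of_sum_ne_zero hne
    refine ⟨l, h5 l (fun e => hl (by rw [e, mul_zero])), ?_⟩
    rw [Char.classInner_indFun _ _ _ (Char.IsIrrCharacter.isClassFunction χ.2),
      ← Char.classInner_conj_symm, hn, Complex.conj_natCast, Nat.cast_ne_zero]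
    exact fun e => hl (by rw [e, zero_mul])

end Decomp

omit h in
/-- Separation of real and imaginary parts of an integral combination. -/
theorem eq_of_int_add_I {A C D : ℤ} (e : (A : ℂ) + (C : ℂ) * Complex.I = (D : ℂ)) :
    A = D ∧ C = 0 := by
  have h1 := congrArg Complex.re e
  have h2 := congrArg Complex.im e
  simp at h1 h2
  exact ⟨by exact_mod_cast h1, by exact_mod_cast h2⟩

/-- The values of the irreducible characters of a Suzuki group on `1`, `z`, `u`, in integers: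
`C` is the set of cuspidal characters. -/
structure SzSums [Fintype (Cfsg.Sz F m)] (q H : ℕ) (C : Finset (IrrCharacter (Cfsg.Sz F m)))
    (n bb dd ss : IrrCharacter (Cfsg.Sz F m) → ℤ) : Prop where
  outside : ∀ χ ∉ C, (χ : G → ℂ) 1 = 1 ∨ (χ : G → ℂ) 1 = (q : ℂ) ^ 2 ∨
    (χ : G → ℂ) 1 = (q : ℂ) ^ 2 + 1
  has_sq : ∃ χ : IrrCharacter G, (χ : G → ℂ) 1 = (q : ℂ) ^ 2
  has_sq_succ : ∃ χ : IrrCharacter G, (χ : G → ℂ) 1 = (q : ℂ) ^ 2 + 1
  deg : ∀ χ ∈ C, (χ : G → ℂ) 1 = ((((q : ℤ) - 1) * n χ : ℤ) : ℂ)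
  val_z : ∀ χ ∈ C, (χ : G → ℂ) (tS h 0 1) = ((bb χ * q - n χ : ℤ) : ℂ)
  val_u : ∀ χ ∈ C, (χ : G → ℂ) (tS h 1 0) =
    ((-bb χ : ℤ) : ℂ) + (((H : ℤ) * dd χ : ℤ) : ℂ) * Complex.I
  val_u_inv : ∀ χ ∈ C, (χ : G → ℂ) (tS h 1 0)⁻¹ =
    ((-bb χ : ℤ) : ℂ) - (((H : ℤ) * dd χ : ℤ) : ℂ) * Complex.I
  n_eq : ∀ χ ∈ C, n χ = bb χ * ((q : ℤ) + 1) - (H : ℤ) * ss χ
  n_pos : ∀ χ ∈ C, 0 < n χ
  b_nonneg : ∀ χ ∈ C, 0 ≤ bb χ
  parity : ∀ χ ∈ C, ∃ t : ℤ, ss χ = dd χ + 2 * t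
  principal : ∃ (St : IrrCharacter (Cfsg.Sz F m)) (Qs : Finset (IrrCharacter (Cfsg.Sz F m))),
    ((St : G → ℂ) 1 = (q : ℂ) ^ 2 ∧ (St : G → ℂ) (tS h 0 1) = 0 ∧ (St : G → ℂ) (tS h 1 0) = 0 ∧
      (St : G → ℂ) (tS h 1 0)⁻¹ = 0) ∧
    (∀ χ ∈ Qs, (χ : G → ℂ) 1 = (q : ℂ) ^ 2 + 1 ∧ (χ : G → ℂ) (tS h 0 1) = 1 ∧
      (χ : G → ℂ) (tS h 1 0) = 1 ∧ (χ : G → ℂ) (tS h 1 0)⁻¹ = 1) ∧
    2 * (Qs.card : ℤ) = (q : ℤ) - 2 ∧
    ∀ f : IrrCharacter (Cfsg.Sz F m) → ℂ,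
      ∑ χ, f χ = f Char.principalIrr + f St + ∑ χ ∈ Qs, f χ + ∑ χ ∈ C, f χ
  sum_bb : 2 * ∑ χ ∈ C, bb χ ^ 2 = (q : ℤ)
  sum_dd : ∑ χ ∈ C, dd χ ^ 2 = 2
  sum_bd : ∑ χ ∈ C, bb χ * dd χ = 0
  sum_nd : ∑ χ ∈ C, n χ * dd χ = 0
  sum_bs : ∑ χ ∈ C, bb χ * ss χ = 2 * (H : ℤ)
  sum_ss : ∑ χ ∈ C, ss χ ^ 2 = 2 * ((q : ℤ) + 1)

/-- The column sums. -/
theorem exists_szSums [Fintype (Cfsg.Sz F m)] {q H : ℕ} (hq : qq = q) (hH : hh = H) :
    ∃ C n bb dd ss, SzSums h q H C n bb dd ss := by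
  classical
  letI : Fintype (borel F m) := Fintype.ofFinite _
  -- numerics
  obtain ⟨j, hj, hhj⟩ : ∃ j : ℕ, 1 ≤ j ∧ hh = 2 * j :=
    ⟨2 ^ (m - 1), Nat.one_le_two_pow, by
      rw [← pow_succ']; congr 1; have := h.one_le; omega⟩
  have hqh : qq = 2 * hh ^ 2 := (borelData h).q_eq
  have hshape := fun χ : IrrCharacter G => decomp h χ
  simp only [hq, hH] at hqh hhj hshape ⊢
  choose a b c₁ c₂ v1 vz vu vu' hlin using hshape
  have hqZ : (q : ℤ) = 2 * (H : ℤ) ^ 2 := by exact_mod_cast hqh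
  have hq8 : 8 * j ^ 2 = q := by rw [hqh, hhj]; ring
  have hj2 : j ≤ j ^ 2 := Nat.le_self_pow two_ne_zero j
  have hqpos : (0 : ℤ) < q := by exact_mod_cast (show 0 < q by omega)
  have hHpos : (0 : ℤ) < H := by omega
  -- the principal series
  obtain ⟨St, hSt1, hStU, hSt⟩ := exists_steinberg h
  rw [hq] at hSt1
  have hzU : bt h 0 1 ∈ borelU h := zGroup_le_tGroup h (tS_mem_zGroup h 1)
  have hz1 : bt h 0 1 ≠ 1 := fun e =>
    one_ne_zero ((tS_eq_one h).1 (congrArg Subtype.val e)).2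
  have hu1 : bt h 1 0 ≠ 1 := fun e =>
    one_ne_zero ((tS_eq_one h).1 (congrArg Subtype.val e)).1
  have huU := (borelData h).memU
  have hui : (bt h 1 0)⁻¹ ≠ 1 := inv_ne_one.2 hu1
  let one : IrrCharacter G := Char.principalIrr
  -- real forms of the shape
  let n : IrrCharacter G → ℤ := fun χ => (b χ : ℤ) + (H : ℤ) * ((c₁ χ : ℤ) + c₂ χ)
  let bb : IrrCharacter G → ℤ := fun χ => (b χ : ℤ)
  let dd : IrrCharacter G → ℤ := fun χ => (c₁ χ : ℤ) - c₂ χ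
  let ss : IrrCharacter G → ℤ := fun χ => 2 * (H : ℤ) * b χ - ((c₁ χ : ℤ) + c₂ χ)
  have hns : ∀ χ, n χ = bb χ * ((q : ℤ) + 1) - (H : ℤ) * ss χ := fun χ => by
    simp only [n, bb, ss]; rw [hqZ]; ring
  have hkey : ∀ χ, 2 * ((a χ : ℂ) * (q : ℂ) ^ 2) = 2 * (χ : G → ℂ) 1 + ((q : ℂ) - 1) *
      ((q : ℂ) * ((χ : G → ℂ) (tS h 1 0) + (χ : G → ℂ) (tS h 1 0)⁻¹) +
        2 * (χ : G → ℂ) (tS h 0 1)) := by
    intro χ; rw [v1, vz, vu, vu']; ring
  have hclass : ∀ χ, a χ ≠ 0 → χ ≠ one → χ ≠ St →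
      (χ : G → ℂ) 1 = (q : ℂ) ^ 2 + 1 ∧ (χ : G → ℂ) (tS h 0 1) = 1 ∧
        (χ : G → ℂ) (tS h 1 0) = 1 ∧ (χ : G → ℂ) (tS h 1 0)⁻¹ = 1 ∧ a χ = 2 := by
    intro χ hχ hne1 hneS
    obtain ⟨lam, hl1, hl⟩ := hlin χ hχ
    rcases principal_cases h hSt hl1 hl with e | e | ⟨e1, e2⟩
    · exact absurd e hne1
    · exact absurd e hneS
    have ez : (χ : G → ℂ) (tS h 0 1) = 1 := e2 (bt h 0 1) hzU hz1
    have eu : (χ : G → ℂ) (tS h 1 0) = 1 := e2 (bt h 1 0) huU hu1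
    have eu' : (χ : G → ℂ) (tS h 1 0)⁻¹ = 1 := e2 (bt h 1 0)⁻¹ (inv_mem huU) hui
    rw [hq] at e1
    push_cast at e1
    refine ⟨e1, ez, eu, eu', ?_⟩
    have e := hkey χ
    rw [e1, ez, eu, eu'] at e
    have : (a χ : ℂ) = 2 := mul_right_cancel₀
      (mul_ne_zero two_ne_zero (pow_ne_zero 2 (Nat.cast_ne_zero.2 (by omega) : (q : ℂ) ≠ 0)))
      (by linear_combination e)
    exact_mod_cast this
  have hSz : (St : G → ℂ) (tS h 0 1) = 0 := hStU (bt h 0 1) hzU hz1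
  have hSu : (St : G → ℂ) (tS h 1 0) = 0 := hStU (bt h 1 0) huU hu1
  have hSu' : (St : G → ℂ) (tS h 1 0)⁻¹ = 0 := hStU (bt h 1 0)⁻¹ (inv_mem huU) hui
  have hq0 : (q : ℂ) ≠ 0 := Nat.cast_ne_zero.2 (by omega)
  have ha1 : a one = 1 := by
    have e := hkey one
    simp only [one, Char.principalIrr_apply] at e
    have : (a one : ℂ) = 1 := mul_right_cancel₀ (mul_ne_zero two_ne_zero (pow_ne_zero 2 hq0))
      (by linear_combination e)
    exact_mod_cast this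
  have haS : a St = 1 := by
    have e := hkey St
    rw [hSt1, hSz, hSu, hSu'] at e
    push_cast at e
    have : (a St : ℂ) = 1 := mul_right_cancel₀ (mul_ne_zero two_ne_zero (pow_ne_zero 2 hq0))
      (by linear_combination e)
    exact_mod_cast this
  have hS_ne : St ≠ one := fun e => by
    have : (St : G → ℂ) 1 = 1 := by rw [e]; rfl
    rw [hSt1] at this
    have : q ^ 2 = 1 := by exact_mod_cast this
    nlinarith
  -- the partition
  let C := Finset.univ.filter fun χ : IrrCharacter G => a χ = 0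
  let Qs := Finset.univ.filter fun χ : IrrCharacter G => a χ ≠ 0 ∧ χ ≠ one ∧ χ ≠ St
  have hC : ∀ {χ}, χ ∈ C ↔ a χ = 0 := fun {χ} => by simp [C]
  have hQs : ∀ {χ}, χ ∈ Qs → a χ ≠ 0 ∧ χ ≠ one ∧ χ ≠ St := fun {χ} hχ =>
    (Finset.mem_filter.1 hχ).2
  have hnotC : (Finset.univ.filter fun χ : IrrCharacter G => ¬ a χ = 0) =
      insert one (insert St Qs) := by
    ext χ
    simp only [Finset.mem_filter, Finset.mem_univ, true_and, Finset.mem_insert, Qs]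
    constructor
    · intro hχ
      by_cases e1 : χ = one
      · exact Or.inl e1
      by_cases e2 : χ = St
      · exact Or.inr (Or.inl e2)
      exact Or.inr (Or.inr ⟨hχ, e1, e2⟩)
    · rintro (rfl | rfl | h') <;> first | omega | exact h'.1
  have hsplit : ∀ f : IrrCharacter G → ℂ, ∀ t : ℂ, (∀ χ ∈ Qs, f χ = t) →
      ∑ χ, f χ = ∑ χ ∈ C, f χ + (f one + (f St + (Qs.card : ℂ) * t)) := by
    intro f t ht
    rw [← Finset.sum_filter_add_sum_filter_not Finset.univ (fun χ => a χ = 0), hnotC,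
      Finset.sum_insert (fun e => ?_), Finset.sum_insert (fun e => ?_),
      Finset.sum_congr rfl ht, Finset.sum_const, nsmul_eq_mul]
    · exact (hQs e).2.2 rfl
    · rcases Finset.mem_insert.1 e with e | e
      · exact hS_ne e.symm
      · exact (hQs e).2.1 rfl
  -- column orthogonality
  have hnc : ∀ x : G, x ≠ 1 → ¬ IsConj (1 : G) x := fun x hx e => hx (isConj_one_right.1 e)
  have hzG : tS h 0 1 ≠ 1 := fun e => one_ne_zero ((tS_eq_one h).1 e).2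
  have huG : tS h 1 0 ≠ 1 := fun e => one_ne_zero ((tS_eq_one h).1 e).1
  have horth : ∀ x y : G, ¬ IsConj x y →
      ∑ χ : IrrCharacter G, (χ : G → ℂ) x * conj ((χ : G → ℂ) y) = 0 := fun x y hxy => by
    rw [Char.sum_mul_conj, if_neg hxy]
  have hconj : ∀ (χ : IrrCharacter G) (x : G), conj ((χ : G → ℂ) x) = (χ : G → ℂ) x⁻¹ :=
    fun χ x => (Char.IsIrrCharacter.apply_inv χ.2 x).symm
  have hzinv : (tS h 0 1)⁻¹ = tS h 0 1 := by
    rw [tS_inv, sig_zero, zero_mul, add_zero]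
  -- the count of the principal series
  have hN : 2 * (Qs.card : ℤ) = (q : ℤ) - 2 := by
    have e1 : ∑ χ : IrrCharacter G, (χ : G → ℂ) 1 * conj ((χ : G → ℂ) (tS h 1 0)) = 0 :=
      horth _ _ (hnc _ huG)
    have e2 : ∑ χ : IrrCharacter G, (χ : G → ℂ) (tS h 0 1) * conj ((χ : G → ℂ) (tS h 1 0)) = 0 :=
      horth _ _ (not_isConj_z_u h).1
    have e3 : ∑ χ : IrrCharacter G, (χ : G → ℂ) (tS h 1 0) * conj ((χ : G → ℂ) (tS h 1 0)) = 2 * (q : ℂ) := by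
      rw [Char.sum_mul_conj, if_pos (IsConj.refl _), centralizer_card_u h, hq]
      push_cast
      rfl
    have e4 : ∑ χ : IrrCharacter G, (χ : G → ℂ) (tS h 1 0)⁻¹ * conj ((χ : G → ℂ) (tS h 1 0)) = 0 :=
      horth _ _ fun e => not_isConj_u_inv h e.symm
    have e : ∑ χ, 2 * ((a χ : ℂ) * (q : ℂ) ^ 2) * conj ((χ : G → ℂ) (tS h 1 0)) =
        ((q : ℂ) - 1) * ((q : ℂ) * (2 * q)) := by
      rw [Finset.sum_congr rfl (g := fun χ : IrrCharacter G =>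
        2 * ((χ : G → ℂ) 1 * conj ((χ : G → ℂ) (tS h 1 0))) +
        ((q : ℂ) - 1) * ((q : ℂ) * ((χ : G → ℂ) (tS h 1 0) * conj ((χ : G → ℂ) (tS h 1 0))) +
        (q : ℂ) * ((χ : G → ℂ) (tS h 1 0)⁻¹ * conj ((χ : G → ℂ) (tS h 1 0))) +
        2 * ((χ : G → ℂ) (tS h 0 1) * conj ((χ : G → ℂ) (tS h 1 0)))))
        (fun χ _ => by rw [hkey χ]; ring)]
      simp only [Finset.sum_add_distrib, ← Finset.mul_sum, e1, e2, e3, e4]
      ring
    rw [hsplit _ (2 * ((2 : ℂ) * (q : ℂ) ^ 2)) fun χ hχ => by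
        obtain ⟨-, -, h3, -, h5⟩ := hclass χ (hQs hχ).1 (hQs hχ).2.1 (hQs hχ).2.2
        rw [h5, h3, map_one, mul_one]
        push_cast; rfl,
      Finset.sum_eq_zero fun χ hχ => by rw [hC.1 hχ]; simp, ha1, haS, hSu] at e
    simp only [one, Char.principalIrr_apply, map_one, map_zero, Nat.cast_one] at e
    have : 2 * ((Qs.card : ℤ) : ℂ) = ((q : ℤ) : ℂ) - 2 := by
      apply mul_left_cancel₀ (mul_ne_zero two_ne_zero (pow_ne_zero 2 hq0))
      push_cast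
      linear_combination e
    exact_mod_cast this
  have hv : ∀ χ ∈ C,
      (χ : G → ℂ) 1 = ((((q : ℤ) - 1) * n χ : ℤ) : ℂ) ∧
      (χ : G → ℂ) (tS h 0 1) = ((bb χ * q - n χ : ℤ) : ℂ) ∧
      (χ : G → ℂ) (tS h 1 0) = ((-bb χ : ℤ) : ℂ) + (((H : ℤ) * dd χ : ℤ) : ℂ) * Complex.I ∧
      (χ : G → ℂ) (tS h 1 0)⁻¹ =
        ((-bb χ : ℤ) : ℂ) - (((H : ℤ) * dd χ : ℤ) : ℂ) * Complex.I := by
    intro χ hχ
    rw [v1, vz, vu, vu', hC.1 hχ]
    simp only [n, bb, dd]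
    push_cast
    refine ⟨?_, ?_, ?_, ?_⟩ <;> ring
  have hQv := fun χ (hχ : χ ∈ Qs) => hclass χ (hQs hχ).1 (hQs hχ).2.1 (hQs hχ).2.2
  have Ezz : ∑ χ ∈ C, (bb χ * q - n χ) ^ 2 = (q : ℤ) ^ 2 - 1 - Qs.card := by
    have e : ∑ χ : IrrCharacter G, (χ : G → ℂ) (tS h 0 1) * conj ((χ : G → ℂ) (tS h 0 1)) = (q : ℂ) ^ 2 := by
      rw [Char.sum_mul_conj, if_pos (IsConj.refl _), centralizer_card_z h, hq]
      push_cast
      rfl
    rw [hsplit _ 1 fun χ hχ => by rw [(hQv χ hχ).2.1, map_one, mul_one],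
      Finset.sum_congr rfl (g := fun χ => (((bb χ * q - n χ) ^ 2 : ℤ) : ℂ)) fun χ hχ => by
        rw [(hv χ hχ).2.1, map_intCast]; push_cast; ring,
      hSz, ← Int.cast_sum] at e
    simp only [one, Char.principalIrr_apply, map_one, map_zero] at e
    apply Int.cast_injective (α := ℂ)
    push_cast at e ⊢
    linear_combination e
  have Euu : ∑ χ ∈ C, (bb χ ^ 2 + (H : ℤ) ^ 2 * dd χ ^ 2) = 2 * (q : ℤ) - 1 - Qs.card := by
    have e : ∑ χ : IrrCharacter G, (χ : G → ℂ) (tS h 1 0) * conj ((χ : G → ℂ) (tS h 1 0)) = 2 * (q : ℂ) := by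
      rw [Char.sum_mul_conj, if_pos (IsConj.refl _), centralizer_card_u h, hq]
      push_cast
      rfl
    rw [hsplit _ 1 fun χ hχ => by rw [(hQv χ hχ).2.2.1, map_one, mul_one],
      Finset.sum_congr rfl (g := fun χ => ((bb χ ^ 2 + (H : ℤ) ^ 2 * dd χ ^ 2 : ℤ) : ℂ))
        fun χ hχ => by
          rw [hconj, (hv χ hχ).2.2.1, (hv χ hχ).2.2.2]; push_cast
          linear_combination -(((H : ℂ) * (dd χ : ℂ)) ^ 2) * Complex.I_mul_I,
      hSu, ← Int.cast_sum] at e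
    simp only [one, Char.principalIrr_apply, map_one, map_zero] at e
    apply Int.cast_injective (α := ℂ)
    push_cast at e ⊢
    linear_combination e
  have Euv : ∑ χ ∈ C, (bb χ ^ 2 - (H : ℤ) ^ 2 * dd χ ^ 2) = -1 - (Qs.card : ℤ) ∧
      ∑ χ ∈ C, (-2 * (H : ℤ) * (bb χ * dd χ)) = 0 := by
    have e : ∑ χ : IrrCharacter G, (χ : G → ℂ) (tS h 1 0) * conj ((χ : G → ℂ) (tS h 1 0)⁻¹) = 0 :=
      horth _ _ (not_isConj_u_inv h)
    simp only [hconj, inv_inv] at e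
    rw [hsplit _ 1 fun χ hχ => by rw [(hQv χ hχ).2.2.1, mul_one],
      Finset.sum_congr rfl (g := fun χ => ((bb χ ^ 2 - (H : ℤ) ^ 2 * dd χ ^ 2 : ℤ) : ℂ) +
          ((-2 * (H : ℤ) * (bb χ * dd χ) : ℤ) : ℂ) * Complex.I) fun χ hχ => by
        rw [(hv χ hχ).2.2.1]; push_cast
        linear_combination (((H : ℂ) * (dd χ : ℂ)) ^ 2) * Complex.I_mul_I,
      Finset.sum_add_distrib, ← Finset.sum_mul, hSu, ← Int.cast_sum, ← Int.cast_sum] at e
    simp only [one, Char.principalIrr_apply] at e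
    refine eq_of_int_add_I ?_
    push_cast at e ⊢
    linear_combination e
  have Ezu : ∑ χ ∈ C, (bb χ * q - n χ) * (-bb χ) = -1 - (Qs.card : ℤ) ∧
      ∑ χ ∈ C, (bb χ * q - n χ) * ((H : ℤ) * dd χ) = 0 := by
    have e : ∑ χ : IrrCharacter G, (χ : G → ℂ) (tS h 0 1) * conj ((χ : G → ℂ) (tS h 1 0)⁻¹) = 0 :=
      horth _ _ (not_isConj_z_u h).2
    simp only [hconj, inv_inv] at e
    rw [hsplit _ 1 fun χ hχ => by rw [(hQv χ hχ).2.2.1, (hQv χ hχ).2.1, mul_one],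
      Finset.sum_congr rfl (g := fun χ => (((bb χ * q - n χ) * (-bb χ) : ℤ) : ℂ) +
          (((bb χ * q - n χ) * ((H : ℤ) * dd χ) : ℤ) : ℂ) * Complex.I) fun χ hχ => by
        rw [(hv χ hχ).2.2.1, (hv χ hχ).2.1]; push_cast; ring,
      Finset.sum_add_distrib, ← Finset.sum_mul, hSu, hSz, ← Int.cast_sum, ← Int.cast_sum] at e
    simp only [one, Char.principalIrr_apply] at e
    refine eq_of_int_add_I ?_
    push_cast at e ⊢
    linear_combination e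
  have E1z : ∑ χ ∈ C, ((q : ℤ) - 1) * n χ * (bb χ * q - n χ) =
      -1 - (Qs.card : ℤ) * ((q : ℤ) ^ 2 + 1) := by
    have e : ∑ χ : IrrCharacter G, (χ : G → ℂ) 1 * conj ((χ : G → ℂ) (tS h 0 1)) = 0 :=
      horth _ _ (hnc _ hzG)
    simp only [hconj, hzinv] at e
    rw [hsplit _ ((q : ℂ) ^ 2 + 1) fun χ hχ => by
        rw [(hQv χ hχ).1, (hQv χ hχ).2.1, mul_one],
      Finset.sum_congr rfl (g := fun χ => ((((q : ℤ) - 1) * n χ * (bb χ * q - n χ) : ℤ) : ℂ))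
        fun χ hχ => by rw [(hv χ hχ).1, (hv χ hχ).2.1]; push_cast; ring,
      hSz, ← Int.cast_sum] at e
    simp only [one, Char.principalIrr_apply] at e
    apply Int.cast_injective (α := ℂ)
    push_cast at e ⊢
    linear_combination e
  simp only [Finset.sum_add_distrib, Finset.sum_sub_distrib, ← Finset.mul_sum] at Euu Euv
  have Sb2 : 2 * ∑ χ ∈ C, bb χ ^ 2 = (q : ℤ) := by linarith [Euv.1]
  have Sd2 : ∑ χ ∈ C, dd χ ^ 2 = 2 := by
    have : (H : ℤ) ^ 2 * ∑ χ ∈ C, dd χ ^ 2 = (H : ℤ) ^ 2 * 2 := by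
      linarith [Euv.1, hqZ]
    exact mul_left_cancel₀ (pow_ne_zero 2 hHpos.ne') this
  have Sbd : ∑ χ ∈ C, bb χ * dd χ = 0 :=
    (mul_eq_zero.1 Euv.2).resolve_left (by omega)
  have Snd : ∑ χ ∈ C, n χ * dd χ = 0 := by
    have e := Ezu.2
    rw [Finset.sum_congr rfl (g := fun χ => ((H : ℤ) * q) * (bb χ * dd χ) -
      (H : ℤ) * (n χ * dd χ)) (fun χ _ => by ring), Finset.sum_sub_distrib, ← Finset.mul_sum,
      ← Finset.mul_sum, Sbd, mul_zero, zero_sub, neg_eq_zero] at e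
    exact (mul_eq_zero.1 e).resolve_left hHpos.ne'
  have Snb : 2 * ∑ χ ∈ C, n χ * bb χ = (q : ℤ) * ((q : ℤ) - 1) := by
    have e := Ezu.1
    rw [Finset.sum_congr rfl (g := fun χ => n χ * bb χ - (q : ℤ) * bb χ ^ 2) (fun χ _ => by ring),
      Finset.sum_sub_distrib, ← Finset.mul_sum] at e
    linear_combination 2 * e - hN + (q : ℤ) * Sb2
  have Snn : 2 * ∑ χ ∈ C, n χ ^ 2 = (q : ℤ) * ((q : ℤ) - 1) * ((q : ℤ) + 1) := by
    have e := E1z
    rw [Finset.sum_congr rfl (g := fun χ => (((q : ℤ) - 1) * q) * (n χ * bb χ) -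
      ((q : ℤ) - 1) * n χ ^ 2) (fun χ _ => by ring), Finset.sum_sub_distrib, ← Finset.mul_sum,
      ← Finset.mul_sum] at e
    apply mul_left_cancel₀ (show (q : ℤ) - 1 ≠ 0 by omega)
    linear_combination -2 * e + ((q : ℤ) - 1) * q * Snb + ((q : ℤ) ^ 2 + 1) * hN
  have Sbs : ∑ χ ∈ C, bb χ * ss χ = 2 * (H : ℤ) := by
    have e := Snb
    rw [Finset.sum_congr rfl (g := fun χ => ((q : ℤ) + 1) * bb χ ^ 2 - (H : ℤ) * (bb χ * ss χ))
      (fun χ _ => by rw [hns]; ring), Finset.sum_sub_distrib, ← Finset.mul_sum, ← Finset.mul_sum]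
      at e
    apply mul_left_cancel₀ (mul_ne_zero two_ne_zero hHpos.ne')
    linear_combination -e + ((q : ℤ) + 1) * Sb2 + 2 * hqZ
  have Sss : ∑ χ ∈ C, ss χ ^ 2 = 2 * ((q : ℤ) + 1) := by
    have e := Snn
    rw [Finset.sum_congr rfl (g := fun χ => ((q : ℤ) + 1) ^ 2 * bb χ ^ 2 -
      (2 * (H : ℤ) * ((q : ℤ) + 1)) * (bb χ * ss χ) + (H : ℤ) ^ 2 * ss χ ^ 2)
      (fun χ _ => by rw [hns]; ring), Finset.sum_add_distrib, Finset.sum_sub_distrib,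
      ← Finset.mul_sum, ← Finset.mul_sum, ← Finset.mul_sum, Sbs] at e
    apply mul_left_cancel₀ (mul_ne_zero two_ne_zero (pow_ne_zero 2 hHpos.ne'))
    linear_combination e - ((q : ℤ) + 1) ^ 2 * Sb2 - 2 * ((q : ℤ) + 1) * hqZ
  have hnpos : ∀ χ ∈ C, 0 < n χ := by
    intro χ hχ
    have h0 : (0 : ℤ) ≤ n χ := by positivity
    refine lt_of_le_of_ne h0 fun e => Char.IsIrrCharacter.apply_one_ne_zero χ.2 ?_
    rw [(hv χ hχ).1, ← e, mul_zero, Int.cast_zero]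
  have hprin : ∀ f : IrrCharacter G → ℂ,
      ∑ χ, f χ = f one + f St + ∑ χ ∈ Qs, f χ + ∑ χ ∈ C, f χ := by
    intro f
    rw [← Finset.sum_filter_add_sum_filter_not Finset.univ (fun χ => a χ = 0), hnotC,
      Finset.sum_insert (fun e => ?_), Finset.sum_insert (fun e => ?_)]
    · abel
    · exact (hQs e).2.2 rfl
    · rcases Finset.mem_insert.1 e with e | e
      · exact hS_ne e.symm
      · exact (hQs e).2.1 rfl
  refine ⟨C, n, bb, dd, ss, fun χ hχ => ?_, ⟨St, by rw [hSt1]; push_cast; rfl⟩, ?_,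
    fun χ hχ => (hv χ hχ).1, fun χ hχ => (hv χ hχ).2.1, fun χ hχ => (hv χ hχ).2.2.1,
    fun χ hχ => (hv χ hχ).2.2.2,
    fun χ _ => hns χ, hnpos, fun χ _ => Int.natCast_nonneg _, fun χ _ => ?_,
    ⟨St, Qs, ⟨by rw [hSt1]; push_cast; rfl, hSz, hSu, hSu'⟩,
      fun χ hχ => ⟨(hQv χ hχ).1, (hQv χ hχ).2.1, (hQv χ hχ).2.2.1, (hQv χ hχ).2.2.2.1⟩, hN,
      hprin⟩, Sb2, Sd2, Sbd, Snd,
    Sbs, Sss⟩
  · have hmem : χ ∈ Finset.univ.filter fun χ : IrrCharacter G => ¬ a χ = 0 :=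
      Finset.mem_filter.2 ⟨Finset.mem_univ _, fun e => hχ (hC.2 e)⟩
    rw [hnotC, Finset.mem_insert, Finset.mem_insert] at hmem
    rcases hmem with rfl | rfl | hQ
    · exact Or.inl rfl
    · exact Or.inr (Or.inl (by rw [hSt1]; push_cast; rfl))
    · exact Or.inr (Or.inr (hQv χ hQ).1)
  · obtain ⟨f, hf⟩ := Finset.card_pos.1 (show 0 < Qs.card by omega)
    exact ⟨f, (hQv f hf).1⟩
  · exact ⟨(j : ℤ) * 2 * b χ - c₁ χ, by
      simp only [ss, dd]; rw [show (H : ℤ) = 2 * j by exact_mod_cast hhj]; ring⟩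

end CfsgLib.SzChar
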