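import Cfsg.Agent.S0851
import Cfsg.Agent.Lib.Char.CentralOver
import Cfsg.Agent.Lib.CharTools.Basic
import Cfsg.Agent.Lib.CharDeep.Clifford

/-!
# Exceptional characters of a cyclic-type TI subgroup with Frobenius normalizer of index four
-/

set_option autoImplicit false
set_option linter.style.haveILetI false

open scoped ComplexConjugate

namespace CfsgLib.SzChar

open Cfsg CfsgLib CfsgLib.CharDeep

universe u

variable {G : Type u} [Group G] [Fintype G]

/-- An abelian TI subgroup `A` of order `4k+1`, `k ≥ 3`, containing the centralizers of its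
nontrivial elements and of index four in its normalizer gives `k` characters agreeing off the
conjugates of its nontrivial elements, with controlled degrees modulo `|A|`. -/
theorem exists_family (A : Subgroup G)
    (hTI : ∀ g : G, g ∉ Subgroup.normalizer (A : Set G) → ∀ a ∈ A, g * a * g⁻¹ ∈ A → a = 1)
    (hC : ∀ a ∈ A, a ≠ 1 → Subgroup.centralizer ({a} : Set G) ≤ A)
    (hab : ∀ a ∈ A, ∀ b ∈ A, a * b = b * a)
    (hN : Nat.card (Subgroup.normalizer (A : Set G)) = 4 * Nat.card A)
    {k : ℕ} (hk : 3 ≤ k) (hcard : Nat.card A = 4 * k + 1) :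
    ∃ F : Finset (IrrCharacter G), F.card = k ∧
      (∀ f ∈ F, ∀ f' ∈ F, ∀ g : G, (∀ x : G, x⁻¹ * g * x ∈ A → g = 1) →
        (f : G → ℂ) g = (f' : G → ℂ) g) ∧
      ∃ ε c : ℤ, (ε = 1 ∨ ε = -1) ∧ (c = 0 ∨ c = ε) ∧
        ∀ f ∈ F, ∃ M : ℤ, (charDegree (f : G → ℂ) : ℤ) = M * (Nat.card A : ℤ) + 4 * ε + c := by
  classical
  set N := Subgroup.normalizer (A : Set G) with hNdef
  set KN := A.subgroupOf N with hKN
  haveI : KN.Normal := TIF.normal_subgroupOf_normalizer A
  haveI := Fintype.ofFinite KN
  have hfpf := TIF.fpf A hC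
  have hcardKN : Nat.card KN = 4 * k + 1 := by
    rw [← hcard]
    exact Nat.card_congr (Subgroup.subgroupOfEquivOfLe Subgroup.le_normalizer).toEquiv
  have hidx : KN.index = 4 := by
    have h := Subgroup.card_mul_index KN
    rw [hcardKN, hN, hcard] at h
    exact Nat.eq_of_mul_eq_mul_left (show 0 < 4 * k + 1 by omega) (h.trans (mul_comm _ _))
  have hlt : A < N := lt_of_le_of_ne Subgroup.le_normalizer fun h => by
    have h2 := congrArg (fun H : Subgroup G => Nat.card H) h
    simp only [hN] at h2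
    omega
  -- relevant characters
  let R := {χ : IrrCharacter N // ∃ a : N, (a : G) ∈ A ∧ (χ : N → ℂ) a ≠ (χ : N → ℂ) 1}
  have hR1 : ∀ φ : R, (φ.1 : N → ℂ) 1 = 4 := by
    intro φ
    obtain ⟨τ, hτ, -, he⟩ := TIF.exists_eq_indFun KN hfpf φ.1.2 φ.2
    haveI := Fintype.ofFinite KN
    have hab' : ∀ a b : KN, a * b = b * a := fun a b =>
      Subtype.ext (Subtype.ext (hab _ a.2 _ b.2))
    rw [he, Char.indFun_apply_one, hidx, (CharOver.abelian_irr hab' hτ).1, mul_one]
    norm_num
  have habK : ∀ a b : KN, a * b = b * a := fun a b => Subtype.ext (Subtype.ext (hab _ a.2 _ b.2))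
  have hl1 : ∀ l : IrrCharacter KN, (l : KN → ℂ) 1 = 1 := fun l =>
    (CharOver.abelian_irr habK l.2).1
  let one : IrrCharacter KN := Char.principalIrr
  have hone : ∀ l : IrrCharacter KN, l ≠ one → (l : KN → ℂ) ≠ fun _ => 1 :=
    fun l hl h => hl (Subtype.ext h)
  let Φ : {l : IrrCharacter KN // l ≠ one} → R := fun l =>
    ⟨⟨_, TIF.indFun_irr KN hfpf l.1.2 (hone _ l.2)⟩, TIF.rel_indFun KN hfpf l.1.2 (hone _ l.2)⟩
  -- fibres
  have hfib : ∀ φ : R, (Finset.univ.filter fun l => Φ l = φ).card = 4 := by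
    intro φ
    have hres := Char.IsCharacter.eq_sum_classInner
      (Char.IsCharacter.restrict (Char.IsIrrCharacter.isCharacter φ.1.2) KN)
    have h1 := congrFun hres 1
    simp only [Finset.sum_apply, Pi.smul_apply, smul_eq_mul, hl1, mul_one, Subgroup.coe_one, hR1]
      at h1
    rw [← Finset.sum_erase Finset.univ (a := one) (TIF.classInner_res_one KN hfpf φ.1.2 φ.2),
      Finset.sum_subtype (Finset.univ.erase one) (p := fun l => l ≠ one) (fun l => by simp)] at h1
    have hval : ∀ l : {l : IrrCharacter KN // l ≠ one},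
        Cfsg.classInner (fun x : KN => (φ.1 : N → ℂ) x) (l.1 : KN → ℂ) =
          if Φ l = φ then 1 else 0 := by
      intro l
      rw [← Char.classInner_conj_symm (l.1 : KN → ℂ), ← Char.classInner_indFun KN _ _
        (Char.IsIrrCharacter.isClassFunction φ.1.2)]
      show conj (Cfsg.classInner ((Φ l).1 : N → ℂ) (φ.1 : N → ℂ)) = _
      rw [Char.classInner_irrCharacter]
      by_cases h : Φ l = φ
      · rw [if_pos h, if_pos (congrArg Subtype.val h), map_one]
      · rw [if_neg h, if_neg (fun e => h (Subtype.ext e)), map_zero]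
    rw [Finset.sum_congr rfl (fun l _ => hval l), Finset.sum_boole] at h1
    exact_mod_cast h1.symm
  have hk' : Fintype.card R = k := by
    have h1 : Fintype.card {l : IrrCharacter KN // l ≠ one} = 4 * k := by
      rw [Fintype.card_subtype_compl, Fintype.card_subtype_eq]
      have h := CharTools.sum_degree_sq' (G := KN)
      have hd : ∀ l : IrrCharacter KN, charDegree (l : KN → ℂ) = 1 := fun l =>
        Nat.cast_injective (R := ℂ) (by rw [CharTools.irr_degree_cast, hl1, Nat.cast_one])
      simp only [hd, one_pow, Finset.sum_const, Finset.card_univ, smul_eq_mul, mul_one] at h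
      rw [h, hcardKN]
      omega
    have h2 := Finset.card_eq_sum_card_fiberwise (f := Φ)
      (s := (Finset.univ : Finset {l : IrrCharacter KN // l ≠ one})) (t := (Finset.univ : Finset R))
      (fun _ _ => Finset.mem_univ _)
    rw [Finset.card_univ, h1, Finset.sum_congr rfl (fun φ _ => hfib φ), Finset.sum_const,
      Finset.card_univ, smul_eq_mul, mul_comm] at h2
    omega
  rcases Cfsg.Agent.S0851.result A hTI hlt hC hab with ⟨h1, -⟩ | ⟨εC, f, hεC, hinj, hf⟩
  · rw [show Nat.card R = k from (Nat.card_eq_fintype_card).trans hk'] at h1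
    omega
  obtain ⟨ε, hε, rfl⟩ : ∃ ε : ℤ, (ε = 1 ∨ ε = -1) ∧ εC = (ε : ℂ) := by
    rcases hεC with h | h
    · exact ⟨1, Or.inl rfl, by simp [h]⟩
    · exact ⟨-1, Or.inr rfl, by simp [h]⟩
  have hεconj : conj (ε : ℂ) = (ε : ℂ) := map_intCast _ ε
  have hvan : ∀ (φ : R) (x : N), x ∉ KN → (φ.1 : N → ℂ) x = 0 := fun φ x hx =>
    TIF.vanish_off KN hfpf φ.1.2 φ.2 hx
  refine ⟨Finset.univ.image f, ?_, ?_, ?_⟩
  · rw [Finset.card_image_of_injective _ hinj, Finset.card_univ, hk']
  · intro a ha b hb g hg
    obtain ⟨φ, -, rfl⟩ := Finset.mem_image.1 ha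
    obtain ⟨φ', -, rfl⟩ := Finset.mem_image.1 hb
    have h0 : Cfsg.indFun N ((φ.1 : N → ℂ) - (φ'.1 : N → ℂ)) g = 0 := by
      rw [Char.indFun_apply, Finset.sum_eq_zero, mul_zero]
      intro x _
      by_cases hx : x⁻¹ * g * x ∈ N
      · rw [Char.extendByZero_apply_mem N _ hx]
        by_cases hA : (⟨x⁻¹ * g * x, hx⟩ : N) ∈ KN
        · have hg1 := hg x hA
          subst hg1
          have : (⟨x⁻¹ * 1 * x, hx⟩ : N) = 1 := Subtype.ext (by simp)
          rw [this, Pi.sub_apply, hR1, hR1, sub_self]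
        · rw [Pi.sub_apply, hvan φ _ hA, hvan φ' _ hA, sub_self]
      · exact Char.extendByZero_of_notMem N _ hx
    rw [hf φ φ', Pi.smul_apply, smul_eq_mul, Pi.sub_apply, mul_eq_zero] at h0
    rcases h0 with h0 | h0
    · rcases hε with h | h <;> simp [h] at h0
    · exact sub_eq_zero.1 h0
  -- reciprocity for differences
  have hdiff : ∀ (j l : R) (ψ : IrrCharacter G),
      Cfsg.classInner (j.1 : N → ℂ) (fun n : N => (ψ : G → ℂ) n) -
        Cfsg.classInner (l.1 : N → ℂ) (fun n : N => (ψ : G → ℂ) n) =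
      (ε : ℂ) * ((if f j = ψ then 1 else 0) - (if f l = ψ then 1 else 0)) := by
    intro j l ψ
    rw [← Char.classInner_sub_left, ← Char.classInner_indFun N _ (ψ : G → ℂ)
      (Char.IsIrrCharacter.isClassFunction ψ.2), hf j l, Char.classInner_smul_left,
      Char.classInner_sub_left, Char.classInner_irrCharacter, Char.classInner_irrCharacter]
  obtain ⟨i₀⟩ : Nonempty R := Fintype.card_pos_iff.1 (by omega)
  have hother : ∀ i : R, ∃ j : R, j ≠ i := fun i =>
    Fintype.exists_ne_of_one_lt_card (by omega) i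
  have hP : ∀ (φ : R) (ψ : IrrCharacter G), ∃ n : ℕ,
      Cfsg.classInner (φ.1 : N → ℂ) (fun x : N => (ψ : G → ℂ) x) = n := fun φ ψ =>
    Char.IsCharacter.exists_nat_classInner' (Char.IsIrrCharacter.isCharacter φ.1.2)
      (Char.IsCharacter.restrict (Char.IsIrrCharacter.isCharacter ψ.2) N)
  choose P hP using hP
  let triv : N → ℂ := Cfsg.indFun KN (fun _ => (1 : ℂ))
  have htriv : ∀ ψ : IrrCharacter G, ∃ n : ℕ,
      Cfsg.classInner triv (fun x : N => (ψ : G → ℂ) x) = n := fun ψ =>
    Char.IsCharacter.exists_nat_classInner'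
      (Char.IsCharacter.indFun KN (Char.IsIrrCharacter.isCharacter Char.isIrrCharacter_principal))
      (Char.IsCharacter.restrict (Char.IsIrrCharacter.isCharacter ψ.2) N)
  choose M₁ hM₁ using htriv
  have hPd : ∀ (i j l : R), ((P j (f i) : ℤ) - (P l (f i) : ℤ) : ℤ) =
      ε * ((if j = i then 1 else 0) - (if l = i then 1 else 0)) := by
    intro i j l
    have h := hdiff j l (f i)
    rw [hP, hP] at h
    simp only [hinj.eq_iff] at h
    apply Int.cast_injective (α := ℂ)
    push_cast
    exact h
  let base : R → ℤ := fun i => (P i (f i) : ℤ) - ε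
  have hbase : ∀ i j : R, j ≠ i → (P j (f i) : ℤ) = base i := by
    intro i j hji
    have h := hPd i i j
    rw [if_pos rfl, if_neg hji, sub_zero, mul_one] at h
    simp only [base]
    omega
  let cf : R → ℤ := fun i => (M₁ (f i) : ℤ) - base i
  -- degrees
  have hdeg : ∀ i : R, (charDegree ((f i : IrrCharacter G) : G → ℂ) : ℤ) =
      base i * (Nat.card A : ℤ) + 4 * ε + cf i := by
    intro i
    set ψ := f i
    have hch : Cfsg.IsCharacter N (fun n : N => (ψ : G → ℂ) n) :=
      Char.IsCharacter.restrict (Char.IsIrrCharacter.isCharacter ψ.2) N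
    have hresK := Char.IsCharacter.eq_sum_classInner (Char.IsCharacter.restrict hch KN)
    have h1 := congrFun hresK 1
    simp only [Finset.sum_apply, Pi.smul_apply, smul_eq_mul, hl1, mul_one, Subgroup.coe_one] at h1
    rw [← Finset.add_sum_erase _ _ (Finset.mem_univ one),
      Finset.sum_subtype (Finset.univ.erase one) (p := fun l => l ≠ one) (fun l => by simp)] at h1
    have e1 : Cfsg.classInner (fun x : KN => (ψ : G → ℂ) ((x : N) : G)) (one : KN → ℂ) =
        (M₁ ψ : ℂ) := by
      rw [← Char.classInner_conj_symm (one : KN → ℂ), ← Char.classInner_indFun KN _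
        (fun n : N => (ψ : G → ℂ) n) (Char.IsCharacter.isClassFunction hch)]
      show conj (Cfsg.classInner triv _) = _
      rw [hM₁, Complex.conj_natCast]
    have e2 : ∀ l : {l : IrrCharacter KN // l ≠ one},
        Cfsg.classInner (fun x : KN => (ψ : G → ℂ) ((x : N) : G)) (l.1 : KN → ℂ) =
          (((P (Φ l) ψ : ℕ) : ℤ) : ℂ) := by
      intro l
      rw [← Char.classInner_conj_symm (l.1 : KN → ℂ), ← Char.classInner_indFun KN _
        (fun n : N => (ψ : G → ℂ) n) (Char.IsCharacter.isClassFunction hch)]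
      show conj (Cfsg.classInner ((Φ l).1 : N → ℂ) _) = _
      rw [hP, Complex.conj_natCast, Int.cast_natCast]
    rw [e1, Finset.sum_congr rfl (fun l _ => e2 l), ← Int.cast_sum] at h1
    have h2 : ∑ l : {l : IrrCharacter KN // l ≠ one}, ((P (Φ l) ψ : ℕ) : ℤ) =
        4 * (k * base i) + 4 * ε := by
      rw [← Finset.sum_fiberwise_of_maps_to (g := Φ) (t := (Finset.univ : Finset R))
        (fun _ _ => Finset.mem_univ _)]
      rw [Finset.sum_congr rfl (g := fun φ => 4 * base i + if φ = i then 4 * ε else 0) fun φ _ => ?_,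
        Finset.sum_add_distrib, Finset.sum_const, Finset.card_univ, hk', Finset.sum_ite_eq',
        if_pos (Finset.mem_univ _), nsmul_eq_mul]
      · push_cast; ring
      · rw [Finset.sum_congr rfl (g := fun _ => ((P φ ψ : ℕ) : ℤ)) (fun l hl => by
          rw [(Finset.mem_filter.1 hl).2]), Finset.sum_const, hfib, nsmul_eq_mul]
        by_cases hφ : φ = i
        · subst hφ
          simp only [base, ψ, if_true]
          push_cast; ring
        · rw [if_neg hφ, hbase i φ hφ]
          push_cast; ring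
    rw [h2, ← CharTools.irr_degree_cast] at h1
    have h3 : (charDegree (ψ : G → ℂ) : ℤ) = (M₁ ψ : ℤ) + (4 * (k * base i) + 4 * ε) := by
      apply Int.cast_injective (α := ℂ)
      push_cast at h1 ⊢
      exact h1
    rw [h3, hcard]
    simp only [cf, ψ]
    push_cast
    ring
  -- the norm bound
  let D : R → N → ℂ := fun i => triv - (i.1 : N → ℂ)
  set Γ := Cfsg.indFun N (D i₀) with hΓ
  have hTIiso : ∀ θ : N → ℂ, Cfsg.IsClassFunction N θ → (∀ x : N, (x : G) ∉ A → θ x = 0) →
      Cfsg.classInner Γ (Cfsg.indFun N θ) = Cfsg.classInner (D i₀) θ := by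
    intro θ hθ hθA
    refine Char.classInner_indFun_ti (A : Set G) hTI (D i₀) θ hθ (fun x hx => ?_) hθA ?_
    · simp only [D, Pi.sub_apply, triv]
      rw [Char.indFun_eq_zero_of_normal KN _ (show x ∉ KN from hx), hvan i₀ x hx, sub_zero]
    · simp only [D, Pi.sub_apply, triv]
      rw [Char.indFun_apply_one, hidx, hR1]
      norm_num
  have htrivR : ∀ j : R, Cfsg.classInner triv (j.1 : N → ℂ) = 0 := by
    intro j
    rw [Char.classInner_indFun KN _ _ (Char.IsIrrCharacter.isClassFunction j.1.2),
      ← Char.classInner_conj_symm, TIF.classInner_res_one KN hfpf j.1.2 j.2, map_zero]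
  have hΓψ : ∀ i : R, Cfsg.classInner Γ ((f i : IrrCharacter G) : G → ℂ) =
      ((((M₁ (f i) : ℕ) : ℤ) - ((P i₀ (f i) : ℕ) : ℤ) : ℤ) : ℂ) := by
    intro i
    rw [hΓ, Char.classInner_indFun N _ _ (Char.IsIrrCharacter.isClassFunction (f i).2)]
    simp only [D]
    rw [Char.classInner_sub_left, hM₁, hP]
    push_cast
    rfl
  have hcf : ∀ i : R, cf i = cf i₀ := by
    intro i
    by_cases hi : i = i₀
    · rw [hi]
    have h : Cfsg.classInner Γ ((f i : IrrCharacter G) : G → ℂ) -
        Cfsg.classInner Γ ((f i₀ : IrrCharacter G) : G → ℂ) = (ε : ℂ) := by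
      have h1 := hTIiso ((i.1 : N → ℂ) - (i₀.1 : N → ℂ)) (fun x y => by
          simp only [Pi.sub_apply, Char.IsIrrCharacter.isClassFunction i.1.2 x y,
            Char.IsIrrCharacter.isClassFunction i₀.1.2 x y]) (fun x hx => by
          rw [Pi.sub_apply, hvan i x hx, hvan i₀ x hx, sub_self])
      rw [hf i i₀, Char.classInner_smul_right, Char.classInner_sub_right, hεconj] at h1
      simp only [D] at h1
      rw [Char.classInner_sub_left, Char.classInner_sub_right, Char.classInner_sub_right, htrivR,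
        htrivR, Char.classInner_irr_self i₀.1.2,
        Char.classInner_irr_of_ne i₀.1.2 i.1.2 (fun e => hi (Subtype.ext (Subtype.ext e.symm)))]
        at h1
      have hεsq : (ε : ℂ) * (ε : ℂ) = 1 := by rcases hε with h | h <;> simp [h]
      linear_combination (ε : ℂ) * h1 -
        (Cfsg.classInner Γ ((f i : IrrCharacter G) : G → ℂ) -
          Cfsg.classInner Γ ((f i₀ : IrrCharacter G) : G → ℂ)) * hεsq
    rw [hΓψ, hΓψ, ← Int.cast_sub, Int.cast_inj] at h
    have := hbase i i₀ (Ne.symm hi)
    simp only [cf, base] at this ⊢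
    omega
  have hnorm : Cfsg.classInner Γ Γ = 5 := by
    have hD : Cfsg.IsClassFunction N (D i₀) := fun x y => by
      simp only [D, Pi.sub_apply, triv, Char.isClassFunction_indFun KN _ x y,
        Char.IsIrrCharacter.isClassFunction i₀.1.2 x y]
    rw [hTIiso (D i₀) hD fun x hx => by
      simp only [D, Pi.sub_apply, triv]
      rw [Char.indFun_eq_zero_of_normal KN _ (show x ∉ KN from hx), hvan i₀ x hx, sub_zero]]
    simp only [D]
    rw [Char.classInner_sub_left, Char.classInner_sub_right, Char.classInner_sub_right, htrivR,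
      ← Char.classInner_conj_symm triv (i₀.1 : N → ℂ), htrivR, map_zero,
      Char.classInner_irr_self i₀.1.2, Char.classInner_indFun KN _ triv
      (Char.isClassFunction_indFun KN _),
      show (fun x : KN => triv x) = ((4 : ℂ)) • fun _ : KN => (1 : ℂ) from funext fun x => by
        simp only [triv]
        rw [CharDeep.Cliff.indFun_res_invariant KN (θ := fun _ => (1 : ℂ)) (fun g => rfl) x, hidx]
        simp,
      Char.classInner_smul_right, Char.classInner_irr_self Char.isIrrCharacter_principal,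
      map_ofNat]
    norm_num
  have hbound : (k - 1 : ℤ) * cf i₀ ^ 2 + (cf i₀ - ε) ^ 2 ≤ 5 := by
    have hp := Char.classInner_eq_sum (θ := Γ) (η := Γ) (Char.isClassFunction_indFun N _)
      (Char.isClassFunction_indFun N _)
    rw [hnorm] at hp
    have hp' : (5 : ℝ) = ∑ χ : IrrCharacter G,
        Complex.normSq (Cfsg.classInner Γ (χ : G → ℂ)) := by
      have := congrArg Complex.re hp
      simp only [Complex.re_sum, Complex.mul_conj, Complex.ofReal_re] at this
      simpa using this
    have hle : ∑ χ ∈ Finset.univ.image f, Complex.normSq (Cfsg.classInner Γ (χ : G → ℂ)) ≤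
        (5 : ℝ) := by
      rw [hp']
      exact Finset.sum_le_sum_of_subset_of_nonneg (Finset.subset_univ _)
        (fun _ _ _ => Complex.normSq_nonneg _)
    rw [Finset.sum_image hinj.injOn] at hle
    have hsq : ∀ i : R, Complex.normSq (Cfsg.classInner Γ ((f i : IrrCharacter G) : G → ℂ)) =
        (((cf i₀ - if i = i₀ then ε else 0) ^ 2 : ℤ) : ℝ) := by
      intro i
      rw [hΓψ, Complex.normSq_intCast]
      push_cast
      have hh := hcf i
      by_cases hi : i = i₀
      · subst hi
        simp only [cf, base, if_true]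
        push_cast
        ring
      · have := hbase i i₀ (Ne.symm hi)
        rw [if_neg hi]
        have h2 : (((M₁ (f i) : ℕ) : ℤ) - ((P i₀ (f i) : ℕ) : ℤ)) = cf i₀ := by
          rw [← hh]; simp only [cf]; omega
        rw [← h2]
        push_cast
        ring
    rw [Finset.sum_congr rfl (fun i _ => hsq i), ← Int.cast_sum] at hle
    have hle' : ∑ i : R, (cf i₀ - if i = i₀ then ε else 0) ^ 2 ≤ (5 : ℤ) := by exact_mod_cast hle
    rw [← Finset.add_sum_erase _ _ (Finset.mem_univ i₀), if_pos rfl,
      Finset.sum_congr rfl (g := fun _ => cf i₀ ^ 2) (fun i hi => by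
        rw [if_neg (Finset.mem_erase.1 hi).1, sub_zero]), Finset.sum_const,
      Finset.card_erase_of_mem (Finset.mem_univ _), Finset.card_univ, hk', nsmul_eq_mul,
      Nat.cast_sub (by omega), Nat.cast_one] at hle'
    linarith
  refine ⟨ε, cf i₀, hε, ?_, ?_⟩
  · have h1 : (2 : ℤ) * cf i₀ ^ 2 ≤ 5 := by
      have h3 : (2 : ℤ) ≤ (k : ℤ) - 1 := by omega
      have h4 := mul_le_mul_of_nonneg_right h3 (sq_nonneg (cf i₀))
      linarith [sq_nonneg (cf i₀ - ε)]
    have h2 : -1 ≤ cf i₀ ∧ cf i₀ ≤ 1 := by constructor <;> nlinarith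
    have h5 : cf i₀ = -1 ∨ cf i₀ = 0 ∨ cf i₀ = 1 := by omega
    rcases h5 with h | h | h <;> rcases hε with e | e <;>
      first
        | exact Or.inl h
        | exact Or.inr (h.trans e.symm)
        | (exfalso; rw [h, e] at hbound; linarith [show (3 : ℤ) ≤ k by omega])
  · intro ψ hψ
    obtain ⟨i, -, rfl⟩ := Finset.mem_image.1 hψ
    exact ⟨base i, by rw [hdeg i, hcf i]⟩

end CfsgLib.SzChar
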