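import Cfsg.Agent.Lib.SuzukiChar.Sums
import Cfsg.Agent.Lib.SuzukiChar.Cuspidal
import Cfsg.Agent.Lib.SuzukiChar.TIFamily
import Cfsg.Prelude.Def_DegreeGraph

/-!
# The degrees of the irreducible characters of a Suzuki group
-/

set_option autoImplicit false
set_option linter.style.haveILetI false

namespace CfsgLib.SzChar

open Cfsg CfsgLib CfsgLib.Suzuki

/-- The residue `4ε + c` of an exceptional degree is not small. -/
theorem residue_ne {M ε c t : ℤ} (hM : 13 ≤ M) (hε : ε = 1 ∨ ε = -1) (hc : c = 0 ∨ c = ε)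
    (h : M ∣ 4 * ε + c + t) (ht : |t| ≤ 4) : t = 4 ∨ t = -4 := by
  rw [abs_le] at ht
  have h0 : 4 * ε + c + t = 0 := by
    refine Int.eq_zero_of_abs_lt_dvd h ?_
    rw [abs_lt]
    rcases hε with rfl | rfl <;> rcases hc with rfl | rfl <;> constructor <;> omega
  rcases hε with rfl | rfl <;> rcases hc with rfl | rfl <;> omega

variable {F : Type*} [Field F] [Fintype F] {m : ℕ} (h : SzHyp F m)
include h

local notation "G" => Cfsg.Sz F m
local notation "qq" => 2 ^ (2 * m + 1)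
local notation "hh" => 2 ^ m

/-- The cuspidal characters attached to an exceptional torus. -/
theorem family_data [Fintype (Cfsg.Sz F m)] {q H : ℕ} {C : Finset (IrrCharacter G)}
    {n bb dd ss : IrrCharacter G → ℤ} (d : SzSums h q H C n bb dd ss) (hq8 : 8 ≤ q) (hH : 0 < H)
    {U : Subgroup G} (hU : IsExcTorus U) {k : ℕ}
    (hNU : Nat.card (Subgroup.normalizer (U : Set G)) = 4 * Nat.card U)
    (hcU : Nat.card U = 4 * k + 1) (hk : 3 ≤ k) (hdvd : Nat.card U ∣ q ^ 2 + 1) :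
    ∃ Fm : Finset (IrrCharacter G), Fm.card = k ∧ Fm ⊆ C ∧
      ∃ ε c : ℤ, (ε = 1 ∨ ε = -1) ∧ (c = 0 ∨ c = ε) ∧ ∀ f ∈ Fm, dd f = 0 ∧
        (k : ℤ) * bb f ^ 2 ≤ ∑ χ ∈ C, bb χ ^ 2 ∧ (k : ℤ) * ss f ^ 2 ≤ ∑ χ ∈ C, ss χ ^ 2 ∧
        (∃ K : ℤ, ((q : ℤ) - 1) * n f = K * (Nat.card U : ℤ) + 4 * ε + c) ∧
        ∀ f' ∈ Fm, bb f' = bb f := by
  classical
  have hcyc := hU.isCyclic h
  obtain ⟨Fm, hcard, hagree, ε, c, hε, hc, hdeg⟩ := exists_family U
    (fun g hg a ha hga => by_contra fun ha1 => hg (hU.mem_normalizer h ha ha1 hga))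
    (fun a ha ha1 => (hU.centralizer_eq h ha ha1).le)
    (fun a ha a' ha' => by
      letI : CommGroup U := IsCyclic.commGroup
      exact congrArg Subtype.val (mul_comm (⟨a, ha⟩ : U) ⟨a', ha'⟩))
    hNU hk hcU
  have hM : (13 : ℤ) ≤ (Nat.card U : ℤ) := by omega
  have hagree' : ∀ f ∈ Fm, ∀ f' ∈ Fm, ∀ g : G, g ∈ borel F m →
      (f : G → ℂ) g = (f' : G → ℂ) g := fun f hf f' hf' g hg =>
    hagree f hf f' hf' g fun x hx => by_contra fun hg1 =>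
      hU.class_subset h ⟨hg1, x, hx⟩ pInf pInf_mem (MulAction.mem_stabilizer_iff.1 hg)
  have hinC : Fm ⊆ C := by
    intro f hf
    by_contra hn
    obtain ⟨K, hK⟩ := hdeg f hf
    have hd := CharTools.irr_degree_cast f
    obtain ⟨t, ht, htd⟩ : ∃ t : ℤ, |t| ≤ 1 ∧
        (Nat.card U : ℤ) ∣ (charDegree (f : G → ℂ) : ℤ) + t := by
      obtain ⟨L, hL⟩ := hdvd
      have hL' : (q : ℤ) ^ 2 + 1 = (Nat.card U : ℤ) * L := by exact_mod_cast hL
      rcases d.outside f hn with e | e | e <;> rw [e] at hd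
      · refine ⟨-1, by norm_num, ?_⟩
        rw [show charDegree (f : G → ℂ) = 1 by exact_mod_cast hd]
        simp
      · refine ⟨1, by norm_num, L, ?_⟩
        rw [show charDegree (f : G → ℂ) = q ^ 2 by exact_mod_cast hd]
        push_cast
        exact hL'
      · refine ⟨0, by norm_num, L, ?_⟩
        rw [show charDegree (f : G → ℂ) = q ^ 2 + 1 by exact_mod_cast hd, add_zero]
        push_cast
        exact hL'
    rw [hK, show K * (Nat.card U : ℤ) + 4 * ε + c + t =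
      4 * ε + c + t + K * (Nat.card U : ℤ) by ring, dvd_add_left (dvd_mul_left _ _)] at htd
    rcases residue_ne hM hε hc htd (ht.trans (by norm_num)) with e | e <;> rw [e] at ht <;>
      norm_num at ht
  refine ⟨Fm, hcard, hinC, ε, c, hε, hc, fun f hf => ?_⟩
  have hsame : ∀ f' ∈ Fm, bb f' = bb f ∧ dd f' = dd f ∧ ss f' = ss f := by
    intro f' hf'
    have eu := hagree' f' hf' f hf (tS h 1 0) (tS_mem_borel h 1 0)
    have e1 := hagree' f' hf' f hf 1 (one_mem _)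
    rw [d.deg f' (hinC hf'), d.deg f (hinC hf), Int.cast_inj] at e1
    rw [d.val_u f' (hinC hf'), d.val_u f (hinC hf)] at eu
    have h1 := congrArg Complex.re eu
    have h2 := congrArg Complex.im eu
    simp only [Complex.add_re, Complex.intCast_re, Complex.mul_re, Complex.I_re, mul_zero,
      Complex.intCast_im, Complex.I_im, sub_zero, add_zero, zero_mul] at h1
    simp only [Complex.add_im, Complex.intCast_im, Complex.mul_im, Complex.I_im, mul_one,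
      Complex.intCast_re, Complex.I_re, mul_zero, zero_add, add_zero] at h2
    have hb : bb f' = bb f := neg_inj.1 (by exact_mod_cast h1)
    have hn : n f' = n f := mul_left_cancel₀ (show (q : ℤ) - 1 ≠ 0 by omega) e1
    refine ⟨hb, mul_left_cancel₀ (show (H : ℤ) ≠ 0 by omega) (by exact_mod_cast h2), ?_⟩
    rw [d.n_eq f' (hinC hf'), d.n_eq f (hinC hf), hb] at hn
    exact mul_left_cancel₀ (show (H : ℤ) ≠ 0 by omega) (by linarith)
  have hle : ∀ g : IrrCharacter G → ℤ, (∀ f' ∈ Fm, g f' = g f) →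
      (k : ℤ) * g f ^ 2 ≤ ∑ χ ∈ C, g χ ^ 2 := by
    intro g hg
    calc (k : ℤ) * g f ^ 2 = ∑ χ ∈ Fm, g χ ^ 2 := by
          rw [Finset.sum_congr rfl (g := fun _ => g f ^ 2) (fun x hx => by rw [hg x hx]),
            Finset.sum_const, hcard, nsmul_eq_mul]
      _ ≤ _ := Finset.sum_le_sum_of_subset_of_nonneg hinC fun _ _ _ => sq_nonneg _
  have hd0 : dd f = 0 := by
    by_contra hne
    have h1 := hle dd fun f' hf' => (hsame f' hf').2.1
    rw [d.sum_dd] at h1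
    have h2 : (1 : ℤ) ≤ dd f ^ 2 := by have := sq_pos_of_ne_zero hne; omega
    have h3 := mul_le_mul_of_nonneg_left h2 (Int.natCast_nonneg k)
    omega
  obtain ⟨K, hK⟩ := hdeg f hf
  refine ⟨hd0, hle bb fun f' hf' => (hsame f' hf').1, hle ss fun f' hf' => (hsame f' hf').2.2,
    ⟨K, ?_⟩, fun f' hf' => (hsame f' hf').1⟩
  rw [← hK]
  apply Int.cast_injective (α := ℂ)
  rw [Int.cast_natCast, CharTools.irr_degree_cast, d.deg f (hinC hf)]

set_option maxHeartbeats 1000000 in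
/-- The cuspidal part of the character table. -/
theorem cuspidal_table [Fintype (Cfsg.Sz F m)] {q H : ℕ} (hq : qq = q) (hH : hh = H)
    {C : Finset (IrrCharacter G)} {n bb dd ss : IrrCharacter G → ℤ}
    (d : SzSums h q H C n bb dd ss) :
    (∀ x ∈ C, (n x = (q : ℤ) + 1 - 2 * H ∧ bb x = 1 ∧ dd x = 0) ∨
        (n x = (q : ℤ) + 2 * H + 1 ∧ bb x = 1 ∧ dd x = 0) ∨
        (n x = H ∧ bb x = 0 ∧ (dd x = 1 ∨ dd x = -1))) ∧
      (∃ x ∈ C, n x = (q : ℤ) + 1 - 2 * H) ∧ (∃ x ∈ C, n x = (q : ℤ) + 2 * H + 1) ∧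
      ∃ x ∈ C, n x = H := by
  classical
  obtain ⟨j, hj, hhj⟩ : ∃ j : ℕ, 1 ≤ j ∧ hh = 2 * j :=
    ⟨2 ^ (m - 1), Nat.one_le_two_pow, by
      rw [← pow_succ']; congr 1; have := h.one_le; omega⟩
  have hqh : qq = 2 * hh ^ 2 := (borelData h).q_eq
  obtain ⟨U₁, U₂, hU₁, hU₂, hk₁, hk₂, hN₁, hN₂, -⟩ := tori_main h
  rw [pow_succ' 2 m, hq, hH] at hk₁ hk₂
  simp only [hq, hH] at hqh hhj ⊢
  have hq8 : q = 8 * j ^ 2 := by rw [hqh, hhj]; ring
  have hj2 : j ≤ j ^ 2 := Nat.le_self_pow two_ne_zero j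
  have h2H : 2 * H ≤ q := by omega
  have hjz : (1 : ℤ) ≤ j := by exact_mod_cast hj
  have hjz2 : (j : ℤ) ≤ (j : ℤ) ^ 2 := by exact_mod_cast hj2
  have hqz : (q : ℤ) = 8 * (j : ℤ) ^ 2 := by exact_mod_cast hq8
  have hHz : (H : ℤ) = 2 * (j : ℤ) := by exact_mod_cast hhj
  have hM₁ : (Nat.card U₁ : ℤ) = q + 2 * H + 1 := by exact_mod_cast hk₁
  have hM₂ : (Nat.card U₂ : ℤ) = q - 2 * H + 1 := by zify [h2H] at hk₂; exact hk₂
  have hprod : Nat.card U₁ * Nat.card U₂ = q ^ 2 + 1 := by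
    zify
    rw [hM₁, hM₂, hqz, hHz]
    ring
  obtain ⟨F₁, hF₁, hF₁C, ε₁, c₁, hε₁, hc₁, hF₁'⟩ := family_data h d (by omega) (by omega) hU₁
    (k := 2 * j ^ 2 + j) hN₁ (by omega) (by omega) ⟨_, hprod.symm⟩
  have hF₁v : ∀ f ∈ F₁, dd f = 0 ∧ bb f = 1 ∧ ss f = 2 := by
    intro f hf
    obtain ⟨hd0, hb, hs, ⟨K, hK⟩, -⟩ := hF₁' f hf
    refine ⟨hd0, ?_⟩
    push_cast at hb hs
    have hsum := d.sum_bb
    rw [d.sum_ss] at hs
    have hb1 : bb f ^ 2 ≤ 1 := by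
      by_contra hlt
      have := mul_le_mul_of_nonneg_left (show (2 : ℤ) ≤ bb f ^ 2 by omega)
        (show (0 : ℤ) ≤ 2 * (j : ℤ) ^ 2 + j by positivity)
      linarith
    have hs1 : ss f ^ 2 ≤ 7 := by
      by_contra hlt
      have := mul_le_mul_of_nonneg_left (show (8 : ℤ) ≤ ss f ^ 2 by omega)
        (show (0 : ℤ) ≤ 2 * (j : ℤ) ^ 2 + j by positivity)
      linarith
    have hb2 : bb f = 0 ∨ bb f = 1 := by
      have h0 := d.b_nonneg f (hF₁C hf)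
      have : bb f ≤ 1 := by nlinarith only [hb1]
      omega
    obtain ⟨e, he⟩ := d.parity f (hF₁C hf)
    have he' : -2 ≤ ss f ∧ ss f ≤ 2 := by constructor <;> nlinarith only [hs1]
    have hT : ((q : ℤ) - 1) * n f + (2 * bb f + ss f) = (Nat.card U₁ : ℤ) *
        (((q : ℤ) - 1) * bb f - ((H : ℤ) - 1) * (2 * bb f + ss f)) := by
      rw [hM₁, d.n_eq f (hF₁C hf), hqz, hHz]
      ring
    have hdv : (Nat.card U₁ : ℤ) ∣ 4 * ε₁ + c₁ + (2 * bb f + ss f) :=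
      ⟨(((q : ℤ) - 1) * bb f - ((H : ℤ) - 1) * (2 * bb f + ss f)) - K, by
        linear_combination hT - hK⟩
    have := residue_ne (by omega) hε₁ hc₁ hdv (by rw [abs_le]; omega)
    omega
  have hF₂ : 2 ≤ j → ∃ F₂ : Finset (IrrCharacter G), F₂ ⊆ C ∧
      (F₂.card : ℤ) = 2 * (j : ℤ) ^ 2 - j ∧
      ∀ f ∈ F₂, f ∉ F₁ ∧ dd f = 0 ∧ ∀ f' ∈ F₂, bb f' = bb f := by
    intro hj'
    have hjj : 2 * j ≤ j ^ 2 := by rw [pow_two]; exact Nat.mul_le_mul_right j hj'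
    obtain ⟨k₂, hk₂'⟩ : ∃ k₂ : ℕ, k₂ + j = 2 * j ^ 2 := ⟨2 * j ^ 2 - j, by omega⟩
    obtain ⟨F₂, hF₂, hF₂C, ε₂, c₂, hε₂, hc₂, hF₂'⟩ := family_data h d (by omega) (by omega) hU₂
      (k := k₂) hN₂ (by omega) (by omega) (Dvd.intro_left _ hprod)
    refine ⟨F₂, hF₂C, by rw [hF₂]; omega, fun f hf => ?_⟩
    obtain ⟨hd0, -, -, ⟨K, hK⟩, hsame⟩ := hF₂' f hf
    refine ⟨fun hf₁ => ?_, hd0, hsame⟩
    obtain ⟨-, e1, e2⟩ := hF₁v f hf₁
    have hdv : (Nat.card U₂ : ℤ) ∣ 4 * ε₂ + c₂ + 0 := ⟨(q : ℤ) - 1 - K, by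
      rw [d.n_eq f (hF₂C hf), e1, e2] at hK
      rw [hM₂] at hK ⊢
      linear_combination -hK⟩
    rcases residue_ne (by omega) hε₂ hc₂ hdv (by norm_num) with e | e <;> norm_num at e
  exact cuspidal_values hj hhj hq8 C n bb dd ss d.n_eq d.n_pos d.b_nonneg d.parity
      d.sum_bb d.sum_dd d.sum_bd d.sum_nd d.sum_bs d.sum_ss F₁ hF₁ hF₁C hF₁v hF₂

set_option maxHeartbeats 1000000 in
/-- The irreducible character degrees of a Suzuki group. -/
theorem charDegrees_sz : Cfsg.charDegrees (Cfsg.Sz F m) =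
    {1, qq ^ 2, qq ^ 2 + 1, (qq - 1) * (qq + 2 * hh + 1), (qq - 1) * (qq + 1 - 2 * hh),
      (qq - 1) * hh} := by
  classical
  letI : Fintype (Cfsg.Sz F m) := Fintype.ofFinite _
  have hqh : qq = 2 * hh ^ 2 := (borelData h).q_eq
  obtain ⟨q, hq⟩ : ∃ q : ℕ, qq = q := ⟨_, rfl⟩
  obtain ⟨H, hH⟩ : ∃ H : ℕ, hh = H := ⟨_, rfl⟩
  obtain ⟨C, n, bb, dd, ss, d⟩ := exists_szSums h hq hH
  simp only [hq, hH] at hqh ⊢
  have h2H : 2 * H ≤ q := by rw [hqh]; have := Nat.le_self_pow two_ne_zero H; omega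
  have h1q : 2 ≤ q := by
    have : 0 < H := by rw [← hH]; positivity
    rw [hqh]; nlinarith
  obtain ⟨hall, ⟨x₁, hx₁, hn₁⟩, ⟨x₂, hx₂, hn₂⟩, ⟨x₃, hx₃, hn₃⟩⟩ := cuspidal_table h hq hH d
  have hdeg : ∀ χ ∈ C, ∀ N : ℕ, n χ = N → charDegree (χ : G → ℂ) = (q - 1) * N := by
    intro χ hχ N hN
    apply Nat.cast_injective (R := ℂ)
    rw [CharTools.irr_degree_cast, d.deg χ hχ, hN, Nat.cast_mul,
      Nat.cast_sub (show 1 ≤ q by omega)]
    push_cast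
    rfl
  have hcast : ((q + 1 - 2 * H : ℕ) : ℤ) = (q : ℤ) + 1 - 2 * H := by omega
  have hplain : ∀ (χ : IrrCharacter G) (N : ℕ), (χ : G → ℂ) 1 = (N : ℂ) →
      charDegree (χ : G → ℂ) = N := fun χ N e =>
    Nat.cast_injective (R := ℂ) (by rw [CharTools.irr_degree_cast, e])
  ext x
  simp only [Set.mem_insert_iff, Set.mem_singleton_iff]
  constructor
  · rintro ⟨χ, rfl⟩
    by_cases hχ : χ ∈ C
    · rcases hall χ hχ with ⟨e, -, -⟩ | ⟨e, -, -⟩ | ⟨e, -, -⟩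
      · rw [hdeg χ hχ (q + 1 - 2 * H) (by rw [e, hcast])]; tauto
      · rw [hdeg χ hχ (q + 2 * H + 1) (by rw [e]; push_cast; rfl)]; tauto
      · rw [hdeg χ hχ H e]; tauto
    · rcases d.outside χ hχ with e | e | e
      · rw [hplain χ 1 (by rw [e, Nat.cast_one])]; tauto
      · rw [hplain χ (q ^ 2) (by rw [e]; push_cast; rfl)]; tauto
      · rw [hplain χ (q ^ 2 + 1) (by rw [e]; push_cast; rfl)]; tauto
  · rintro (rfl | rfl | rfl | rfl | rfl | rfl)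
    · exact ⟨Char.principalIrr, hplain _ 1 (by rw [Nat.cast_one]; rfl)⟩
    · obtain ⟨χ, e⟩ := d.has_sq
      exact ⟨χ, hplain _ _ (by rw [e]; push_cast; rfl)⟩
    · obtain ⟨χ, e⟩ := d.has_sq_succ
      exact ⟨χ, hplain _ _ (by rw [e]; push_cast; rfl)⟩
    · exact ⟨x₂, hdeg x₂ hx₂ _ (by rw [hn₂]; push_cast; rfl)⟩
    · exact ⟨x₁, hdeg x₁ hx₁ _ (by rw [hn₁, hcast])⟩
    · exact ⟨x₃, hdeg x₃ hx₃ _ hn₃⟩

end CfsgLib.SzChar
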