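import Cfsg.Agent.Lib.SuzukiChar.Table
import Cfsg.Agent.Lib.Char.DefectZero

/-!
# Values of the irreducible characters of a Suzuki group away from the two-elements
-/

set_option autoImplicit false
set_option linter.style.haveILetI false

open scoped ComplexConjugate

namespace CfsgLib.SzChar

open Cfsg CfsgLib CfsgLib.Suzuki

/-- A character whose degree is divisible by a Hall divisor `A` of the group order vanishes at the
non-trivial elements of order dividing `A`. -/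
theorem irr_eq_zero_of_hall_dvd {G : Type*} [Group G] [Finite G] (χ : IrrCharacter G) {A B d : ℕ}
    (hcard : Nat.card G = A * B) (hco : Nat.Coprime A B) (hd : (χ : G → ℂ) 1 = (d : ℂ))
    (hdvd : A ∣ d) {g : G} (hg : g ≠ 1) (hgA : orderOf g ∣ A) : (χ : G → ℂ) g = 0 := by
  obtain ⟨f, n, ρ, hirr, rfl⟩ := χ
  haveI := hirr
  obtain ⟨p, hp, hpg⟩ := Nat.exists_prime_and_dvd (fun e => hg (orderOf_eq_one_iff.1 e))
  have hA0 : A ≠ 0 := fun e => by
    have := Nat.card_pos (α := G); rw [hcard, e, zero_mul] at this; exact lt_irrefl _ this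
  have hrank : Module.finrank ℂ (Fin n → ℂ) = d := by
    have h1 : (Module.finrank ℂ (Fin n → ℂ) : ℂ) = (d : ℂ) := ρ.char_one.symm.trans hd
    exact_mod_cast h1
  have hpB : ¬ p ∣ B := fun e => hp.one_lt.ne'
    (Nat.dvd_one.1 (hco ▸ Nat.dvd_gcd (hpg.trans hgA) e))
  refine CfsgLib.Char.character_eq_zero_of_defect_zero ρ hp (n := A.factorization p)
    ?_ ?_ ?_ g hpg
  · exact hcard ▸ (Nat.ordProj_dvd A p).trans (dvd_mul_right A B)
  · intro e
    rw [hcard] at e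
    exact Nat.pow_succ_factorization_not_dvd hA0 hp
      (((Nat.Coprime.pow_left _ ((Nat.Prime.coprime_iff_not_dvd hp).2 hpB))).dvd_of_dvd_mul_right e)
  · rw [hrank]
    exact (Nat.ordProj_dvd A p).trans hdvd

variable {F : Type*} [Field F] [Fintype F] {m : ℕ} (h : SzHyp F m)
include h

local notation "G" => Cfsg.Sz F m
local notation "qq" => 2 ^ (2 * m + 1)
local notation "hh" => 2 ^ m

/-- The two exceptional torus orders are coprime. -/
theorem coprime_exc {q H : ℕ} (hq : qq = q) (hH : hh = H) :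
    Nat.Coprime (q + 2 * H + 1) (q + 1 - 2 * H) := by
  have hle : 2 * H ≤ q := by
    rw [← hq, ← hH, ← pow_succ']
    exact Nat.pow_le_pow_right two_pos (by omega)
  have h4 : 4 * H = 2 ^ (m + 2) := by rw [← hH, pow_add]; ring
  have hev : 2 ∣ q := hq ▸ dvd_pow_self 2 (by omega)
  refine Nat.coprime_of_dvd' fun p hp h1 h2 => ?_
  have h3 : p ∣ 4 * H := by
    have := Nat.dvd_sub h1 h2
    rwa [show q + 2 * H + 1 - (q + 1 - 2 * H) = 4 * H by omega] at this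
  rw [h4] at h3
  have hp2 := (Nat.prime_dvd_prime_iff_eq hp Nat.prime_two).1 (hp.dvd_of_dvd_pow h3)
  subst hp2
  omega

/-- The types of the non-trivial elements. -/
theorem element_cases {q H : ℕ} (hq : qq = q) (hH : hh = H) {g : G} (hg : g ≠ 1) :
    IsConj (tS h 0 1) g ∨ (IsConj (tS h 1 0) g ∨ IsConj (tS h 1 0)⁻¹ g) ∨
      (orderOf g ∣ q - 1 ∧ Nat.card (Subgroup.centralizer ({g} : Set G)) = q - 1) ∨
      (orderOf g ∣ q + 2 * H + 1 ∧
        Nat.card (Subgroup.centralizer ({g} : Set G)) = q + 2 * H + 1) ∨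
      (orderOf g ∣ q + 1 - 2 * H ∧
        Nat.card (Subgroup.centralizer ({g} : Set G)) = q + 1 - 2 * H) := by
  classical
  by_cases hfree : g ∈ freeSet h
  · obtain ⟨U, hU, hgU⟩ := mem_class_of_free h hfree
    have hC := hU.centralizer_eq h hgU hg
    have hord : orderOf g ∣ Nat.card U := Subgroup.orderOf_dvd_natCard U hgU
    obtain ⟨U₁, U₂, -, -, hk₁, hk₂, -, -, hall⟩ := tori_main h
    have hle : 2 * H ≤ q := by
      rw [← hq, ← hH, ← pow_succ']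
      exact Nat.pow_le_pow_right two_pos (by omega)
    rw [pow_succ' 2 m, hq, hH] at hk₁ hk₂
    rcases hall U hU with e | e
    · right; right; right; left
      rw [hC, e, hk₁]
      exact ⟨(e ▸ hord).trans (hk₁ ▸ dvd_rfl), rfl⟩
    · right; right; right; right
      have hk₂' : Nat.card U₂ = q + 1 - 2 * H := by omega
      rw [hC, e, hk₂']
      exact ⟨(e ▸ hord).trans (hk₂' ▸ dvd_rfl), rfl⟩
  · obtain ⟨p, hp, he⟩ : ∃ p ∈ Cfsg.suzukiOvoid F m, g • p = p := by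
      by_contra hc
      exact hfree fun p hp e => hc ⟨p, hp, e⟩
    obtain ⟨x, hx | ⟨k, hk, hx⟩⟩ := exists_normal_form h hp he
    · letI : Fintype (borel F m) := Fintype.ofFinite _
      have hconj : IsConj g (x⁻¹ * g * x) := isConj_iff.2 ⟨x⁻¹, by rw [inv_inv]⟩
      have hxb : x⁻¹ * g * x ∈ borel F m := tGroup_le_borel h hx
      let b : borel F m := ⟨x⁻¹ * g * x, hxb⟩
      have hbU : b ∈ borelU h := Subgroup.mem_subgroupOf.2 hx
      have hb1 : b ≠ 1 := fun e => hg (by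
        have e' : x⁻¹ * g * x = 1 := congrArg Subtype.val e
        calc g = x * (x⁻¹ * g * x) * x⁻¹ := by group
          _ = 1 := by rw [e']; group)
      have hmap : ∀ a : borel F m, IsConj a b → IsConj (a : G) g := fun a ha =>
        IsConj.trans ((borel F m).subtype.map_isConj ha) hconj.symm
      by_cases hbZ : b ∈ borelZ h
      · exact Or.inl (hmap (bt h 0 1) ((borelData h).isConj_Z (tS_mem_zGroup h 1)
          (fun e => one_ne_zero ((tS_eq_one h).1 (congrArg Subtype.val e)).2) hbZ hb1))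
      · rcases (borelData h).isConj_u hbU hbZ with e | e
        · exact Or.inr (Or.inl (Or.inl (hmap _ e)))
        · exact Or.inr (Or.inl (Or.inr (hmap _ e)))
    · right; right; left
      have hgA : g ∈ (torus h).map (MulAut.conj x).toMonoidHom :=
        mem_map_conj.2 (by rw [hx]; exact ⟨k, rfl⟩)
      have hcard : Nat.card ((torus h).map (MulAut.conj x).toMonoidHom) = q - 1 :=
        (Subgroup.card_map_of_injective (MulAut.conj x).injective).trans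
          (by rw [card_torus h, hq])
      rw [centralizer_mem_conj_torus h x hgA hg, hcard]
      exact ⟨hcard ▸ Subgroup.orderOf_dvd_natCard _ hgA, rfl⟩

/-- The character table of a Suzuki group, up to the values of the exceptional characters at their
own tori. `Qs` are the principal series, `F₁`, `R₀` the two exceptional families and `w`, `w'` the
two characters with non-real values. -/
structure SzTable [Fintype (Cfsg.Sz F m)] (q H : ℕ) (St : IrrCharacter (Cfsg.Sz F m))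
    (Qs F₁ R₀ : Finset (IrrCharacter (Cfsg.Sz F m))) (w w' : IrrCharacter (Cfsg.Sz F m)) :
    Prop where
  split : ∀ f : IrrCharacter (Cfsg.Sz F m) → ℂ, ∑ χ, f χ = f Char.principalIrr + f St +
    ∑ χ ∈ Qs, f χ + ∑ χ ∈ F₁, f χ + ∑ χ ∈ R₀, f χ + f w + f w'
  St_val : (St : G → ℂ) 1 = (q : ℂ) ^ 2 ∧ (St : G → ℂ) (tS h 0 1) = 0 ∧
    (St : G → ℂ) (tS h 1 0) = 0 ∧ (St : G → ℂ) (tS h 1 0)⁻¹ = 0
  Qs_val : ∀ χ ∈ Qs, (χ : G → ℂ) 1 = (q : ℂ) ^ 2 + 1 ∧ (χ : G → ℂ) (tS h 0 1) = 1 ∧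
    (χ : G → ℂ) (tS h 1 0) = 1 ∧ (χ : G → ℂ) (tS h 1 0)⁻¹ = 1
  F₁_val : ∀ χ ∈ F₁, (χ : G → ℂ) 1 = ((q : ℂ) - 1) * ((q : ℂ) + 1 - 2 * H) ∧
    (χ : G → ℂ) (tS h 0 1) = 2 * (H : ℂ) - 1 ∧ (χ : G → ℂ) (tS h 1 0) = -1 ∧
    (χ : G → ℂ) (tS h 1 0)⁻¹ = -1
  R₀_val : ∀ χ ∈ R₀, (χ : G → ℂ) 1 = ((q : ℂ) - 1) * ((q : ℂ) + 2 * H + 1) ∧
    (χ : G → ℂ) (tS h 0 1) = -(2 * (H : ℂ) + 1) ∧ (χ : G → ℂ) (tS h 1 0) = -1 ∧
    (χ : G → ℂ) (tS h 1 0)⁻¹ = -1
  w_val : (w : G → ℂ) 1 = ((q : ℂ) - 1) * H ∧ (w : G → ℂ) (tS h 0 1) = -(H : ℂ) ∧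
    (w : G → ℂ) (tS h 1 0) = (H : ℂ) * Complex.I ∧
    (w : G → ℂ) (tS h 1 0)⁻¹ = -((H : ℂ) * Complex.I)
  w'_val : (w' : G → ℂ) 1 = ((q : ℂ) - 1) * H ∧ (w' : G → ℂ) (tS h 0 1) = -(H : ℂ) ∧
    (w' : G → ℂ) (tS h 1 0) = -((H : ℂ) * Complex.I) ∧
    (w' : G → ℂ) (tS h 1 0)⁻¹ = (H : ℂ) * Complex.I
  card_Qs : 2 * Qs.card + 2 = q
  card_exc : 2 * (F₁.card + R₀.card) = q

/-- Existence of the table. -/
theorem exists_table [Fintype (Cfsg.Sz F m)] {q H : ℕ} (hq : qq = q) (hH : hh = H) :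
    ∃ St Qs F₁ R₀ w w', SzTable h q H St Qs F₁ R₀ w w' := by
  classical
  obtain ⟨C, n, bb, dd, ss, d⟩ := exists_szSums h hq hH
  obtain ⟨hall, -⟩ := cuspidal_table h hq hH d
  obtain ⟨St, Qs, hSt, hQs, hN, hsplit⟩ := d.principal
  have hqh : q = 2 * H ^ 2 := by rw [← hq, ← hH]; exact (borelData h).q_eq
  have hH2 : 2 ≤ H := by rw [← hH]; exact Nat.le_self_pow (by have := h.one_le; omega) 2
  have hHsq : (2 : ℤ) * H ≤ (H : ℤ) ^ 2 := by
    rw [pow_two]; exact mul_le_mul_of_nonneg_right (by exact_mod_cast hH2) (Int.natCast_nonneg H)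
  have hqZ : (q : ℤ) = 2 * (H : ℤ) ^ 2 := by exact_mod_cast hqh
  obtain ⟨w₀, w₁, hne, hw₀, hw₁, hd₀, hd₁, hoff⟩ := exists_pair d.sum_dd
  have hcls : ∀ χ ∈ C, (dd χ = 0 ∧ bb χ = 1 ∧
      (n χ = (q : ℤ) + 1 - 2 * H ∨ n χ = (q : ℤ) + 2 * H + 1)) ∨
      ((χ = w₀ ∨ χ = w₁) ∧ bb χ = 0 ∧ n χ = H) := by
    intro χ hχ
    rcases hall χ hχ with ⟨e1, e2, e3⟩ | ⟨e1, e2, e3⟩ | ⟨e1, e2, e3⟩
    · exact Or.inl ⟨e3, e2, Or.inl e1⟩
    · exact Or.inl ⟨e3, e2, Or.inr e1⟩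
    · refine Or.inr ⟨?_, e2, e1⟩
      by_contra hc
      push Not at hc
      have := hoff χ hχ hc.1 hc.2
      omega
  have hwv : ∀ χ, χ = w₀ ∨ χ = w₁ → χ ∈ C → (dd χ = 1 ∨ dd χ = -1) → bb χ = 0 ∧ n χ = H := by
    intro χ _ hχ hd
    rcases hcls χ hχ with ⟨e, -, -⟩ | ⟨-, e1, e2⟩
    · omega
    · exact ⟨e1, e2⟩
  obtain ⟨hb₀, hn₀⟩ := hwv w₀ (Or.inl rfl) hw₀ hd₀
  obtain ⟨hb₁, hn₁⟩ := hwv w₁ (Or.inr rfl) hw₁ hd₁
  -- order the pair by the sign
  have hsum : dd w₀ + dd w₁ = 0 := by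
    have e := d.sum_nd
    have hsub : ({w₀, w₁} : Finset (IrrCharacter G)) ⊆ C := by
      intro x hx; simp only [Finset.mem_insert, Finset.mem_singleton] at hx
      rcases hx with rfl | rfl
      exacts [hw₀, hw₁]
    rw [← Finset.sum_subset hsub (fun x hx hn => by
      simp only [Finset.mem_insert, Finset.mem_singleton, not_or] at hn
      rw [hoff x hx hn.1 hn.2, mul_zero]), Finset.sum_pair hne, hn₀, hn₁, ← mul_add] at e
    exact (mul_eq_zero.1 e).resolve_left (by omega)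
  obtain ⟨w, w', hww, hw, hw', hdw, hdw', hbw, hbw', hnw, hnw', hor⟩ :
      ∃ w w', w ≠ w' ∧ w ∈ C ∧ w' ∈ C ∧ dd w = 1 ∧ dd w' = -1 ∧ bb w = 0 ∧ bb w' = 0 ∧
        n w = H ∧ n w' = H ∧ ∀ χ, (χ = w₀ ∨ χ = w₁) ↔ (χ = w ∨ χ = w') := by
    rcases hd₀ with e | e
    · exact ⟨w₀, w₁, hne, hw₀, hw₁, e, by omega, hb₀, hb₁, hn₀, hn₁, fun _ => Iff.rfl⟩
    · exact ⟨w₁, w₀, hne.symm, hw₁, hw₀, by omega, e, hb₁, hb₀, hn₁, hn₀, fun _ => or_comm⟩
  let F₁ := C.filter fun χ => n χ = (q : ℤ) + 1 - 2 * H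
  let R₀ := C.filter fun χ => n χ = (q : ℤ) + 2 * H + 1
  have hF₁ : ∀ χ ∈ F₁, χ ∈ C ∧ dd χ = 0 ∧ bb χ = 1 ∧ n χ = (q : ℤ) + 1 - 2 * H := by
    intro χ hχ
    obtain ⟨hC, hn⟩ := Finset.mem_filter.1 hχ
    rcases hcls χ hC with ⟨e1, e2, -⟩ | ⟨-, -, e⟩
    · exact ⟨hC, e1, e2, hn⟩
    · exfalso; omega
  have hR₀ : ∀ χ ∈ R₀, χ ∈ C ∧ dd χ = 0 ∧ bb χ = 1 ∧ n χ = (q : ℤ) + 2 * H + 1 := by
    intro χ hχ
    obtain ⟨hC, hn⟩ := Finset.mem_filter.1 hχ
    rcases hcls χ hC with ⟨e1, e2, -⟩ | ⟨-, -, e⟩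
    · exact ⟨hC, e1, e2, hn⟩
    · exfalso; omega
  have hCsplit : ∀ {M : Type} [AddCommMonoid M] (f : IrrCharacter G → M),
      ∑ χ ∈ C, f χ = ∑ χ ∈ F₁, f χ + ∑ χ ∈ R₀, f χ + (f w + f w') := by
    intro M _ f
    have hC : C = F₁ ∪ R₀ ∪ {w, w'} := by
      ext χ
      simp only [Finset.mem_union, Finset.mem_insert, Finset.mem_singleton]
      constructor
      · intro hχ
        rcases hcls χ hχ with ⟨-, -, e | e⟩ | ⟨e, -, -⟩
        · exact Or.inl (Or.inl (Finset.mem_filter.2 ⟨hχ, e⟩))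
        · exact Or.inl (Or.inr (Finset.mem_filter.2 ⟨hχ, e⟩))
        · exact Or.inr ((hor χ).1 e)
      · rintro ((e | e) | rfl | rfl)
        exacts [(hF₁ χ e).1, (hR₀ χ e).1, hw, hw']
    rw [hC, Finset.sum_union, Finset.sum_union, Finset.sum_pair hww]
    · refine Finset.disjoint_left.2 fun χ h1 h2 => ?_
      have := (hF₁ χ h1).2.2.2
      have := (hR₀ χ h2).2.2.2
      omega
    · refine Finset.disjoint_left.2 fun χ h1 h2 => ?_
      simp only [Finset.mem_insert, Finset.mem_singleton] at h2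
      rcases Finset.mem_union.1 h1 with e | e <;> rcases h2 with rfl | rfl
      · have := (hF₁ χ e).2.1; omega
      · have := (hF₁ χ e).2.1; omega
      · have := (hR₀ χ e).2.1; omega
      · have := (hR₀ χ e).2.1; omega
  have hcard : 2 * (F₁.card + R₀.card) = q := by
    have e := d.sum_bb
    rw [hCsplit, Finset.sum_congr rfl (g := fun _ => (1 : ℤ))
      (fun χ hχ => by rw [(hF₁ χ hχ).2.2.1, one_pow]),
      Finset.sum_congr rfl (g := fun _ => (1 : ℤ)) (s₁ := R₀)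
      (fun χ hχ => by rw [(hR₀ χ hχ).2.2.1, one_pow]), hbw, hbw'] at e
    simp only [Finset.sum_const, nsmul_eq_mul, mul_one] at e
    omega
  refine ⟨St, Qs, F₁, R₀, w, w', ?_, hSt, hQs, fun χ hχ => ?_, fun χ hχ => ?_, ?_, ?_,
    by omega, hcard⟩
  · intro f
    rw [hsplit f, hCsplit f]
    ring
  · obtain ⟨hC, e1, e2, e3⟩ := hF₁ χ hχ
    rw [d.deg χ hC, d.val_z χ hC, d.val_u χ hC, d.val_u_inv χ hC, e1, e2, e3]
    push_cast
    refine ⟨by ring, by ring, by ring, by ring⟩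
  · obtain ⟨hC, e1, e2, e3⟩ := hR₀ χ hχ
    rw [d.deg χ hC, d.val_z χ hC, d.val_u χ hC, d.val_u_inv χ hC, e1, e2, e3]
    push_cast
    refine ⟨by ring, by ring, by ring, by ring⟩
  · rw [d.deg w hw, d.val_z w hw, d.val_u w hw, d.val_u_inv w hw, hdw, hbw, hnw]
    push_cast
    refine ⟨by ring, by ring, by ring, by ring⟩
  · rw [d.deg w' hw', d.val_z w' hw', d.val_u w' hw', d.val_u_inv w' hw', hdw', hbw', hnw']
    push_cast
    refine ⟨by ring, by ring, by ring, by ring⟩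

variable [Fintype (Cfsg.Sz F m)] {q H : ℕ} {St : IrrCharacter (Cfsg.Sz F m)}
  {Qs F₁ R₀ : Finset (IrrCharacter (Cfsg.Sz F m))} {w w' : IrrCharacter (Cfsg.Sz F m)}

/-- The values at elements of the split torus. -/
theorem values_torus (hq : qq = q) (hH : hh = H) (t : SzTable h q H St Qs F₁ R₀ w w') {g : G} (hg : g ≠ 1)
    (hord : orderOf g ∣ q - 1) :
    (∀ χ ∈ F₁, (χ : G → ℂ) g = 0) ∧ (∀ χ ∈ R₀, (χ : G → ℂ) g = 0) ∧ (w : G → ℂ) g = 0 ∧
      (w' : G → ℂ) g = 0 ∧ ∑ χ ∈ Qs, (χ : G → ℂ) g = -1 ∧ (St : G → ℂ) g = 1 := by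
  classical
  have hq8 : 8 ≤ q := hq ▸ (borelData h).two_le
  have hcard : Nat.card G = (q - 1) * ((q ^ 2) * (q ^ 2 + 1)) := by
    rw [CfsgLib.Suzuki.card h, hq]; ring
  have hco : Nat.Coprime (q - 1) (q ^ 2 * (q ^ 2 + 1)) := by
    refine Nat.Coprime.mul_right (Nat.Coprime.pow_right 2 ?_) ?_
    · have := (Nat.coprime_self_add_left (m := q - 1) (n := 1)).2 (Nat.coprime_one_left _)
      rw [Nat.sub_add_cancel (by omega)] at this
      exact this.symm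
    · have := coprime_Q h
      rw [hq] at this
      exact (Nat.Coprime.coprime_mul_left_right this).symm
  have hvan : ∀ (χ : IrrCharacter G) (N : ℕ), (χ : G → ℂ) 1 = ((q : ℂ) - 1) * (N : ℂ) →
      (χ : G → ℂ) g = 0 := fun χ N e =>
    irr_eq_zero_of_hall_dvd χ hcard hco (d := (q - 1) * N)
      (by rw [e, Nat.cast_mul, Nat.cast_sub (by omega), Nat.cast_one]) (dvd_mul_right _ _) hg hord
  have h2H : 2 * H ≤ q + 1 := by
    have h0 : 2 * H ≤ q := by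
      rw [← hq, ← hH, ← pow_succ']
      exact Nat.pow_le_pow_right two_pos (by omega)
    omega
  have hF : ∀ χ ∈ F₁, (χ : G → ℂ) g = 0 := fun χ hχ => hvan χ (q + 1 - 2 * H) (by
    rw [(t.F₁_val χ hχ).1, Nat.cast_sub h2H]; push_cast; ring)
  have hR : ∀ χ ∈ R₀, (χ : G → ℂ) g = 0 := fun χ hχ => hvan χ (q + 2 * H + 1) (by
    rw [(t.R₀_val χ hχ).1]; push_cast; ring)
  have hw := hvan w H t.w_val.1
  have hw' := hvan w' H t.w'_val.1
  refine ⟨hF, hR, hw, hw', ?_⟩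
  have hgu : ∀ x : G, ¬ orderOf x ∣ q - 1 → ¬ IsConj g x := fun x hx hc => hx (by
    obtain ⟨c, rfl⟩ := isConj_iff.1 hc
    rwa [show c * g * c⁻¹ = MulAut.conj c g from rfl, MulEquiv.orderOf_eq])
  have hodd : ¬ 2 ∣ q - 1 := by
    have : 2 ∣ q := hq ▸ dvd_pow_self 2 (by omega)
    omega
  have hu2 : 2 ∣ orderOf (tS h 1 0) := by
    have hne : tS h 1 0 ≠ 1 := fun e => one_ne_zero ((tS_eq_one h).1 e).1
    obtain ⟨a, ha⟩ := IsPGroup.iff_orderOf.1 (isPGroup_tGroup h) ⟨_, tS_mem_tGroup h 1 0⟩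
    rw [Subgroup.orderOf_mk] at ha
    rw [ha]
    rcases a with _ | a
    · exact absurd (orderOf_eq_one_iff.1 (by rw [ha, pow_zero])) hne
    · exact dvd_pow_self 2 a.succ_ne_zero
  have e1 := Char.sum_mul_conj g (tS h 1 0)
  rw [if_neg (hgu _ fun e => hodd (hu2.trans e)), t.split, t.St_val.2.2.1,
    Finset.sum_congr rfl (g := fun χ : IrrCharacter G => (χ : G → ℂ) g)
      (fun χ hχ => by rw [(t.Qs_val χ hχ).2.2.1, map_one, mul_one]),
    Finset.sum_eq_zero (s := F₁) fun χ hχ => by rw [hF χ hχ, zero_mul],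
    Finset.sum_eq_zero (s := R₀) fun χ hχ => by rw [hR χ hχ, zero_mul], hw, hw'] at e1
  simp only [Char.principalIrr_apply, map_zero, map_one, mul_zero, zero_mul, mul_one,
    add_zero] at e1
  have hQ : ∑ χ ∈ Qs, (χ : G → ℂ) g = -1 := by linear_combination e1
  refine ⟨hQ, ?_⟩
  have e2 := Char.sum_mul_conj g 1
  rw [if_neg (fun hc => hg (isConj_one_left.1 hc)), t.split, t.St_val.1,
    Finset.sum_congr rfl (g := fun χ : IrrCharacter G => ((q : ℂ) ^ 2 + 1) * (χ : G → ℂ) g)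
      (fun χ hχ => by
        rw [(t.Qs_val χ hχ).1, map_add, map_pow, map_one, Complex.conj_natCast, mul_comm]),
    ← Finset.mul_sum, hQ,
    Finset.sum_eq_zero (s := F₁) fun χ hχ => by rw [hF χ hχ, zero_mul],
    Finset.sum_eq_zero (s := R₀) fun χ hχ => by rw [hR χ hχ, zero_mul], hw, hw'] at e2
  simp only [Char.principalIrr_apply, map_one, mul_one, zero_mul, add_zero, map_pow,
    Complex.conj_natCast] at e2
  refine mul_right_cancel₀ (pow_ne_zero 2 (Nat.cast_ne_zero.2 (show q ≠ 0 by omega))) ?_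
  linear_combination e2

/-- Vanishing at the elements of an exceptional torus, and column orthogonality there. -/
theorem values_exc_aux (hq : qq = q) (t : SzTable h q H St Qs F₁ R₀ w w') {A B : ℕ}
    (hAB : A * B = q ^ 2 + 1) (hco : Nat.Coprime A B) {g : G} (hg : g ≠ 1)
    (hord : orderOf g ∣ A) :
    (∀ χ ∈ Qs, (χ : G → ℂ) g = 0) ∧
      (∀ (χ : IrrCharacter G) (N : ℕ), (χ : G → ℂ) 1 = ((q : ℂ) - 1) * ((A * N : ℕ) : ℂ) →
        (χ : G → ℂ) g = 0) ∧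
      1 + ∑ χ ∈ F₁, (χ : G → ℂ) g * (-1) + ∑ χ ∈ R₀, (χ : G → ℂ) g * (-1) +
        (w : G → ℂ) g * -((H : ℂ) * Complex.I) + (w' : G → ℂ) g * ((H : ℂ) * Complex.I) = 0 ∧
      1 + ∑ χ ∈ F₁, (χ : G → ℂ) g * (-1) + ∑ χ ∈ R₀, (χ : G → ℂ) g * (-1) +
        (w : G → ℂ) g * ((H : ℂ) * Complex.I) + (w' : G → ℂ) g * -((H : ℂ) * Complex.I) = 0 ∧
      1 + ∑ χ ∈ F₁, (χ : G → ℂ) g * (2 * (H : ℂ) - 1) +
        ∑ χ ∈ R₀, (χ : G → ℂ) g * -(2 * (H : ℂ) + 1) +
        (w : G → ℂ) g * -(H : ℂ) + (w' : G → ℂ) g * -(H : ℂ) = 0 ∧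
      1 + (St : G → ℂ) g * (q : ℂ) ^ 2 +
        ∑ χ ∈ F₁, (χ : G → ℂ) g * (((q : ℂ) - 1) * ((q : ℂ) + 1 - 2 * H)) +
        ∑ χ ∈ R₀, (χ : G → ℂ) g * (((q : ℂ) - 1) * ((q : ℂ) + 2 * H + 1)) +
        ((w : G → ℂ) g + (w' : G → ℂ) g) * (((q : ℂ) - 1) * H) = 0 := by
  classical
  have hq8 : 8 ≤ q := hq ▸ (borelData h).two_le
  have hcard : Nat.card G = A * (B * (q ^ 2 * (q - 1))) := by
    rw [CfsgLib.Suzuki.card h, hq, ← mul_assoc A, hAB]; ring
  have hcoQ := coprime_Q h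
  rw [hq, ← hAB] at hcoQ
  have hco' : Nat.Coprime A (B * (q ^ 2 * (q - 1))) :=
    Nat.Coprime.mul_right hco (Nat.Coprime.coprime_mul_right hcoQ)
  have hQ : ∀ χ ∈ Qs, (χ : G → ℂ) g = 0 := fun χ hχ =>
    irr_eq_zero_of_hall_dvd χ hcard hco' (d := A * B)
      (by rw [(t.Qs_val χ hχ).1, hAB]; push_cast; rfl) (dvd_mul_right _ _) hg hord
  have hvan : ∀ (χ : IrrCharacter G) (N : ℕ),
      (χ : G → ℂ) 1 = ((q : ℂ) - 1) * ((A * N : ℕ) : ℂ) → (χ : G → ℂ) g = 0 := fun χ N e =>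
    irr_eq_zero_of_hall_dvd χ hcard hco' (d := (q - 1) * (A * N))
      (by rw [e, Nat.cast_mul (q - 1), Nat.cast_sub (by omega), Nat.cast_one])
      (dvd_mul_of_dvd_right (dvd_mul_right A N) _) hg hord
  have hA : ¬ 2 ∣ A := fun e => by
    have h1 : 2 ∣ q ^ 2 := dvd_pow (hq ▸ dvd_pow_self 2 (by omega)) two_ne_zero
    have h2 : 2 ∣ q ^ 2 + 1 := hAB ▸ e.trans (dvd_mul_right A B)
    omega
  have hgx : ∀ x : G, 2 ∣ orderOf x → ¬ IsConj g x := fun x hx hc => hA (by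
    obtain ⟨c, rfl⟩ := isConj_iff.1 hc
    rw [show c * g * c⁻¹ = MulAut.conj c g from rfl, MulEquiv.orderOf_eq] at hx
    exact hx.trans hord)
  have h2dvd : ∀ a b : F, tS h a b ≠ 1 → 2 ∣ orderOf (tS h a b) := by
    intro a b hne
    obtain ⟨k, hk⟩ := IsPGroup.iff_orderOf.1 (isPGroup_tGroup h) ⟨_, tS_mem_tGroup h a b⟩
    rw [Subgroup.orderOf_mk] at hk
    rcases k with _ | k
    · exact absurd (orderOf_eq_one_iff.1 (by rw [hk, pow_zero])) hne
    · rw [hk]; exact dvd_pow_self 2 k.succ_ne_zero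
  have hu := h2dvd 1 0 (fun e => one_ne_zero ((tS_eq_one h).1 e).1)
  have hu' : 2 ∣ orderOf (tS h 1 0)⁻¹ := by rwa [orderOf_inv]
  have hz := h2dvd 0 1 (fun e => one_ne_zero ((tS_eq_one h).1 e).2)
  have e1 := Char.sum_mul_conj g (tS h 1 0)
  have e2 := Char.sum_mul_conj g (tS h 1 0)⁻¹
  have e3 := Char.sum_mul_conj g (tS h 0 1)
  have e4 := Char.sum_mul_conj g 1
  rw [if_neg (hgx _ hu), t.split] at e1
  rw [if_neg (hgx _ hu'), t.split] at e2
  rw [if_neg (hgx _ hz), t.split] at e3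
  rw [if_neg (fun hc => hg (isConj_one_left.1 hc)), t.split] at e4
  rw [t.St_val.2.2.1, t.w_val.2.2.1, t.w'_val.2.2.1,
    Finset.sum_eq_zero (s := Qs) fun χ hχ => by rw [hQ χ hχ, zero_mul],
    Finset.sum_congr rfl (s₁ := F₁) (g := fun χ : IrrCharacter G => (χ : G → ℂ) g * (-1))
      (fun χ hχ => by rw [(t.F₁_val χ hχ).2.2.1, map_neg, map_one]),
    Finset.sum_congr rfl (s₁ := R₀) (g := fun χ : IrrCharacter G => (χ : G → ℂ) g * (-1))
      (fun χ hχ => by rw [(t.R₀_val χ hχ).2.2.1, map_neg, map_one])] at e1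
  rw [t.St_val.2.2.2, t.w_val.2.2.2, t.w'_val.2.2.2,
    Finset.sum_eq_zero (s := Qs) fun χ hχ => by rw [hQ χ hχ, zero_mul],
    Finset.sum_congr rfl (s₁ := F₁) (g := fun χ : IrrCharacter G => (χ : G → ℂ) g * (-1))
      (fun χ hχ => by rw [(t.F₁_val χ hχ).2.2.2, map_neg, map_one]),
    Finset.sum_congr rfl (s₁ := R₀) (g := fun χ : IrrCharacter G => (χ : G → ℂ) g * (-1))
      (fun χ hχ => by rw [(t.R₀_val χ hχ).2.2.2, map_neg, map_one])] at e2
  rw [t.St_val.2.1, t.w_val.2.1, t.w'_val.2.1,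
    Finset.sum_eq_zero (s := Qs) fun χ hχ => by rw [hQ χ hχ, zero_mul],
    Finset.sum_congr rfl (s₁ := F₁)
      (g := fun χ : IrrCharacter G => (χ : G → ℂ) g * (2 * (H : ℂ) - 1))
      (fun χ hχ => by
        rw [(t.F₁_val χ hχ).2.1]; simp only [map_sub, map_mul, map_ofNat, map_one,
          Complex.conj_natCast]),
    Finset.sum_congr rfl (s₁ := R₀)
      (g := fun χ : IrrCharacter G => (χ : G → ℂ) g * -(2 * (H : ℂ) + 1))
      (fun χ hχ => by
        rw [(t.R₀_val χ hχ).2.1]; simp only [map_neg, map_add, map_mul, map_ofNat, map_one,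
          Complex.conj_natCast])] at e3
  rw [t.St_val.1, t.w_val.1, t.w'_val.1,
    Finset.sum_eq_zero (s := Qs) fun χ hχ => by rw [hQ χ hχ, zero_mul],
    Finset.sum_congr rfl (s₁ := F₁) (g := fun χ : IrrCharacter G =>
      (χ : G → ℂ) g * (((q : ℂ) - 1) * ((q : ℂ) + 1 - 2 * H)))
      (fun χ hχ => by
        rw [(t.F₁_val χ hχ).1]; simp only [map_sub, map_add, map_mul, map_ofNat, map_one,
          Complex.conj_natCast]),
    Finset.sum_congr rfl (s₁ := R₀) (g := fun χ : IrrCharacter G =>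
      (χ : G → ℂ) g * (((q : ℂ) - 1) * ((q : ℂ) + 2 * H + 1)))
      (fun χ hχ => by
        rw [(t.R₀_val χ hχ).1]; simp only [map_sub, map_add, map_mul, map_ofNat, map_one,
          Complex.conj_natCast])] at e4
  simp only [Char.principalIrr_apply, map_one, mul_one, one_mul, map_zero, mul_zero, add_zero,
    map_neg, map_mul, map_sub, map_pow, Complex.conj_natCast, Complex.conj_I] at e1 e2 e3 e4
  refine ⟨hQ, hvan, ?_, ?_, ?_, ?_⟩
  · linear_combination e1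
  · linear_combination e2
  · linear_combination e3
  · linear_combination e4

/-- The values at the larger exceptional torus. -/
theorem values_large (hq : qq = q) (hH : hh = H) (t : SzTable h q H St Qs F₁ R₀ w w') {g : G}
    (hg : g ≠ 1) (hord : orderOf g ∣ q + 2 * H + 1) :
    (∀ χ ∈ Qs, (χ : G → ℂ) g = 0) ∧ (∀ χ ∈ R₀, (χ : G → ℂ) g = 0) ∧
      ∑ χ ∈ F₁, (χ : G → ℂ) g = 1 ∧ (w : G → ℂ) g = 1 ∧ (w' : G → ℂ) g = 1 ∧
      (St : G → ℂ) g = -1 := by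
  classical
  have hqh : q = 2 * H ^ 2 := by rw [← hq, ← hH]; exact (borelData h).q_eq
  have hH2 : 2 ≤ H := by rw [← hH]; exact Nat.le_self_pow (by have := h.one_le; omega) 2
  have hle : 2 * H ≤ q := by rw [hqh]; have := Nat.le_self_pow two_ne_zero H; omega
  have hqC : (q : ℂ) = 2 * (H : ℂ) ^ 2 := by rw [hqh]; push_cast; rfl
  obtain ⟨hQ, hvan, e1, e2, e3, e4⟩ := values_exc_aux h hq t (B := q + 1 - 2 * H)
    (by zify [show 2 * H ≤ q + 1 by omega]; rw [show (q : ℤ) = 2 * (H : ℤ) ^ 2 by exact_mod_cast hqh]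
        ring) (coprime_exc h hq hH) hg hord
  have hR : ∀ χ ∈ R₀, (χ : G → ℂ) g = 0 := fun χ hχ => hvan χ 1 (by
    rw [(t.R₀_val χ hχ).1]; push_cast; ring)
  have h0 : ∀ c : ℂ, ∑ χ ∈ R₀, (χ : G → ℂ) g * c = 0 := fun c =>
    Finset.sum_eq_zero fun χ hχ => by rw [hR χ hχ, zero_mul]
  simp only [h0, ← Finset.sum_mul, add_zero] at e1 e2 e3 e4
  have hH0 : (H : ℂ) ≠ 0 := Nat.cast_ne_zero.2 (by omega)
  have hw : (w : G → ℂ) g = (w' : G → ℂ) g :=
    mul_right_cancel₀ (mul_ne_zero two_ne_zero (mul_ne_zero hH0 Complex.I_ne_zero))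
      (by linear_combination e2 - e1)
  rw [← hw] at e1 e3 e4
  have hS : ∑ χ ∈ F₁, (χ : G → ℂ) g = 1 := by linear_combination -e1
  rw [hS] at e3 e4
  have hw1 : (w : G → ℂ) g = 1 :=
    mul_right_cancel₀ (mul_ne_zero two_ne_zero hH0) (by linear_combination -e3)
  rw [hw1] at e4
  refine ⟨hQ, hR, hS, hw1, hw ▸ hw1, mul_right_cancel₀
    (pow_ne_zero 2 (show (q : ℂ) ≠ 0 from Nat.cast_ne_zero.2 (by omega))) ?_⟩
  linear_combination e4

/-- The values at the smaller exceptional torus. -/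
theorem values_small (hq : qq = q) (hH : hh = H) (t : SzTable h q H St Qs F₁ R₀ w w') {g : G}
    (hg : g ≠ 1) (hord : orderOf g ∣ q + 1 - 2 * H) :
    (∀ χ ∈ Qs, (χ : G → ℂ) g = 0) ∧ (∀ χ ∈ F₁, (χ : G → ℂ) g = 0) ∧
      ∑ χ ∈ R₀, (χ : G → ℂ) g = 1 ∧ (w : G → ℂ) g = -1 ∧ (w' : G → ℂ) g = -1 ∧
      (St : G → ℂ) g = -1 := by
  classical
  have hqh : q = 2 * H ^ 2 := by rw [← hq, ← hH]; exact (borelData h).q_eq
  have hH2 : 2 ≤ H := by rw [← hH]; exact Nat.le_self_pow (by have := h.one_le; omega) 2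
  have hle : 2 * H ≤ q + 1 := by rw [hqh]; have := Nat.le_self_pow two_ne_zero H; omega
  obtain ⟨hQ, hvan, e1, e2, e3, e4⟩ := values_exc_aux h hq t (B := q + 2 * H + 1)
    (by zify [hle]; rw [show (q : ℤ) = 2 * (H : ℤ) ^ 2 by exact_mod_cast hqh]; ring)
    (coprime_exc h hq hH).symm hg hord
  have hF : ∀ χ ∈ F₁, (χ : G → ℂ) g = 0 := fun χ hχ => hvan χ 1 (by
    rw [(t.F₁_val χ hχ).1, mul_one, Nat.cast_sub hle]; push_cast; ring)
  have h0 : ∀ c : ℂ, ∑ χ ∈ F₁, (χ : G → ℂ) g * c = 0 := fun c =>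
    Finset.sum_eq_zero fun χ hχ => by rw [hF χ hχ, zero_mul]
  simp only [h0, ← Finset.sum_mul, add_zero] at e1 e2 e3 e4
  have hH0 : (H : ℂ) ≠ 0 := Nat.cast_ne_zero.2 (by omega)
  have hw : (w : G → ℂ) g = (w' : G → ℂ) g :=
    mul_right_cancel₀ (mul_ne_zero two_ne_zero (mul_ne_zero hH0 Complex.I_ne_zero))
      (by linear_combination e2 - e1)
  rw [← hw] at e1 e3 e4
  have hS : ∑ χ ∈ R₀, (χ : G → ℂ) g = 1 := by linear_combination -e1
  rw [hS] at e3 e4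
  have hw1 : (w : G → ℂ) g = -1 :=
    mul_right_cancel₀ (mul_ne_zero two_ne_zero hH0) (by linear_combination -e3)
  rw [hw1] at e4
  refine ⟨hQ, hF, hS, hw1, hw ▸ hw1, mul_right_cancel₀
    (pow_ne_zero 2 (show (q : ℂ) ≠ 0 from Nat.cast_ne_zero.2 (by omega))) ?_⟩
  linear_combination e4

end CfsgLib.SzChar
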